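import Groth.Agent.Lib.CohDesc25.Descent

/-!
# The Cech nerve of a map with a section
-/

set_option autoImplicit false
set_option backward.isDefEq.respectTransparency false
set_option backward.isDefEq.respectTransparency.types false

universe u

open CategoryTheory CategoryTheory.Limits Opposite TopologicalSpace Simplicial

namespace GrothLib.CohDesc25

open FibDesc

/-- Adding a first vertex. -/
def shiftΔ : SimplexCategory ⥤ SimplexCategory where
  obj n := .mk (n.len + 1)
  map {n m} a := SimplexCategory.Hom.mk
    { toFun := Fin.cases 0 (fun i => (a.toOrderHom i).succ)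
      monotone' := fun i j h => by
        induction i using Fin.cases with
        | zero => exact Fin.zero_le _
        | succ i =>
          induction j using Fin.cases with
          | zero => exact absurd h (by simp [Fin.le_def])
          | succ j => simpa using a.toOrderHom.monotone (Fin.succ_le_succ_iff.1 h) }
  map_id n := by
    apply SimplexCategory.Hom.ext
    ext i : 2
    induction i using Fin.cases <;> simp
  map_comp a b := by
    apply SimplexCategory.Hom.ext
    ext i : 2
    induction i using Fin.cases <;> simp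

/-- The added face. -/
def faceΔ : 𝟭 SimplexCategory ⟶ shiftΔ where
  app n := SimplexCategory.Hom.mk ⟨Fin.succ, fun _ _ h => Fin.succ_le_succ_iff.2 h⟩
  naturality n m a := by
    apply SimplexCategory.Hom.ext
    ext i : 2
    rfl

/-- The added vertex. -/
def vertexΔ (n : SimplexCategory) : SimplexCategory.mk 0 ⟶ shiftΔ.obj n :=
  SimplexCategory.Hom.mk ⟨fun _ => 0, fun _ _ _ => le_rfl⟩

theorem vertexΔ_nat {n m : SimplexCategory} (a : n ⟶ m) : vertexΔ n ≫ shiftΔ.map a = vertexΔ m := by
  apply SimplexCategory.Hom.ext
  ext i : 2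
  rfl

variable {X S : TopCat.{u}} (f : X ⟶ S) (s : S ⟶ X) (h : s ≫ f = 𝟙 S)

/-- The spaces of the nerve. -/
noncomputable abbrev cN (n : SimplexCategory) : TopCat.{u} :=
  widePullback S (fun _ : Fin (n.len + 1) => X) (fun _ => f)

/-- The structure map of the nerve. -/
noncomputable abbrev cBase (n : SimplexCategory) : cN f n ⟶ S :=
  WidePullback.base (fun _ : Fin (n.len + 1) => f)

/-- The projections of the nerve. -/
noncomputable abbrev cπ (n : SimplexCategory) (i : Fin (n.len + 1)) : cN f n ⟶ X :=
  WidePullback.π (fun _ : Fin (n.len + 1) => f) i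

theorem cech_map_π {n m : SimplexCategory} (a : n ⟶ m) (i : Fin (n.len + 1)) :
    (cechAug f).map ((toAug SimplexCategory).map a.op) ≫ cπ f n i = cπ f m (a.toOrderHom i) :=
  WidePullback.lift_π _ _ _ _ _

theorem cech_map_base {n m : SimplexCategory} (a : n ⟶ m) :
    (cechAug f).map ((toAug SimplexCategory).map a.op) ≫ cBase f n = cBase f m :=
  WidePullback.lift_base _ _ _ _

theorem cech_toBot (n : SimplexCategory) :
    (cechAug f).map (toBot ((toAug SimplexCategory).obj (op n))) = cBase f n := rfl

include h in
/-- The extra degeneracy. -/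
theorem cσ_fac (n : SimplexCategory) (i : Fin ((shiftΔ.obj n).len + 1)) :
    (Fin.cases (motive := fun _ => cN f n ⟶ X) (cBase f n ≫ s) (fun k => cπ f n k) i) ≫ f = cBase f n := by
  induction i using Fin.cases with
  | zero => exact (Category.assoc _ _ _).trans ((congrArg (fun t => cBase f n ≫ t) h).trans (Category.comp_id _))
  | succ k => exact WidePullback.π_arrow _ k

/-- The extra degeneracy. -/
noncomputable def cσ (n : SimplexCategory) : cN f n ⟶ cN f (shiftΔ.obj n) :=
  WidePullback.lift (cBase f n) (Fin.cases (motive := fun _ => cN f n ⟶ X) (cBase f n ≫ s) (fun k => cπ f n k))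
    (cσ_fac f s h n)

theorem cσ_π_zero (n : SimplexCategory) : cσ f s h n ≫ cπ f (shiftΔ.obj n) 0 = cBase f n ≫ s :=
  WidePullback.lift_π _ _ _ _ _

theorem cσ_π_succ (n : SimplexCategory) (k : Fin (n.len + 1)) :
    cσ f s h n ≫ cπ f (shiftΔ.obj n) k.succ = cπ f n k :=
  WidePullback.lift_π _ _ _ _ _

theorem cσ_base (n : SimplexCategory) : cσ f s h n ≫ cBase f (shiftΔ.obj n) = cBase f n :=
  WidePullback.lift_base _ _ _ _

/-- The section into degree zero. -/
noncomputable def cs : S ⟶ cN f (SimplexCategory.mk 0) :=
  WidePullback.lift (𝟙 S) (fun _ => s) (fun _ => h)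

theorem cs_base : cs f s h ≫ cBase f (SimplexCategory.mk 0) = 𝟙 S :=
  WidePullback.lift_base _ _ _ _

theorem cs_π (i : Fin ((SimplexCategory.mk 0).len + 1)) :
    cs f s h ≫ cπ f (SimplexCategory.mk 0) i = s :=
  WidePullback.lift_π _ _ _ _ _

/-- A section gives an extra degeneracy of the augmented Cech nerve. -/
noncomputable def cechRetraction : Retraction (cechAug f) where
  ψ := shiftΔ
  δ := faceΔ
  i₀ := SimplexCategory.mk 0
  v := vertexΔ
  v_nat := vertexΔ_nat
  σ j := cσ f s h j.unop
  σ_nat {j k} a := by
    obtain ⟨n⟩ := j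
    obtain ⟨m⟩ := k
    obtain ⟨a, rfl⟩ : ∃ a' : m ⟶ n, a = a'.op := ⟨a.unop, rfl⟩
    refine WidePullback.hom_ext (C := TopCat.{u}) (fun _ : Fin ((shiftΔ.obj m).len + 1) => f) _ _ (fun i => ?_) ?_
    · refine (Category.assoc _ _ _).trans (Eq.trans ?_ (Category.assoc _ _ _).symm)
      refine Eq.trans ?_ (congrArg (fun t => cσ f s h n ≫ t) (cech_map_π f (shiftΔ.map a) i)).symm
      induction i using Fin.cases with
      | zero =>
        refine (congrArg (fun t => _ ≫ t) (cσ_π_zero f s h m)).trans ?_
        refine Eq.trans ?_ (cσ_π_zero f s h n).symm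
        exact (Category.assoc _ _ _).symm.trans (congrArg (fun t => t ≫ s) (cech_map_base f a))
      | succ i =>
        refine (congrArg (fun t => _ ≫ t) (cσ_π_succ f s h m i)).trans ?_
        refine Eq.trans ?_ (cσ_π_succ f s h n (a.toOrderHom i)).symm
        exact cech_map_π f a i
    · refine (Category.assoc _ _ _).trans (Eq.trans ?_ (Category.assoc _ _ _).symm)
      refine (congrArg (fun t => _ ≫ t) (cσ_base f s h m)).trans ?_
      refine (cech_map_base f a).trans ?_
      exact ((congrArg (fun t => cσ f s h n ≫ t) (cech_map_base f (shiftΔ.map a))).trans (cσ_base f s h n)).symm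
  σ_δ j := by
    obtain ⟨n⟩ := j
    refine WidePullback.hom_ext (C := TopCat.{u}) (fun _ : Fin (n.len + 1) => f) _ _ (fun i => ?_) ?_
    · refine (Category.assoc _ _ _).trans (Eq.trans ?_ (Category.id_comp _).symm)
      refine (congrArg (fun t => cσ f s h n ≫ t) (cech_map_π f (faceΔ.app n) i)).trans ?_
      exact cσ_π_succ f s h n i
    · refine (Category.assoc _ _ _).trans (Eq.trans ?_ (Category.id_comp _).symm)
      refine (congrArg (fun t => cσ f s h n ≫ t) (cech_map_base f (faceΔ.app n))).trans ?_
      exact cσ_base f s h n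
  s := cs f s h
  s_aug := cs_base f s h
  σ_v j := by
    obtain ⟨n⟩ := j
    refine WidePullback.hom_ext (C := TopCat.{u}) (fun _ : Fin ((SimplexCategory.mk 0).len + 1) => f) _ _ (fun i => ?_) ?_
    · refine (Category.assoc _ _ _).trans (Eq.trans ?_ (Category.assoc _ _ _).symm)
      refine (congrArg (fun t => cσ f s h n ≫ t) (cech_map_π f (vertexΔ n) i)).trans ?_
      refine Eq.trans ?_ (congrArg (fun t => cBase f n ≫ t) (cs_π f s h i)).symm
      exact cσ_π_zero f s h n
    · refine (Category.assoc _ _ _).trans (Eq.trans ?_ (Category.assoc _ _ _).symm)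
      refine (congrArg (fun t => cσ f s h n ≫ t) (cech_map_base f (vertexΔ n))).trans ?_
      refine (cσ_base f s h n).trans ?_
      exact ((congrArg (fun t => cBase f n ≫ t) (cs_base f s h)).trans (Category.comp_id _)).symm

include h in
/-- A map with a section is of cohomological descent. -/
theorem isCohDescentMap_of_section : FibDesc.IsCohDescentMap f :=
  isCohDescentTop_of_retraction (cechRetraction f s h)

include h in
/-- A map with a section is universally of cohomological descent. -/
theorem isUnivCohDescentMap_of_section : FibDesc.IsUnivCohDescentMap f := fun S' g =>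
  isCohDescentMap_of_section (pullback.snd f g) (pullback.lift (g ≫ s) (𝟙 S') (by
    rw [Category.assoc, h, Category.comp_id, Category.id_comp])) (pullback.lift_snd _ _ _)

end GrothLib.CohDesc25
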