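import Groth.Agent.Lib.CohDesc25.RestrLocal
import Groth.Agent.Lib.CohDesc25.Cech
import Mathlib.Topology.IsLocalHomeomorph

/-!
# Cech nerves of base changes to open subsets
-/

set_option autoImplicit false
set_option backward.isDefEq.respectTransparency false
set_option backward.isDefEq.respectTransparency.types false
set_option linter.style.haveILetI false

universe u

open CategoryTheory CategoryTheory.Limits Opposite TopologicalSpace Topology

namespace GrothLib.CohDesc25

open FibDesc

variable {X S X' S' : TopCat.{u}} {f : X ⟶ S} {f' : X' ⟶ S'} {a : X' ⟶ X} {i : S' ⟶ S}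
  (sq : IsPullback a f' f i)

/-- The map of augmented nerves of a commutative square. -/
noncomputable def cechMap : cechAug f' ⟶ cechAug f :=
  AugmentedSimplexCategory.equivAugmentedSimplicialObject.inverse.map
    (Arrow.mapAugmentedCechNerve (Arrow.homMk (f := Arrow.mk f') (g := Arrow.mk f) a i sq.w))

theorem cechMap_π (n : SimplexCategory) (k : Fin (n.len + 1)) :
    (cechMap sq).app ((toAug SimplexCategory).obj (op n)) ≫ cπ f n k = cπ f' n k ≫ a :=
  WidePullback.lift_π _ _ _ _ _

theorem cechMap_base (n : SimplexCategory) :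
    (cechMap sq).app ((toAug SimplexCategory).obj (op n)) ≫ cBase f n = cBase f' n ≫ i :=
  WidePullback.lift_base _ _ _ _

theorem cechMap_bot : (cechMap sq).app (bot SimplexCategory) = i := rfl

include sq in
theorem isPullback_cechMap (n : SimplexCategory) :
    IsPullback ((cechMap sq).app ((toAug SimplexCategory).obj (op n))) (cBase f' n) (cBase f n) i := by
  refine ⟨⟨cechMap_base sq n⟩, ⟨PullbackCone.IsLimit.mk _ (fun c => WidePullback.lift c.snd
    (fun k => sq.lift (c.fst ≫ cπ f n k) c.snd (by
      rw [Category.assoc, WidePullback.π_arrow]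
      exact c.condition))
    (fun k => sq.lift_snd _ _ _)) ?_ ?_ ?_⟩⟩
  · intro c
    refine WidePullback.hom_ext (C := TopCat.{u}) (fun _ : Fin (n.len + 1) => f) _ _ (fun k => ?_) ?_
    · refine (Category.assoc _ _ _).trans ?_
      refine (congrArg (fun t => _ ≫ t) (cechMap_π sq n k)).trans ?_
      refine (Category.assoc _ _ _).symm.trans ?_
      exact (congrArg (fun t => t ≫ a) (WidePullback.lift_π _ _ _ _ k)).trans (sq.lift_fst _ _ _)
    · refine (Category.assoc _ _ _).trans ?_
      refine (congrArg (fun t => _ ≫ t) (cechMap_base sq n)).trans ?_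
      refine (Category.assoc _ _ _).symm.trans ?_
      exact (congrArg (fun t => t ≫ i) (WidePullback.lift_base _ _ _ _)).trans c.condition.symm
  · intro c
    exact WidePullback.lift_base _ _ _ _
  · intro c m h1 h2
    refine WidePullback.hom_ext (C := TopCat.{u}) (fun _ : Fin (n.len + 1) => f') _ _ (fun k => ?_) ?_
    · refine Eq.trans ?_ (WidePullback.lift_π (fun _ : Fin (n.len + 1) => f') _ _ _ k).symm
      refine sq.hom_ext ?_ ?_
      · rw [sq.lift_fst, Category.assoc, ← cechMap_π sq n k, ← Category.assoc, h1]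
      · rw [sq.lift_snd, Category.assoc, WidePullback.π_arrow]
        exact h2
    · exact h2.trans (WidePullback.lift_base _ _ _ _).symm

theorem isOpenEmbedding_fst {P Z Z' W : TopCat.{u}} {p : P ⟶ Z} {q : P ⟶ Z'} {g : Z ⟶ W} {j : Z' ⟶ W}
    (h : IsPullback p q g j) (hj : IsOpenEmbedding j) :
    IsOpenEmbedding p ∧ Set.range p = g ⁻¹' Set.range j := by
  have hp : ⇑(pullback.fst g j) ∘ ⇑h.isoPullback.hom = ⇑p :=
    funext fun z => ConcreteCategory.congr_hom h.isoPullback_hom_fst z
  have hs : Function.Surjective h.isoPullback.hom := (TopCat.homeoOfIso h.isoPullback).surjective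
  constructor
  · rw [← hp]
    exact (TopCat.fst_isOpenEmbedding_of_right g hj).comp (TopCat.homeoOfIso h.isoPullback).isOpenEmbedding
  · rw [← hp, Set.range_comp, hs.range_eq, Set.image_univ, TopCat.pullback_fst_range]
    ext z
    exact ⟨fun ⟨y, hy⟩ => ⟨y, hy.symm⟩, fun ⟨y, hy⟩ => ⟨y, hy.symm⟩⟩

/-- The base change of a Cech nerve to an open subset of the base is an open restriction. -/
noncomputable def openRestrOfSquare (hi : IsOpenEmbedding i) : OpenRestr (cechAug f') (cechAug f) where
  κ := cechMap sq
  V := ⟨Set.range i, hi.isOpen_range⟩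
  emb x := by
    obtain ⟨x⟩ := x
    cases x with
    | of n => exact (isOpenEmbedding_fst (isPullback_cechMap sq n) hi).1
    | star => exact hi
  range x := by
    obtain ⟨x⟩ := x
    cases x with
    | of n => exact (isOpenEmbedding_fst (isPullback_cechMap sq n) hi).2
    | star =>
      rw [toBot_unique (toBot _) (𝟙 _), CategoryTheory.Functor.map_id]
      rfl

/-- Cohomological descent of a map is local on the base. -/
theorem isCohDescentMap_of_openCover {X S : TopCat.{u}} (f : X ⟶ S) {ι : Type u} (V : ι → Opens S)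
    (hV : ∀ s, ∃ k, s ∈ V k)
    (h : ∀ k, FibDesc.IsCohDescentMap
      (pullback.snd f (TopCat.ofHom ⟨Subtype.val, continuous_subtype_val⟩ : TopCat.of (V k) ⟶ S))) :
    FibDesc.IsCohDescentMap f := by
  refine isCohDescentTop_of_openRestr (fun k => openRestrOfSquare
    (IsPullback.of_hasPullback f (TopCat.ofHom ⟨Subtype.val, continuous_subtype_val⟩ : TopCat.of (V k) ⟶ S))
    (V k).isOpenEmbedding) (fun s => ?_) h
  obtain ⟨k, hk⟩ := hV s
  exact ⟨k, ⟨s, hk⟩, rfl⟩

/-- A map with sections locally on the base is of cohomological descent. -/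
theorem isCohDescentMap_of_local_section {X S : TopCat.{u}} (f : X ⟶ S)
    (h : ∀ s : S, ∃ (V : Opens S) (_ : s ∈ V) (σ : TopCat.of V ⟶ X),
      σ ≫ f = TopCat.ofHom ⟨Subtype.val, continuous_subtype_val⟩) :
    FibDesc.IsCohDescentMap f := by
  choose V hV σ hσ using h
  refine isCohDescentMap_of_openCover f V (fun s => ⟨s, hV s⟩) fun k => ?_
  exact isCohDescentMap_of_section _ (pullback.lift (σ k) (𝟙 _) ((hσ k).trans (Category.id_comp _).symm))
    (pullback.lift_snd _ _ _)

/-- A map with sections locally on the base is universally of cohomological descent. -/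
theorem isUnivCohDescentMap_of_local_section {X S : TopCat.{u}} (f : X ⟶ S)
    (h : ∀ s : S, ∃ (V : Opens S) (_ : s ∈ V) (σ : TopCat.of V ⟶ X),
      σ ≫ f = TopCat.ofHom ⟨Subtype.val, continuous_subtype_val⟩) :
    FibDesc.IsUnivCohDescentMap f := fun S' g => by
  refine isCohDescentMap_of_local_section _ fun s' => ?_
  obtain ⟨V, hV, σ, hσ⟩ := h (g s')
  let W : Opens S' := (Opens.map g).obj V
  let gW : TopCat.of W ⟶ TopCat.of V :=
    TopCat.ofHom ⟨fun w => ⟨g w.1, w.2⟩, (g.hom.continuous.comp continuous_subtype_val).subtype_mk _⟩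
  refine ⟨W, hV, pullback.lift (gW ≫ σ) (TopCat.ofHom ⟨Subtype.val, continuous_subtype_val⟩) ?_,
    pullback.lift_snd _ _ _⟩
  rw [Category.assoc, hσ]
  ext w
  rfl

/-- A surjective local homeomorphism is universally of cohomological descent. -/
theorem isUnivCohDescentMap_of_isLocalHomeomorph {X S : TopCat.{u}} (f : X ⟶ S)
    (hf : IsLocalHomeomorph f) (hs : Function.Surjective f) : FibDesc.IsUnivCohDescentMap f := by
  refine isUnivCohDescentMap_of_local_section f fun s => ?_
  obtain ⟨x, rfl⟩ := hs s
  obtain ⟨e, hx, he⟩ := hf x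
  refine ⟨⟨e.target, e.open_target⟩, by rw [he]; exact e.map_source hx, ?_⟩
  refine ⟨TopCat.ofHom ⟨fun v => e.symm v.1,
    e.continuousOn_symm.comp_continuous continuous_subtype_val fun v => v.2⟩, ?_⟩
  ext v
  show f (e.symm v.1) = v.1
  rw [he]
  exact e.right_inv v.2

end GrothLib.CohDesc25
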