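import Groth.Agent.Lib.CohDesc25.LanZero

/-!
# Left Kan extensions whose indexing categories are disjoint unions of filtered ones
-/

set_option autoImplicit false
set_option linter.style.haveILetI false

universe u

open CategoryTheory CategoryTheory.Limits Opposite

namespace GrothLib.CohDesc25

/-- A category is a disjoint union of filtered categories. -/
def DisjFiltered (J : Type u) [Category.{u} J] : Prop :=
  ∃ (A : Type u) (q : J → A), (∀ {i j : J} (_ : i ⟶ j), q i = q j) ∧
    ∀ a, IsFiltered (ObjectProperty.FullSubcategory fun j => q j = a)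

variable {J : Type u} [Category.{u} J]

/-- A map between colimits over a disjoint union of filtered categories induced by a monomorphism is mono. -/
theorem mono_of_disjFiltered (hJ : DisjFiltered J) {P Q : J ⥤ AddCommGrpCat.{u}} (φ : P ⟶ Q) [Mono φ]
    {c : Cocone P} (hc : IsColimit c) {c' : Cocone Q} (hc' : IsColimit c') (f : c.pt ⟶ c'.pt)
    (hf : ∀ j, c.ι.app j ≫ f = φ.app j ≫ c'.ι.app j) : Mono f := by
  obtain ⟨A, q, hq, hfil⟩ := hJ
  let i : ∀ a, ObjectProperty.FullSubcategory (fun j => q j = a) ⥤ J := fun a => ObjectProperty.ι _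
  let T : (J ⥤ AddCommGrpCat.{u}) → AddCommGrpCat.{u} := fun R => ∐ fun a => colimit (i a ⋙ R)
  let into : ∀ (R : J ⥤ AddCommGrpCat.{u}) (j : J) (a : A), q j = a → (R.obj j ⟶ T R) := fun R j a h =>
    colimit.ι (i a ⋙ R) ⟨j, h⟩ ≫ Sigma.ι (fun a => colimit (i a ⋙ R)) a
  have into_eq : ∀ (R : J ⥤ AddCommGrpCat.{u}) (j : J) (a : A) (h : q j = a), into R j a h = into R j (q j) rfl := by
    intro R j a h
    subst h
    rfl
  let cT : ∀ R : J ⥤ AddCommGrpCat.{u}, Cocone R := fun R =>
    { pt := T R
      ι :=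
        { app := fun j => into R j (q j) rfl
          naturality := fun k j g => by
            refine Eq.trans ?_ (Category.comp_id _).symm
            refine Eq.trans ?_ (into_eq R k (q j) (hq g))
            exact (Category.assoc _ _ _).symm.trans (congrArg (fun t => t ≫ _)
              (colimit.w (i (q j) ⋙ R) (⟨g⟩ : (⟨k, hq g⟩ : ObjectProperty.FullSubcategory fun x => q x = q j) ⟶ ⟨j, rfl⟩))) } }
  let back : ∀ (R : J ⥤ AddCommGrpCat.{u}) (d : Cocone R), T R ⟶ d.pt := fun R d =>
    Sigma.desc fun a => colimit.desc (i a ⋙ R) (d.whisker (i a))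
  have into_back : ∀ (R : J ⥤ AddCommGrpCat.{u}) (d : Cocone R) (j : J) (a : A) (h : q j = a),
      into R j a h ≫ back R d = d.ι.app j := fun R d j a h => by
    refine (Category.assoc _ _ _).trans ?_
    refine (congrArg (fun t => colimit.ι (i a ⋙ R) ⟨j, h⟩ ≫ t) (Sigma.ι_desc _ a)).trans ?_
    exact colimit.ι_desc _ _
  let Φ : T P ⟶ T Q := Limits.Sigma.map fun a => colimMap (Functor.whiskerLeft (i a) φ)
  haveI : ∀ a, Mono (colimMap (Functor.whiskerLeft (i a) φ)) := fun a => by
    haveI := hfil a
    haveI : ∀ x, Mono ((Functor.whiskerLeft (i a) φ).app x) := fun x =>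
      inferInstanceAs (Mono (φ.app ((i a).obj x)))
    haveI : Mono (Functor.whiskerLeft (i a) φ) := NatTrans.mono_of_mono_app _
    exact inferInstanceAs (Mono ((colim (J := ObjectProperty.FullSubcategory fun j => q j = a)).map
      (Functor.whiskerLeft (i a) φ)))
  haveI : Mono Φ := by
    let ν : Discrete.functor (fun a => colimit (i a ⋙ P)) ⟶ Discrete.functor (fun a => colimit (i a ⋙ Q)) :=
      Discrete.natTrans fun a => colimMap (Functor.whiskerLeft (i a.as) φ)
    haveI : ∀ x, Mono (ν.app x) := fun x => inferInstanceAs (Mono (colimMap (Functor.whiskerLeft (i x.as) φ)))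
    haveI : Mono ν := NatTrans.mono_of_mono_app _
    exact inferInstanceAs (Mono ((colim (J := Discrete A)).map ν))
  have key : f = hc.desc (cT P) ≫ Φ ≫ back Q c' := by
    refine hc.hom_ext fun j => ?_
    rw [hf, hc.fac_assoc]
    show _ = (colimit.ι (i (q j) ⋙ P) ⟨j, rfl⟩ ≫ Sigma.ι (fun a => colimit (i a ⋙ P)) (q j)) ≫ Φ ≫ back Q c'
    simp only [Φ, back, Category.assoc]
    simp [i]
  have e1 : ∀ {R : J ⥤ AddCommGrpCat.{u}} {d : Cocone R} (hd : IsColimit d), hd.desc (cT R) ≫ back R d = 𝟙 _ :=
    fun {R d} hd => hd.hom_ext fun j => by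
      rw [hd.fac_assoc, Category.comp_id]
      exact into_back R d j _ rfl
  have e2 : ∀ {R : J ⥤ AddCommGrpCat.{u}} {d : Cocone R} (hd : IsColimit d), back R d ≫ hd.desc (cT R) = 𝟙 _ :=
    fun {R d} hd => by
      refine Sigma.hom_ext _ _ fun a => colimit.hom_ext fun j => ?_
      simp only [back, Sigma.ι_desc_assoc, Category.comp_id]
      refine (Category.assoc _ _ _).symm.trans ?_
      rw [colimit.ι_desc]
      show d.ι.app ((i a).obj j) ≫ hd.desc (cT R) = _
      rw [hd.fac]
      exact (into_eq R j.obj a j.property).symm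
  haveI : IsIso (hc.desc (cT P)) := ⟨back P c, e1 hc, e2 hc⟩
  haveI : IsIso (back Q c') := ⟨hc'.desc (cT Q), e2 hc', e1 hc'⟩
  rw [key]
  infer_instance

variable {C D : Type u} [Category.{u} C] [Category.{u} D] (k : C ⥤ D)

/-- Left Kan extension preserves monomorphisms when the indexing categories are disjoint unions of
filtered ones. -/
theorem preservesMonomorphisms_lan_of_disjFiltered (h : ∀ X, DisjFiltered (CostructuredArrow k.op X)) :
    Functor.PreservesMonomorphisms
      (k.op.lan : (Cᵒᵖ ⥤ AddCommGrpCat.{u}) ⥤ Dᵒᵖ ⥤ AddCommGrpCat.{u}) := by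
  let L : (Cᵒᵖ ⥤ AddCommGrpCat.{u}) ⥤ Dᵒᵖ ⥤ AddCommGrpCat.{u} := k.op.lan
  refine ⟨fun {P Q} φ _ => ?_⟩
  haveI : ∀ X, Mono ((L.map φ).app X) := fun X => by
    haveI : ∀ x, Mono ((Functor.whiskerLeft (CostructuredArrow.proj k.op X) φ).app x) := fun x =>
      inferInstanceAs (Mono (φ.app x.left))
    haveI : Mono (Functor.whiskerLeft (CostructuredArrow.proj k.op X) φ) := NatTrans.mono_of_mono_app _
    refine mono_of_disjFiltered (h X) (Functor.whiskerLeft (CostructuredArrow.proj k.op X) φ)
      (k.op.isPointwiseLeftKanExtensionLeftKanExtensionUnit P X)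
      (k.op.isPointwiseLeftKanExtensionLeftKanExtensionUnit Q X) _ fun g => ?_
    have hn : φ.app g.left ≫ ((k.op.lanUnit).app Q).app g.left =
        ((k.op.lanUnit).app P).app g.left ≫ (L.map φ).app (k.op.obj g.left) :=
      NatTrans.congr_app ((k.op.lanUnit).naturality φ) g.left
    show (((k.op.lanUnit).app P).app g.left ≫ (L.obj P).map g.hom) ≫ (L.map φ).app X =
      φ.app g.left ≫ ((k.op.lanUnit).app Q).app g.left ≫ (L.obj Q).map g.hom
    rw [Category.assoc, (L.map φ).naturality g.hom, reassoc_of% hn]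
  exact NatTrans.mono_of_mono_app _

/-- Restriction preserves injectives when the indexing categories are disjoint unions of filtered ones. -/
theorem injective_restriction_of_disjFiltered (h : ∀ X, DisjFiltered (CostructuredArrow k.op X))
    {J₁ : GrothendieckTopology C} {K : GrothendieckTopology D} [k.IsContinuous J₁ K]
    (I : Sheaf K AddCommGrpCat.{u}) [Injective I] :
    Injective ((k.sheafPushforwardContinuous AddCommGrpCat.{u} J₁ K).obj I) := by
  haveI := preservesMonomorphisms_lan_of_disjFiltered k h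
  haveI : Functor.PreservesMonomorphisms (presheafToSheaf K AddCommGrpCat.{u}) := inferInstance
  haveI : Functor.PreservesMonomorphisms (sheafToPresheaf J₁ AddCommGrpCat.{u}) := inferInstance
  haveI : Functor.PreservesMonomorphisms (Functor.sheafPullbackConstruction.sheafPullback k AddCommGrpCat.{u} J₁ K) :=
    Functor.preservesMonomorphisms_comp _ _
  haveI : Functor.PreservesMonomorphisms (k.sheafPullback AddCommGrpCat.{u} J₁ K) :=
    Functor.PreservesMonomorphisms.of_iso
      (Functor.sheafPullbackConstruction.sheafPullbackIso k AddCommGrpCat.{u} J₁ K).symm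
  exact Injective.injective_of_adjoint (k.sheafAdjunctionContinuous AddCommGrpCat.{u} J₁ K) I

end GrothLib.CohDesc25
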