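import Groth.Agent.Lib.CohDesc25.Fam
import Groth.Agent.Lib.CohDesc25.LanDisjoint

/-!
# Columns of a map of families
-/

set_option autoImplicit false
set_option backward.isDefEq.respectTransparency false
set_option backward.isDefEq.respectTransparency.types false
set_option linter.unusedSectionVars false
set_option linter.style.haveILetI false
set_option maxHeartbeats 1000000

universe u

open CategoryTheory CategoryTheory.Limits Opposite Pseudofunctor Pseudofunctor.CoGrothendieck TopologicalSpace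

namespace GrothLib.CohDesc25

open FibDesc

variable {D₁ D₂ : Type} [SmallCategory D₁] [SmallCategory D₂]

/-- A system of columns for a functor of index categories. -/
structure ColData (pr : D₂ ⥤ D₁) (C : Type) [SmallCategory C] where
  col : D₁ → C ⥤ D₂
  ε : ∀ n m, n ≅ pr.obj ((col n).obj m)
  ε_nat : ∀ (n : D₁) {m m' : C} (g : m ⟶ m'), (ε n m).hom ≫ pr.map ((col n).map g) = (ε n m').hom
  univ : ∀ (n : D₁) (j : D₂) (a : n ⟶ pr.obj j), ∃ (m₀ : C) (f₀ : (col n).obj m₀ ⟶ j),
    (ε n m₀).hom ≫ pr.map f₀ = a ∧ ∀ (m : C) (f : (col n).obj m ⟶ j),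
      (ε n m).hom ≫ pr.map f = a → ∃! g : m ⟶ m₀, (col n).map g ≫ f₀ = f

variable {pr : D₂ ⥤ D₁} {Y : (WithInitial D₁)ᵒᵖ ⥤ TopCat.{u}} (M : FamMap pr Y)
  {C : Type} [SmallCategory C] (L : ColData pr C) (n : D₁)

namespace FamMap

/-- The augmentation of a column. -/
noncomputable abbrev colAug (m : Cᵒᵖ) : M.Zp.obj ((L.col n).op.obj m) ⟶ Y.obj ((toAug D₁).obj (op n)) :=
  M.π ((L.col n).op.obj m) ≫ Y.map ((toAug D₁).map (L.ε n m.unop).hom.op)

theorem colAug_nat {m m' : Cᵒᵖ} (g : m ⟶ m') :
    M.Zp.map ((L.col n).op.map g) ≫ M.colAug L n m' = M.colAug L n m := by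
  unfold colAug
  rw [← Category.assoc, M.π_nat, Category.assoc, ← Y.map_comp, ← Functor.map_comp]
  show M.π _ ≫ Y.map ((toAug D₁).map ((L.ε n m'.unop).hom ≫ pr.map ((L.col n).map g.unop)).op) = _
  rw [L.ε_nat n g.unop]
  rfl

/-- A column, augmented to a space of the target family. -/
noncomputable abbrev Col : (WithInitial C)ᵒᵖ ⥤ TopCat.{u} :=
  mkFam ((L.col n).op ⋙ M.Zp) (Y.obj ((toAug D₁).obj (op n))) (M.colAug L n) (fun g => M.colAug_nat L n g)

/-- The column inclusion on sites. -/
noncomputable def kn : ∫ᶜ (part (topAug (M.Col L n))) ⥤ ∫ᶜ (part (topAug M.Z)) where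
  obj X := pObj M.Z ((L.col n).op.obj X.base) X.fiber
  map {A B} g := pHom M.Z ((L.col n).op.map g.base)
    (le_of_pHom (M.Col L n) (g : pObj (M.Col L n) A.base A.fiber ⟶ pObj (M.Col L n) B.base B.fiber))
  map_id X := pHom_ext M.Z ((L.col n).op.map_id X.base)
  map_comp f g := pHom_ext M.Z ((L.col n).op.map_comp f.base g.base)

theorem isContinuous_kn :
    (M.kn L n).IsContinuous (totPart (topAug (M.Col L n)) (topAugTop (M.Col L n))) (totPart (topAug M.Z) (topAugTop M.Z)) := by
  rw [GrothLib.FibSite.isContinuous_iff (isPreFibSite_part (M.Col L n))]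
  intro m
  haveI : (ι (part (topAug M.Z)) ((L.col n).op.obj m)).IsContinuous
      (partTop (topAug (M.Col L n)) (topAugTop (M.Col L n)) m) (totPart (topAug M.Z) (topAugTop M.Z)) :=
    GrothLib.FibSite.isContinuous_ι (isPreFibSite_part M.Z) ((L.col n).op.obj m)
  have e : ι (part (topAug M.Z)) ((L.col n).op.obj m) ≅ ι (part (topAug (M.Col L n))) m ⋙ M.kn L n :=
    NatIso.ofComponents (fun U => Iso.refl _) (fun {U V} g => by
      refine (Category.comp_id _).trans (Eq.trans ?_ (Category.id_comp _).symm)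
      exact pHom_ext M.Z ((L.col n).op.map_id m).symm)
  exact Functor.isContinuous_of_iso e (partTop (topAug (M.Col L n)) (topAugTop (M.Col L n)) m) (totPart (topAug M.Z) (topAugTop M.Z))

theorem isCocontinuous_kn :
    (M.kn L n).IsCocontinuous (totPart (topAug (M.Col L n)) (topAugTop (M.Col L n))) (totPart (topAug M.Z) (topAugTop M.Z)) where
  cover_lift {X T} hT := by
    obtain ⟨R', hR', hle⟩ := (GrothLib.FibSite.mem_totalTopology_iff (isPreFibSite_part M.Z) _ T).1 hT
    rw [GrothLib.FibSite.mem_totalTopology_iff (isPreFibSite_part (M.Col L n))]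
    refine ⟨R', hR', ?_⟩
    rw [Sieve.functor_galoisConnection] at hle ⊢
    intro V r hr
    have h2 := hle _ hr
    show T.arrows _
    refine Eq.mp (congrArg (fun g => T.arrows g) (pHom_ext M.Z ?_)) h2
    exact ((L.col n).op.map_id X.base).symm

instance instContinuousKn :
    (M.kn L n).IsContinuous (totPart (topAug (M.Col L n)) (topAugTop (M.Col L n))) (totPart (topAug M.Z) (topAugTop M.Z)) :=
  M.isContinuous_kn L n

instance instCocontinuousKn :
    (M.kn L n).IsCocontinuous (totPart (topAug (M.Col L n)) (topAugTop (M.Col L n))) (totPart (topAug M.Z) (topAugTop M.Z)) :=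
  M.isCocontinuous_kn L n

/-- Restriction to a column. -/
noncomputable abbrev colRes : DAb M.Z ⥤ DAb (M.Col L n) :=
  (M.kn L n).sheafPushforwardContinuous AddCommGrpCat.{u} (totPart (topAug (M.Col L n)) (topAugTop (M.Col L n)))
    (totPart (topAug M.Z) (topAugTop M.Z))

/-- Restriction to a space of the target family. -/
noncomputable abbrev colRes₀ : DAb Y ⥤ BAb (M.Col L n) :=
  (ι (part (topAug Y)) (op n)).sheafPushforwardContinuous AddCommGrpCat.{u}
    (Opens.grothendieckTopology (Y.obj ((toAug D₁).obj (op n)))) (totPart (topAug Y) (topAugTop Y))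

/-- The open subset over a column. -/
noncomputable def colOver (m : Cᵒᵖ) (U : Opens (Y.obj ((toAug D₁).obj (op n)))) :
    Opens (Y.obj ((toAug D₁).obj (pr.op.obj ((L.col n).op.obj m)))) :=
  (Opens.map (Y.map ((toAug D₁).map (L.ε n m.unop).hom.op))).obj U

/-- The canonical arrow of a column. -/
noncomputable def colHom (m : Cᵒᵖ) (U : Opens (Y.obj ((toAug D₁).obj (op n)))) :
    (q pr Y).obj (rObj pr Y ((L.col n).op.obj m) (colOver (L := L) (n := n) m U)) ⟶ pObj Y (op n) U :=
  pHom Y (L.ε n m.unop).hom.op le_rfl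

theorem le_colAug {m : Cᵒᵖ} {W : Opens ((M.Col L n).obj ((toAug C).obj m))}
    {U : Opens (Y.obj ((toAug D₁).obj (op n)))}
    (b : (incl (topAug (M.Col L n))).obj (pObj (M.Col L n) m W) ⟶ (eps (topAug (M.Col L n))).obj U) :
    (show Opens (M.Z.obj ((toAug D₂).obj ((L.col n).op.obj m))) from W) ≤
      (Opens.map (M.zπ ((L.col n).op.obj m))).obj (colOver (L := L) (n := n) m U) := fun z hz => by
  have h1 := le_of_aHom (M.Col L n) (b : aObj (M.Col L n) ((toAug C).obj m) W ⟶ aObj (M.Col L n) (bot C) U) hz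
  rw [toBot_unique b.base (toBot _)] at h1
  exact h1

theorem exists_θ (J : DAb M.Z) (U : Opens (Y.obj ((toAug D₁).obj (op n))))
    (y : (M.pushM.obj J).obj.obj (op (pObj Y (op n) U))) :
    ∃ x : ((Ppush (M.Col L n)).obj ((M.colRes L n).obj J)).obj.obj (op U),
      ∀ (m : Cᵒᵖ) (W : Opens ((M.Col L n).obj ((toAug C).obj m)))
        (b : (incl (topAug (M.Col L n))).obj (pObj (M.Col L n) m W) ⟶ (eps (topAug (M.Col L n))).obj U),
        leg ((M.colRes L n).obj J) b x = J.obj.map (pInc (Y := M.Z) (M.le_colAug L n b)).op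
          (M.mLeg J (colHom (L := L) (n := n) m U) y) := by
  refine exists_of_legs ((M.colRes L n).obj J) _ fun m m' W W' t b => ?_
  have ht : colOver (L := L) (n := n) m' U ≤
      (Opens.map (Y.map ((toAug D₁).map (pr.op.map ((L.col n).op.map t.base))))).obj (colOver (L := L) (n := n) m U) :=
    fun z hz => by
      show Y.map ((toAug D₁).map (L.ε n m.unop).hom.op)
        (Y.map ((toAug D₁).map (pr.op.map ((L.col n).op.map t.base))) z) ∈ U
      have h0 : Y.map ((toAug D₁).map (L.ε n m'.unop).hom.op) z ∈ U := hz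
      rw [← L.ε_nat n t.base.unop, op_comp, Functor.map_comp, Y.map_comp] at h0
      exact h0
  let t' : rObj pr Y ((L.col n).op.obj m') (colOver (L := L) (n := n) m' U) ⟶
      rObj pr Y ((L.col n).op.obj m) (colOver (L := L) (n := n) m U) := rHom ((L.col n).op.map t.base) ht
  have e1 : M.mLeg J (colHom (L := L) (n := n) m' U) y =
      J.obj.map (M.v.map t').op (M.mLeg J (colHom (L := L) (n := n) m U) y) := by
    refine Eq.trans ?_ (M.map_mLeg J t' _ y).symm
    exact M.mLeg_eq J _ _ (congrArg Quiver.Hom.op (L.ε_nat n t.base.unop).symm) y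
  refine Eq.trans ?_ (congrArg (J.obj.map (pInc (Y := M.Z) (M.le_colAug L n ((incl (topAug (M.Col L n))).map t ≫ b))).op) e1).symm
  refine (Functor.map_comp_apply J.obj _ _ _).symm.trans (Eq.trans ?_ (Functor.map_comp_apply J.obj _ _ _))
  refine congrArg (fun e => J.obj.map e (M.mLeg J (colHom (L := L) (n := n) m U) y)) ?_
  exact Quiver.Hom.unop_inj (pHom_ext M.Z ((Category.comp_id _).trans (Category.id_comp _).symm))

/-- The base change on sections. -/
noncomputable def θVal (J : DAb M.Z) (U : Opens (Y.obj ((toAug D₁).obj (op n)))) :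
    (M.pushM.obj J).obj.obj (op (pObj Y (op n) U)) →+
      ((Ppush (M.Col L n)).obj ((M.colRes L n).obj J)).obj.obj (op U) :=
  { toFun := fun y => (M.exists_θ L n J U y).choose
    map_zero' := leg_ext ((M.colRes L n).obj J) _ _ fun m W b => by
      rw [(M.exists_θ L n J U 0).choose_spec, map_zero, map_zero, map_zero]
    map_add' := fun y y' => leg_ext ((M.colRes L n).obj J) _ _ fun m W b => by
      rw [(M.exists_θ L n J U (y + y')).choose_spec, map_add, map_add, map_add,
        (M.exists_θ L n J U y).choose_spec, (M.exists_θ L n J U y').choose_spec] }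

theorem leg_θVal (J : DAb M.Z) {U : Opens (Y.obj ((toAug D₁).obj (op n)))} {m : Cᵒᵖ}
    {W : Opens ((M.Col L n).obj ((toAug C).obj m))}
    (b : (incl (topAug (M.Col L n))).obj (pObj (M.Col L n) m W) ⟶ (eps (topAug (M.Col L n))).obj U)
    (y : (M.pushM.obj J).obj.obj (op (pObj Y (op n) U))) :
    leg ((M.colRes L n).obj J) b (M.θVal L n J U y) = J.obj.map (pInc (Y := M.Z) (M.le_colAug L n b)).op
      (M.mLeg J (colHom (L := L) (n := n) m U) y) :=
  (M.exists_θ L n J U y).choose_spec m W b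

theorem bijective_θVal (J : DAb M.Z) (U : Opens (Y.obj ((toAug D₁).obj (op n)))) :
    Function.Bijective (M.θVal L n J U) := by
  let A : ∀ m : Cᵒᵖ, Opens ((M.Col L n).obj ((toAug C).obj m)) := fun m =>
    (Opens.map ((M.Col L n).map (toBot ((toAug C).obj m)))).obj U
  let bA : ∀ m : Cᵒᵖ, (incl (topAug (M.Col L n))).obj (pObj (M.Col L n) m (A m)) ⟶ (eps (topAug (M.Col L n))).obj U :=
    fun m => aHom (M.Col L n) (toBot _) le_rfl
  have hW : ∀ (c : ∫ᶜ (prF pr Y)) (g : (q pr Y).obj c ⟶ pObj Y (op n) U) (m₀ : C)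
      (f₀ : (L.col n).obj m₀ ⟶ c.base.unop), (L.ε n m₀).hom ≫ pr.map f₀ = g.base.unop →
      (show Opens (Y.obj ((toAug D₁).obj (pr.op.obj c.base))) from c.fiber) ≤
        (Opens.map (Y.map ((toAug D₁).map (pr.op.map f₀.op)))).obj (colOver (L := L) (n := n) (op m₀) U) :=
    fun c g m₀ f₀ hf₀ z hz => by
      obtain ⟨j, W₀⟩ := c
      let W : Opens (Y.obj ((toAug D₁).obj (pr.op.obj j))) := W₀
      show Y.map ((toAug D₁).map (L.ε n m₀).hom.op) (Y.map ((toAug D₁).map (pr.op.map f₀.op)) z) ∈ U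
      have h0 : Y.map ((toAug D₁).map g.base) z ∈ U :=
        le_of_pHom Y (g : pObj Y (pr.op.obj j) W ⟶ pObj Y (op n) U) hz
      rw [show g.base = ((L.ε n m₀).hom ≫ pr.map f₀).op from Quiver.Hom.unop_inj hf₀.symm, op_comp,
        Functor.map_comp, Y.map_comp] at h0
      exact h0
  constructor
  · intro y y' h
    refine rleg_ext (q pr Y) (M.vPush.obj J) y y' fun c g => ?_
    obtain ⟨m₀, f₀, hf₀, -⟩ := L.univ n c.base.unop g.base.unop
    let t : c ⟶ rObj pr Y ((L.col n).op.obj (op m₀)) (colOver (L := L) (n := n) (op m₀) U) :=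
      rHom (j := c.base) (U := c.fiber) f₀.op (hW c g m₀ f₀ hf₀)
    have key : ∀ z, rleg (q pr Y) (M.vPush.obj J) g z = J.obj.map (M.v.map t).op
        (leg ((M.colRes L n).obj J) (bA (op m₀)) (M.θVal L n J U z)) := fun z => by
      rw [M.leg_θVal]
      refine Eq.trans ?_ (congrArg (J.obj.map (M.v.map t).op)
        (((congrArg (fun e => J.obj.map (Quiver.Hom.op e) (M.mLeg J (colHom (L := L) (n := n) (op m₀) U) z))
          (pHom_ext M.Z (h := 𝟙 _) rfl)).trans (Functor.map_id_apply J.obj _ _)).symm))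
      refine Eq.trans ?_ (M.map_mLeg J t _ z).symm
      exact M.mLeg_eq J g ((q pr Y).map t ≫ colHom (L := L) (n := n) (op m₀) U) (Quiver.Hom.unop_inj hf₀.symm) z
    exact (key y).trans ((congrArg (fun z => J.obj.map (M.v.map t).op
      (leg ((M.colRes L n).obj J) (bA (op m₀)) z)) h).trans (key y').symm)
  · intro x
    let m₀ : ∀ (c : ∫ᶜ (prF pr Y)) (g : (q pr Y).obj c ⟶ pObj Y (op n) U), C :=
      fun c g => (L.univ n c.base.unop g.base.unop).choose
    let f₀ : ∀ (c : ∫ᶜ (prF pr Y)) (g : (q pr Y).obj c ⟶ pObj Y (op n) U),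
        (L.col n).obj (m₀ c g) ⟶ c.base.unop :=
      fun c g => (L.univ n c.base.unop g.base.unop).choose_spec.choose
    have hf₀ : ∀ c g, (L.ε n (m₀ c g)).hom ≫ pr.map (f₀ c g) = g.base.unop :=
      fun c g => (L.univ n c.base.unop g.base.unop).choose_spec.choose_spec.1
    have hu : ∀ c g (m : C) (f : (L.col n).obj m ⟶ c.base.unop),
        (L.ε n m).hom ≫ pr.map f = g.base.unop → ∃! k : m ⟶ m₀ c g, (L.col n).map k ≫ f₀ c g = f :=
      fun c g => (L.univ n c.base.unop g.base.unop).choose_spec.choose_spec.2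
    let t : ∀ c g, c ⟶ rObj pr Y ((L.col n).op.obj (op (m₀ c g))) (colOver (L := L) (n := n) (op (m₀ c g)) U) :=
      fun c g => rHom (j := c.base) (U := c.fiber) (f₀ c g).op (hW c g _ _ (hf₀ c g))
    let val : ∀ (c : ∫ᶜ (prF pr Y)) (g : (q pr Y).obj c ⟶ pObj Y (op n) U), (M.vPush.obj J).obj.obj (op c) :=
      fun c g => J.obj.map (M.v.map (t c g)).op
        (leg ((M.colRes L n).obj J) (bA (op (m₀ c g))) x)
    obtain ⟨y, hy⟩ := exists_of_rlegs (K := totPart (topAug Y) (topAugTop Y)) (q pr Y) (M.vPush.obj J) (d := pObj Y (op n) U) val (fun c c' s g => by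
      let g' := (q pr Y).map s ≫ g
      obtain ⟨k, hk, -⟩ := hu c' g' (m₀ c g) (f₀ c g ≫ s.base.unop) (by
        rw [Functor.map_comp, ← Category.assoc, hf₀]
        rfl)
      have hA : A (op (m₀ c' g')) ≤ (Opens.map ((M.Col L n).map ((toAug C).map k.op))).obj (A (op (m₀ c g))) :=
        fun z hz => by
          show (M.Col L n).map (toBot _) ((M.Col L n).map ((toAug C).map k.op) z) ∈ U
          have h0 : (M.Col L n).map (toBot ((toAug C).obj (op (m₀ c' g')))) z ∈ U := hz
          rw [toBot_unique (toBot ((toAug C).obj (op (m₀ c' g')))) ((toAug C).map k.op ≫ toBot _),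
            Functor.map_comp] at h0
          exact h0
      let kH : pObj (M.Col L n) (op (m₀ c' g')) (A (op (m₀ c' g'))) ⟶ pObj (M.Col L n) (op (m₀ c g)) (A (op (m₀ c g))) :=
        pHom (M.Col L n) k.op hA
      have e1 : leg ((M.colRes L n).obj J) (bA (op (m₀ c' g'))) x =
          J.obj.map ((M.kn L n).map kH).op (leg ((M.colRes L n).obj J) (bA (op (m₀ c g))) x) :=
        (leg_eq _ _ _ x).trans (map_leg ((M.colRes L n).obj J) kH _ x).symm
      show J.obj.map (M.v.map s).op (val c g) = val c' g'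
      refine Eq.trans ?_ (congrArg (J.obj.map (M.v.map (t c' g')).op) e1).symm
      refine (Functor.map_comp_apply J.obj _ _ _).symm.trans (Eq.trans ?_ (Functor.map_comp_apply J.obj _ _ _))
      refine congrArg (fun e => J.obj.map e (leg ((M.colRes L n).obj J) (bA (op (m₀ c g))) x)) ?_
      exact Quiver.Hom.unop_inj (pHom_ext M.Z (Quiver.Hom.unop_inj hk.symm)))
    refine ⟨y, leg_ext ((M.colRes L n).obj J) _ _ fun m W b => ?_⟩
    rw [M.leg_θVal]
    let c : ∫ᶜ (prF pr Y) := rObj pr Y ((L.col n).op.obj m) (colOver (L := L) (n := n) m U)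
    let g : (q pr Y).obj c ⟶ pObj Y (op n) U := colHom (L := L) (n := n) m U
    obtain ⟨k, hk, -⟩ := hu c g m.unop (𝟙 _) (by rw [CategoryTheory.Functor.map_id, Category.comp_id]; rfl)
    refine (congrArg (J.obj.map (pInc (Y := M.Z) (M.le_colAug L n b)).op) (hy c g)).trans ?_
    have hA : A m ≤ (Opens.map ((M.Col L n).map ((toAug C).map (𝟙 m)))).obj (A m) := by
      rw [CategoryTheory.Functor.map_id, CategoryTheory.Functor.map_id]
      exact le_rfl
    have hWA : W ≤ A m := fun z hz => by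
      show (M.Col L n).map (toBot _) z ∈ U
      have h1 := le_of_aHom (M.Col L n) (b : aObj (M.Col L n) ((toAug C).obj m) W ⟶ aObj (M.Col L n) (bot C) U) hz
      rw [toBot_unique b.base (toBot _)] at h1
      exact h1
    have hk' : A m ≤ (Opens.map ((M.Col L n).map ((toAug C).map (𝟙 m)))).obj (A m) := hA
    have hA2 : A (op (m₀ c g)) ≤ (Opens.map ((M.Col L n).map ((toAug C).map k.op))).obj (A m) :=
      fun z hz => by
        show (M.Col L n).map (toBot _) ((M.Col L n).map ((toAug C).map k.op) z) ∈ U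
        have h0 : (M.Col L n).map (toBot ((toAug C).obj (op (m₀ c g)))) z ∈ U := hz
        rw [toBot_unique (toBot ((toAug C).obj (op (m₀ c g)))) ((toAug C).map k.op ≫ toBot _),
          Functor.map_comp] at h0
        exact h0
    let kH : pObj (M.Col L n) (op (m₀ c g)) (A (op (m₀ c g))) ⟶ pObj (M.Col L n) m (A m) :=
      pHom (M.Col L n) k.op hA2
    have e1 : leg ((M.colRes L n).obj J) (bA (op (m₀ c g))) x =
        J.obj.map ((M.kn L n).map kH).op (leg ((M.colRes L n).obj J) (bA m) x) :=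
      (leg_eq _ _ _ x).trans (map_leg ((M.colRes L n).obj J) kH _ x).symm
    have e2 : leg ((M.colRes L n).obj J) b x =
        J.obj.map ((M.kn L n).map (pInc hWA)).op (leg ((M.colRes L n).obj J) (bA m) x) :=
      (leg_eq _ _ _ x).trans (map_leg ((M.colRes L n).obj J) (pInc hWA) _ x).symm
    refine (congrArg (fun e => J.obj.map (pInc (Y := M.Z) (M.le_colAug L n b)).op (J.obj.map (M.v.map (t c g)).op e)) e1).trans
      (Eq.trans ?_ e2.symm)
    refine ((congrArg (J.obj.map (pInc (Y := M.Z) (M.le_colAug L n b)).op)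
      (Functor.map_comp_apply J.obj _ _ _).symm).trans (Functor.map_comp_apply J.obj _ _ _).symm).trans ?_
    refine congrArg (fun e => J.obj.map e (leg ((M.colRes L n).obj J) (bA m) x)) ?_
    refine Quiver.Hom.unop_inj (pHom_ext M.Z ?_)
    refine (Category.id_comp _).trans (Eq.trans ?_ ((L.col n).op.map_id m).symm)
    exact Quiver.Hom.unop_inj hk

/-- The base change for direct images. -/
noncomputable def colθ (J : DAb M.Z) :
    (M.colRes₀ L n).obj (M.pushM.obj J) ⟶ (Ppush (M.Col L n)).obj ((M.colRes L n).obj J) :=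
  ObjectProperty.homMk
    { app := fun U => AddCommGrpCat.ofHom (M.θVal L n J U.unop)
      naturality := fun U U' g => by
        ext y
        refine leg_ext ((M.colRes L n).obj J) _ _ fun m W b => ?_
        let h := le_of_hom (X := Y.obj ((toAug D₁).obj (op n))) (V := U'.unop) (U := U.unop) g.unop
        let b₀ : (incl (topAug (M.Col L n))).obj (pObj (M.Col L n) m W) ⟶ (eps (topAug (M.Col L n))).obj U.unop :=
          b ≫ (eps (topAug (M.Col L n))).map g.unop
        let i : rObj pr Y ((L.col n).op.obj m) (colOver (L := L) (n := n) m U'.unop) ⟶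
            rObj pr Y ((L.col n).op.obj m) (colOver (L := L) (n := n) m U.unop) :=
          (ι (prF pr Y) ((L.col n).op.obj m)).map (homOfLE (X := Opens (Y.obj ((toAug D₁).obj (pr.op.obj ((L.col n).op.obj m))))) (fun z hz => h hz))
        refine (M.leg_θVal L n J b _).trans (Eq.trans ?_ ((rleg_res (incl (topAug (M.Col L n))) ((M.colRes L n).obj J)
          (c := pObj (M.Col L n) m W) b ((eps (topAug (M.Col L n))).map g.unop) (M.θVal L n J U.unop y)).trans rfl).symm)
        refine Eq.trans ?_ (M.leg_θVal L n J b₀ y).symm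
        have e : M.mLeg J (colHom (L := L) (n := n) m U'.unop)
            ((M.pushM.obj J).obj.map ((ι (part (topAug Y)) (op n)).map g.unop).op y) =
            J.obj.map (M.v.map i).op (M.mLeg J (colHom (L := L) (n := n) m U.unop) y) := by
          rw [M.map_mLeg]
          refine (rleg_res (q pr Y) (M.vPush.obj J) _ _ y).trans ?_
          exact M.mLeg_eq J _ _ ((Category.comp_id _).trans
            ((congrArg (fun t => t ≫ _) (pr.op.map_id _)).trans (Category.id_comp _)).symm) y
        refine (congrArg (J.obj.map (pInc (Y := M.Z) (M.le_colAug L n b)).op) e).trans ?_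
        refine (Functor.map_comp_apply J.obj _ _ _).symm.trans ?_
        exact congrArg (fun e => J.obj.map (Quiver.Hom.op e) (M.mLeg J (colHom (L := L) (n := n) m U.unop) y))
          (pHom_ext M.Z (Category.id_comp _)) }

theorem isIso_colθ (J : DAb M.Z) : IsIso (M.colθ L n J) := by
  haveI : ∀ U, IsIso ((M.colθ L n J).hom.app U) := fun U =>
    (ConcreteCategory.isIso_iff_bijective _).2 (M.bijective_θVal L n J U.unop)
  haveI : IsIso (M.colθ L n J).hom := NatIso.isIso_of_isIso_app _
  haveI : IsIso ((sheafToPresheaf _ _).map (M.colθ L n J)) := inferInstanceAs (IsIso (M.colθ L n J).hom)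
  exact isIso_of_reflects_iso _ (sheafToPresheaf _ _)

theorem colθ_natural {J J' : DAb M.Z} (f : J ⟶ J') :
    (M.colRes₀ L n).map (M.pushM.map f) ≫ M.colθ L n J' =
      M.colθ L n J ≫ (Ppush (M.Col L n)).map ((M.colRes L n).map f) := by
  ext ⟨U⟩ y
  refine leg_ext ((M.colRes L n).obj J') _ _ fun m W b => ?_
  refine (M.leg_θVal L n J' b _).trans ?_
  refine Eq.trans ?_ (app_rleg (incl (topAug (M.Col L n))) ((M.colRes L n).obj J) ((M.colRes L n).map f) b (M.θVal L n J U y))
  refine Eq.trans ?_ (congrArg (f.hom.app _) (M.leg_θVal L n J b y)).symm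
  refine Eq.trans ?_ (NatTrans.naturality_apply f.hom _ _).symm
  refine congrArg (J'.obj.map (pInc (Y := M.Z) (M.le_colAug L n b)).op) ?_
  exact (app_rleg (q pr Y) (M.vPush.obj J) (M.vPush.map f) (colHom (L := L) (n := n) m U) y).symm

/-- The comparison of inverse images. -/
noncomputable def colC (E : DAb Y) :
    (Tpull (M.Col L n)).obj ((M.colRes₀ L n).obj E) ⟶ (M.colRes L n).obj (M.pullM.obj E) :=
  ((Tadj (M.Col L n)).homEquiv _ _).symm
    ((M.colRes₀ L n).map (M.adjM.unit.app E) ≫ M.colθ L n (M.pullM.obj E))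

theorem transpose_colRes {E : DAb Y} {J : DAb M.Z} (φ : M.pullM.obj E ⟶ J) :
    (M.colRes₀ L n).map (M.adjM.homEquiv E J φ) ≫ M.colθ L n J =
      (Tadj (M.Col L n)).homEquiv _ _ (M.colC L n E ≫ (M.colRes L n).map φ) := by
  rw [Adjunction.homEquiv_naturality_right, colC, Equiv.apply_symm_apply, Adjunction.homEquiv_unit,
    Functor.map_comp, Category.assoc, Category.assoc, M.colθ_natural]

theorem colC_natural {E E' : DAb Y} (f : E ⟶ E') :
    (Tpull (M.Col L n)).map ((M.colRes₀ L n).map f) ≫ M.colC L n E' =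
      M.colC L n E ≫ (M.colRes L n).map (M.pullM.map f) := by
  apply ((Tadj (M.Col L n)).homEquiv _ _).injective
  rw [Adjunction.homEquiv_naturality_left, colC, Equiv.apply_symm_apply, ← M.transpose_colRes]
  rw [← Category.assoc, ← Functor.map_comp]
  refine congrArg (fun t => (M.colRes₀ L n).map t ≫ _) ?_
  rw [Adjunction.homEquiv_unit]
  exact M.adjM.unit.naturality f

/-- Sections of an inverse image along the map of families coming from sections. -/
noncomputable abbrev mA (E : DAb Y) {X : ∫ᶜ (part (topAug M.Z))} {c : ∫ᶜ (prF pr Y)} (b : X ⟶ M.v.obj c) :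
    E.obj.obj (op ((q pr Y).obj c)) →+ (M.pullM.obj E).obj.obj (op X) :=
  atHom (totPart (topAug M.Z) (topAugTop M.Z)) M.v
    (((q pr Y).sheafPushforwardContinuous AddCommGrpCat.{u} (prTot pr Y) (totPart (topAug Y) (topAugTop Y))).obj E) b

theorem mLeg_homEquiv {E : DAb Y} {J : DAb M.Z} (φ : M.pullM.obj E ⟶ J) {j : D₂ᵒᵖ}
    {W : Opens (Y.obj ((toAug D₁).obj (pr.op.obj j)))}
    {k : D₁ᵒᵖ} {U : Opens (Y.obj ((toAug D₁).obj k))} (c : (q pr Y).obj (rObj pr Y j W) ⟶ pObj Y k U)
    (e : E.obj.obj (op (pObj Y k U))) :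
    M.mLeg J c ((M.adjM.homEquiv E J φ).hom.app (op (pObj Y k U)) e) =
      φ.hom.app _ (M.mA E (c := rObj pr Y j W) (𝟙 _) (E.obj.map c.op e)) := by
  let eq := (q pr Y).sheafAdjunctionCocontinuous AddCommGrpCat.{u} (prTot pr Y) (totPart (topAug Y) (topAugTop Y))
  let ev := M.v.sheafAdjunctionContinuous AddCommGrpCat.{u} (prTot pr Y) (totPart (topAug M.Z) (topAugTop M.Z))
  have h1 : M.adjM.homEquiv E J φ = eq.homEquiv _ _ (ev.homEquiv _ _ φ) := by
    rw [show M.adjM.homEquiv E J φ = _ from congrFun (congrArg DFunLike.coe (congrFun (congrFun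
      (Adjunction.comp_homEquiv eq ev) E) J)) φ]
    rfl
  rw [h1]
  refine (rleg_homEquiv (q pr Y) (M.vPush.obj J) (ev.homEquiv _ _ φ) c e).trans ?_
  rw [ev.homEquiv_unit]
  refine congrArg (φ.hom.app _) ?_
  show _ = (M.pullM.obj E).obj.map (𝟙 (M.v.obj (rObj pr Y j W))).op _
  rw [op_id]
  exact (Functor.map_id_apply _ _ _).symm

theorem colC_gA (E : DAb Y) {m : Cᵒᵖ} {W : Opens ((M.Col L n).obj ((toAug C).obj m))}
    {U : Opens (Y.obj ((toAug D₁).obj (op n)))}
    (b : (incl (topAug (M.Col L n))).obj (pObj (M.Col L n) m W) ⟶ (eps (topAug (M.Col L n))).obj U)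
    (a : E.obj.obj (op (pObj Y (op n) U))) :
    (M.colC L n E).hom.app (op (pObj (M.Col L n) m W)) (gA ((M.colRes₀ L n).obj E) b a) =
      M.mA E (c := rObj pr Y ((L.col n).op.obj m) (colOver (L := L) (n := n) m U))
        (pInc (Y := M.Z) (M.le_colAug L n b)) (E.obj.map (colHom (L := L) (n := n) m U).op a) := by
  refine (leg_homEquiv _ _ (M.colC L n E) b a).symm.trans ?_
  rw [colC, Equiv.apply_symm_apply]
  refine (M.leg_θVal L n (M.pullM.obj E) b _).trans ?_
  have h := M.mLeg_homEquiv (𝟙 (M.pullM.obj E)) (colHom (L := L) (n := n) m U) a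
  rw [Adjunction.homEquiv_id] at h
  refine (congrArg ((M.pullM.obj E).obj.map (pInc (Y := M.Z) (M.le_colAug L n b)).op) h).trans ?_
  show (M.pullM.obj E).obj.map (pInc (Y := M.Z) (M.le_colAug L n b)).op
    (M.mA E (c := rObj pr Y ((L.col n).op.obj m) (colOver (L := L) (n := n) m U)) (𝟙 _)
      (E.obj.map (colHom (L := L) (n := n) m U).op a)) = _
  refine (map_atHom (K := totPart (topAug M.Z) (topAugTop M.Z)) M.v
    (((q pr Y).sheafPushforwardContinuous AddCommGrpCat.{u} (prTot pr Y) (totPart (topAug Y) (topAugTop Y))).obj E)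
    (U := rObj pr Y ((L.col n).op.obj m) (colOver (L := L) (n := n) m U)) (pInc (Y := M.Z) (M.le_colAug L n b)) (𝟙 _)
    (E.obj.map (colHom (L := L) (n := n) m U).op a)).trans ?_
  exact congrArg (fun t => M.mA E (c := rObj pr Y ((L.col n).op.obj m) (colOver (L := L) (n := n) m U)) t
    (E.obj.map (colHom (L := L) (n := n) m U).op a)) (Category.comp_id _)

theorem local_v (E : DAb Y) {j : D₂ᵒᵖ} {U : Opens (M.Z.obj ((toAug D₂).obj j))}
    (z : (M.pullM.obj E).obj.obj (op (pObj M.Z j U))) (x : M.Z.obj ((toAug D₂).obj j)) (hx : x ∈ U) :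
    ∃ (W : Opens (M.Z.obj ((toAug D₂).obj j))) (h : W ≤ U) (_ : x ∈ W)
      (W' : Opens (Y.obj ((toAug D₁).obj (pr.op.obj j)))) (g : E.obj.obj (op ((q pr Y).obj (rObj pr Y j W'))))
      (hW : W ≤ (Opens.map (M.zπ j)).obj W'),
      (M.pullM.obj E).obj.map (pInc h).op z = M.mA E (c := rObj pr Y j W') (pInc hW) g := by
  let G := ((q pr Y).sheafPushforwardContinuous AddCommGrpCat.{u} (prTot pr Y) (totPart (topAug Y) (topAugTop Y))).obj E
  let Φ := (partPt M.Z j x).point (thin_part M.Z) (isPreFibSite_part M.Z)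
  obtain ⟨X, g, Z', c, b, y, hy, he⟩ := exists_unitSec (J := prTot pr Y) Φ M.v G ((partPt M.Z j x).at (U := U) hx) z
  obtain ⟨W₀, hxW, κ, k, hk⟩ := (partPt M.Z j x).exists_refine (thin_part M.Z) hx c y hy
  let W : Opens (M.Z.obj ((toAug D₂).obj j)) := W₀
  let b' : pObj M.Z j W ⟶ pObj M.Z X.base ((Opens.map (M.zπ X.base)).obj X.fiber) := k ≫ b
  let θ : j ⟶ X.base := b'.base
  let W' : Opens (Y.obj ((toAug D₁).obj (pr.op.obj j))) :=
    (Opens.map (Y.map ((toAug D₁).map (pr.op.map θ)))).obj X.fiber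
  let c' : rObj pr Y j W' ⟶ X := rHom θ (fun _ h => h)
  have hW : W ≤ (Opens.map (M.zπ j)).obj W' := fun w hw => by
    show Y.map ((toAug D₁).map (pr.op.map θ)) (M.π j w) ∈
      (show Opens (Y.obj ((toAug D₁).obj (pr.op.obj X.base))) from X.fiber)
    rw [← M.π_nat_apply]
    exact le_of_pHom M.Z b' hw
  refine ⟨W, le_of_hom (X := M.Z.obj ((toAug D₂).obj j)) κ, hxW, W', G.obj.map c'.op g, hW, ?_⟩
  refine Eq.trans ?_ (atHom_res (K := totPart (topAug M.Z) (topAugTop M.Z)) M.v G c' _ g).symm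
  refine Eq.trans ?_ (congrArg (fun t => atHom (totPart (topAug M.Z) (topAugTop M.Z)) M.v G t g) (pHom_ext M.Z (g := k ≫ b) ?_))
  · refine Eq.trans ?_ (map_atHom (K := totPart (topAug M.Z) (topAugTop M.Z)) M.v G k b g)
    refine Eq.trans ?_ (congrArg _ he)
    refine Eq.trans ?_ (Functor.map_comp_apply _ _ _ _)
    rw [← op_comp]
    refine congrArg (fun t => (M.pullM.obj E).obj.map (Quiver.Hom.op t) z) ?_
    exact Eq.trans (pHom_ext M.Z rfl) hk.symm
  · exact (Category.id_comp θ).symm

theorem local_v_zero (E : DAb Y) {j : D₂ᵒᵖ} {W : Opens (M.Z.obj ((toAug D₂).obj j))}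
    {W' : Opens (Y.obj ((toAug D₁).obj (pr.op.obj j)))} (g : E.obj.obj (op ((q pr Y).obj (rObj pr Y j W'))))
    (hW : W ≤ (Opens.map (M.zπ j)).obj W') (h : M.mA E (c := rObj pr Y j W') (pInc hW) g = 0)
    (x : M.Z.obj ((toAug D₂).obj j)) (hx : x ∈ W) :
    ∃ (W'' : Opens (Y.obj ((toAug D₁).obj (pr.op.obj j)))) (_ : M.π j x ∈ W'')
      (c : rObj pr Y j W'' ⟶ rObj pr Y j W'), c.base = 𝟙 j ∧ E.obj.map ((q pr Y).map c).op g = 0 := by
  let G := ((q pr Y).sheafPushforwardContinuous AddCommGrpCat.{u} (prTot pr Y) (totPart (topAug Y) (topAugTop Y))).obj E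
  let Φ := (partPt M.Z j x).point (thin_part M.Z) (isPreFibSite_part M.Z)
  let b : pObj M.Z j W ⟶ M.v.obj (rObj pr Y j W') := pInc hW
  obtain ⟨X, c, t', ht', h0⟩ := exists_res_eq_zero (J := prTot pr Y) Φ M.v G
    (Φ.fiber.map b ((partPt M.Z j x).at hx)) g b ((partPt M.Z j x).at hx) rfl h
  obtain ⟨U', hU', k, hk⟩ := t'.down.2
  let θ : j ⟶ X.base := t'.down.1
  have hθ : θ ≫ c.base = 𝟙 j :=
    (congrArg (fun t => t.down.1) ht').trans (Category.id_comp _)
  let W'' : Opens (Y.obj ((toAug D₁).obj (pr.op.obj j))) :=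
    (Opens.map (Y.map ((toAug D₁).map (pr.op.map θ)))).obj X.fiber
  let d : rObj pr Y j W'' ⟶ X := rHom θ (fun _ h => h)
  refine ⟨W'', ?_, d ≫ c, hθ, ?_⟩
  · have h1 := le_of_pHom M.Z (k : pObj M.Z j U' ⟶ pObj M.Z X.base ((Opens.map (M.zπ X.base)).obj X.fiber)) hU'
    rw [show k.base = θ from hk] at h1
    show Y.map ((toAug D₁).map (pr.op.map θ)) (M.π j x) ∈
      (show Opens (Y.obj ((toAug D₁).obj (pr.op.obj X.base))) from X.fiber)
    rw [← M.π_nat_apply]
    exact h1
  · show G.obj.map (d ≫ c).op g = 0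
    rw [op_comp, Functor.map_comp_apply, h0, map_zero]

theorem isIso_colC (E : DAb Y) : IsIso (M.colC L n E) := by
  let E₀ := (M.colRes₀ L n).obj E
  refine isIso_of_local _ (fun m U z x hx => ?_) (fun m U e he x hx => ?_)
  · obtain ⟨W, hW, hxW, W', g, hWW', hz⟩ := M.local_v E (j := (L.col n).op.obj m) (U := U) z x hx
    let U' : Opens (Y.obj ((toAug D₁).obj (op n))) :=
      (Opens.map (Y.map ((toAug D₁).map (L.ε n m.unop).inv.op))).obj W'
    let e' : pObj Y (op n) U' ⟶ (q pr Y).obj (rObj pr Y ((L.col n).op.obj m) W') :=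
      pHom Y (L.ε n m.unop).inv.op le_rfl
    have hback : ∀ w, Y.map ((toAug D₁).map (L.ε n m.unop).inv.op) (Y.map ((toAug D₁).map (L.ε n m.unop).hom.op) w) = w :=
      fun w => by
        rw [← ConcreteCategory.comp_apply, ← Y.map_comp, ← Functor.map_comp, ← op_comp, Iso.inv_hom_id,
          op_id, CategoryTheory.Functor.map_id, CategoryTheory.Functor.map_id]
        rfl
    have hWU : (show Opens ((M.Col L n).obj ((toAug C).obj m)) from W) ≤
        (Opens.map ((M.Col L n).map (toBot ((toAug C).obj m)))).obj U' := fun w hw => by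
      show Y.map ((toAug D₁).map (L.ε n m.unop).inv.op) (Y.map ((toAug D₁).map (L.ε n m.unop).hom.op) (M.π _ w)) ∈ W'
      rw [hback]
      exact hWW' hw
    let b' : (incl (topAug (M.Col L n))).obj (pObj (M.Col L n) m W) ⟶ (eps (topAug (M.Col L n))).obj U' :=
      aHom (M.Col L n) (toBot _) hWU
    refine ⟨W, hW, hxW, gA E₀ b' (E.obj.map e'.op g), ?_⟩
    refine (M.colC_gA L n E b' (E.obj.map e'.op g)).trans ?_
    have hle : colOver (L := L) (n := n) m U' ≤ W' := fun w hw => by
      have h0 : Y.map ((toAug D₁).map (L.ε n m.unop).inv.op) (Y.map ((toAug D₁).map (L.ε n m.unop).hom.op) w) ∈ W' := hw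
      rw [hback] at h0
      exact h0
    let c : rObj pr Y ((L.col n).op.obj m) (colOver (L := L) (n := n) m U') ⟶ rObj pr Y ((L.col n).op.obj m) W' :=
      (ι (prF pr Y) ((L.col n).op.obj m)).map (homOfLE (X := Opens (Y.obj ((toAug D₁).obj (pr.op.obj ((L.col n).op.obj m))))) hle)
    have e1 : E.obj.map (colHom (L := L) (n := n) m U').op (E.obj.map e'.op g) = E.obj.map ((q pr Y).map c).op g := by
      refine (Functor.map_comp_apply E.obj _ _ g).symm.trans ?_
      refine congrArg (fun t => E.obj.map t g) (Quiver.Hom.unop_inj (pHom_ext Y (Quiver.Hom.unop_inj ?_)))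
      show (L.ε n m.unop).inv ≫ (L.ε n m.unop).hom = pr.map (𝟙 _)
      rw [Iso.inv_hom_id, CategoryTheory.Functor.map_id]
    refine (congrArg (M.mA E _) e1).trans ?_
    refine (atHom_res (K := totPart (topAug M.Z) (topAugTop M.Z)) M.v
      (((q pr Y).sheafPushforwardContinuous AddCommGrpCat.{u} (prTot pr Y) (totPart (topAug Y) (topAugTop Y))).obj E) c _ g).trans ?_
    refine Eq.trans ?_ (hz.symm.trans (congrArg (fun t => (M.pullM.obj E).obj.map (Quiver.Hom.op t) z)
      (pHom_ext M.Z (g := pInc (Y := M.Z) hW) (h := (M.kn L n).map (pInc (Y := M.Col L n) hW)) ((L.col n).op.map_id m).symm)))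
    exact congrArg (fun t => M.mA E (c := rObj pr Y ((L.col n).op.obj m) W') t g)
      (pHom_ext M.Z (Category.comp_id _))
  · obtain ⟨W, hW, hxW, V, a, b, hz⟩ := local_gA E₀ (j := m) (U := U) e x hx
    have h0 : M.mA E (c := rObj pr Y ((L.col n).op.obj m) (colOver (L := L) (n := n) m V))
        (pInc (Y := M.Z) (M.le_colAug L n b)) (E.obj.map (colHom (L := L) (n := n) m V).op a) = 0 := by
      refine (M.colC_gA L n E b a).symm.trans ?_
      rw [← hz]
      refine (NatTrans.naturality_apply (M.colC L n E).hom (pInc hW).op e).trans ?_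
      exact (congrArg _ he).trans (map_zero _)
    obtain ⟨W'', hxW'', c, hc, hc0⟩ := M.local_v_zero E _ (M.le_colAug L n b) h0 x hxW
    let V'' : Opens (Y.obj ((toAug D₁).obj (op n))) :=
      (Opens.map (Y.map ((toAug D₁).map (L.ε n m.unop).inv.op))).obj W'' ⊓ V
    have hV : V'' ≤ V := inf_le_right
    let e'' : pObj Y (op n) V'' ⟶ (q pr Y).obj (rObj pr Y ((L.col n).op.obj m) W'') :=
      pHom Y (L.ε n m.unop).inv.op inf_le_left
    have ha : E₀.obj.map (homOfLE hV).op a = 0 := by
      refine Eq.trans ?_ ((congrArg (E.obj.map e''.op) hc0).trans (map_zero _))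
      refine Eq.trans ?_ ((Functor.map_comp_apply E.obj _ _ a).trans (Functor.map_comp_apply E.obj _ _ _))
      show E.obj.map ((ι (part (topAug Y)) (op n)).map (homOfLE (X := Opens (Y.obj ((toAug D₁).obj (op n)))) hV)).op a = _
      refine congrArg (fun t => E.obj.map t a) (Quiver.Hom.unop_inj (pHom_ext Y (Quiver.Hom.unop_inj ?_)))
      show 𝟙 n = (L.ε n m.unop).hom ≫ pr.map c.base.unop ≫ (L.ε n m.unop).inv
      rw [show c.base = 𝟙 _ from hc]
      show 𝟙 n = (L.ε n m.unop).hom ≫ pr.map (𝟙 ((L.col n).obj m.unop)) ≫ (L.ε n m.unop).inv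
      rw [CategoryTheory.Functor.map_id, Category.id_comp, Iso.hom_inv_id]
    let W₁ : Opens ((M.Col L n).obj ((toAug C).obj m)) :=
      W ⊓ (Opens.map ((M.Col L n).map (toBot ((toAug C).obj m)))).obj V''
    have hxW₁ : x ∈ W₁ := ⟨hxW, by
      refine ⟨?_, ?_⟩
      · show Y.map ((toAug D₁).map (L.ε n m.unop).inv.op) (Y.map ((toAug D₁).map (L.ε n m.unop).hom.op) (M.π _ x)) ∈ W''
        rw [← ConcreteCategory.comp_apply, ← Y.map_comp, ← Functor.map_comp, ← op_comp, Iso.inv_hom_id,
          op_id, CategoryTheory.Functor.map_id, CategoryTheory.Functor.map_id]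
        exact hxW''
      · have h1 := le_of_aHom (M.Col L n) (b : aObj (M.Col L n) ((toAug C).obj m) W ⟶ aObj (M.Col L n) (bot C) V) hxW
        rw [toBot_unique b.base (toBot _)] at h1
        exact h1⟩
    refine ⟨W₁, le_trans inf_le_left hW, hxW₁, ?_⟩
    let b' : (incl (topAug (M.Col L n))).obj (pObj (M.Col L n) m W₁) ⟶ (eps (topAug (M.Col L n))).obj V'' :=
      aHom (M.Col L n) (toBot _) (inf_le_right : W₁ ≤ _)
    have h2 : ((Tpull (M.Col L n)).obj E₀).obj.map (pInc (le_trans (inf_le_left : W₁ ≤ W) hW)).op e =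
        ((Tpull (M.Col L n)).obj E₀).obj.map (pInc (inf_le_left : W₁ ≤ W)).op (gA E₀ b a) := by
      rw [← hz]
      refine Eq.trans ?_ (Functor.map_comp_apply _ _ _ e)
      exact congrArg (fun t => ((Tpull (M.Col L n)).obj E₀).obj.map (Quiver.Hom.op t) e)
        (pHom_ext (M.Col L n) (Category.comp_id _).symm)
    refine h2.trans ((map_gA _ _ b a).trans ?_)
    refine (gA_eq _ _ (b' ≫ (eps (topAug (M.Col L n))).map
      (homOfLE (X := Opens ((M.Col L n).obj (bot C))) hV)) a).trans ?_
    refine (atHom_res (K := totAug (topAug (M.Col L n)) (topAugTop (M.Col L n))) (eps (topAug (M.Col L n))) E₀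
      (homOfLE (X := Opens ((M.Col L n).obj (bot C))) hV) b' a).symm.trans ?_
    exact (congrArg (fun t => gA E₀ b' t) ha).trans (map_zero _)

theorem disjFiltered_ι (X : (∫ᶜ (part (topAug Y)))ᵒᵖ) :
    DisjFiltered (CostructuredArrow (ι (part (topAug Y)) (op n)).op X) := by
  obtain ⟨⟨k, W₀⟩⟩ := X
  let W : Opens (Y.obj ((toAug D₁).obj k)) := W₀
  refine ⟨ULift.{u} (k ⟶ op n), fun A => ⟨(A.hom.unop : pObj Y k W ⟶ pObj Y (op n) A.left.unop).base⟩,
    fun {A B} f => ?_, fun a => ?_⟩
  · refine congrArg ULift.up ?_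
    have h := congrArg (fun t => t.unop.base) (CostructuredArrow.w f)
    exact h.symm.trans (Category.comp_id _)
  · obtain ⟨a⟩ := a
    let mkObj : ∀ (U : Opens (Y.obj ((toAug D₁).obj (op n)))), W ≤ (Opens.map (Y.map ((toAug D₁).map a))).obj U →
        ObjectProperty.FullSubcategory (fun A : CostructuredArrow (ι (part (topAug Y)) (op n)).op (op (pObj Y k W)) =>
          (⟨(A.hom.unop : pObj Y k W ⟶ pObj Y (op n) A.left.unop).base⟩ : ULift.{u} (k ⟶ op n)) = ⟨a⟩) :=
      fun U hU => ⟨CostructuredArrow.mk (Y := op U) (pHom Y a hU).op, rfl⟩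
    haveI hne : Nonempty (ObjectProperty.FullSubcategory
        (fun A : CostructuredArrow (ι (part (topAug Y)) (op n)).op (op (pObj Y k W)) =>
          (⟨(A.hom.unop : pObj Y k W ⟶ pObj Y (op n) A.left.unop).base⟩ : ULift.{u} (k ⟶ op n)) = ⟨a⟩)) :=
      ⟨mkObj ⊤ (fun _ _ => trivial)⟩
    haveI : IsFilteredOrEmpty (ObjectProperty.FullSubcategory
        (fun A : CostructuredArrow (ι (part (topAug Y)) (op n)).op (op (pObj Y k W)) =>
          (⟨(A.hom.unop : pObj Y k W ⟶ pObj Y (op n) A.left.unop).base⟩ : ULift.{u} (k ⟶ op n)) = ⟨a⟩)) := by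
      constructor
      · intro A B
        have hA := le_of_pHom Y (A.obj.hom.unop : pObj Y k W ⟶ pObj Y (op n) A.obj.left.unop)
        have hB := le_of_pHom Y (B.obj.hom.unop : pObj Y k W ⟶ pObj Y (op n) B.obj.left.unop)
        have eA : (A.obj.hom.unop : pObj Y k W ⟶ pObj Y (op n) A.obj.left.unop).base = a := congrArg ULift.down A.property
        rw [eA] at hA
        have eB : (B.obj.hom.unop : pObj Y k W ⟶ pObj Y (op n) B.obj.left.unop).base = a := congrArg ULift.down B.property
        rw [eB] at hB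
        let U : Opens (Y.obj ((toAug D₁).obj (op n))) := A.obj.left.unop ⊓ B.obj.left.unop
        refine ⟨mkObj U (le_inf hA hB), ObjectProperty.homMk (CostructuredArrow.homMk (homOfLE inf_le_left : U ⟶ A.obj.left.unop).op ?_),
          ObjectProperty.homMk (CostructuredArrow.homMk (homOfLE inf_le_right : U ⟶ B.obj.left.unop).op ?_), trivial⟩
        · exact Quiver.Hom.unop_inj (pHom_ext Y ((Category.comp_id _).trans (congrArg ULift.down A.property).symm))
        · exact Quiver.Hom.unop_inj (pHom_ext Y ((Category.comp_id _).trans (congrArg ULift.down B.property).symm))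
      · intro A B f g
        exact ⟨B, 𝟙 B, by
          congr 1
          exact ObjectProperty.hom_ext _ (CostructuredArrow.hom_ext _ _ (Quiver.Hom.unop_inj (Subsingleton.elim _ _)))⟩
    constructor

theorem injective_colRes₀ (E : DAb Y) [Injective E] : Injective ((M.colRes₀ L n).obj E) :=
  injective_restriction_of_disjFiltered (ι (part (topAug Y)) (op n)) (fun X => disjFiltered_ι (n := n) X) E

theorem disjFiltered_kn (X : (∫ᶜ (part (topAug M.Z)))ᵒᵖ) : DisjFiltered (CostructuredArrow (M.kn L n).op X) := by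
  obtain ⟨⟨j, W₀⟩⟩ := X
  let W : Opens (M.Z.obj ((toAug D₂).obj j)) := W₀
  let key : CostructuredArrow (M.kn L n).op (op (pObj M.Z j W)) → ULift.{u} (n ⟶ pr.obj j.unop) := fun A =>
    ⟨(L.ε n A.left.unop.base.unop).hom ≫ pr.map (A.hom.unop.base : j ⟶ (L.col n).op.obj A.left.unop.base).unop⟩
  refine ⟨ULift.{u} (n ⟶ pr.obj j.unop), key, fun {A B} f => ?_, fun a => ?_⟩
  · refine congrArg ULift.up ?_
    have h : (A.hom.unop.base : j ⟶ (L.col n).op.obj A.left.unop.base) =
        (B.hom.unop.base : j ⟶ (L.col n).op.obj B.left.unop.base) ≫ (L.col n).op.map f.left.unop.base :=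
      (congrArg (fun t => t.unop.base) (CostructuredArrow.w f)).symm
    rw [h]
    show _ ≫ pr.map ((L.col n).map f.left.unop.base.unop ≫ _) = _
    rw [Functor.map_comp, ← Category.assoc, L.ε_nat]
  · obtain ⟨m₀, f₀, hf₀, hu⟩ := L.univ n j.unop a.down
    let mkObj : ∀ (U : Opens ((M.Col L n).obj ((toAug C).obj (op m₀)))),
        W ≤ (Opens.map (M.Z.map ((toAug D₂).map f₀.op))).obj
          (show Opens (M.Z.obj ((toAug D₂).obj ((L.col n).op.obj (op m₀)))) from U) →
        ObjectProperty.FullSubcategory (fun A => key A = a) := fun U hU =>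
      ⟨CostructuredArrow.mk (Y := op (pObj (M.Col L n) (op m₀) U)) (pHom M.Z f₀.op hU).op, congrArg ULift.up hf₀⟩
    have lift : ∀ A : ObjectProperty.FullSubcategory (fun A => key A = a),
        ∃ k : A.obj.left.unop.base.unop ⟶ m₀,
          (L.col n).map k ≫ f₀ = (A.obj.hom.unop.base : j ⟶ (L.col n).op.obj A.obj.left.unop.base).unop :=
      fun A => (hu _ _ (congrArg ULift.down A.property)).exists
    let pre : ∀ (A : ObjectProperty.FullSubcategory (fun A => key A = a)) (k : A.obj.left.unop.base.unop ⟶ m₀),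
        Opens ((M.Col L n).obj ((toAug C).obj (op m₀))) := fun A k =>
      (Opens.map ((M.Col L n).map ((toAug C).map k.op))).obj A.obj.left.unop.fiber
    have mem : ∀ (A : ObjectProperty.FullSubcategory (fun A => key A = a)) (k : A.obj.left.unop.base.unop ⟶ m₀),
        (L.col n).map k ≫ f₀ = (A.obj.hom.unop.base : j ⟶ (L.col n).op.obj A.obj.left.unop.base).unop →
        W ≤ (Opens.map (M.Z.map ((toAug D₂).map f₀.op))).obj
          (show Opens (M.Z.obj ((toAug D₂).obj ((L.col n).op.obj (op m₀)))) from pre A k) := fun A k hk z hz => by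
      have h1 := le_of_pHom M.Z (A.obj.hom.unop : pObj M.Z j W ⟶
        pObj M.Z ((L.col n).op.obj A.obj.left.unop.base) A.obj.left.unop.fiber) hz
      rw [show (A.obj.hom.unop.base : j ⟶ (L.col n).op.obj A.obj.left.unop.base) =
        f₀.op ≫ (L.col n).op.map k.op from Quiver.Hom.unop_inj hk.symm, Functor.map_comp, Functor.map_comp] at h1
      exact h1
    haveI : Nonempty (ObjectProperty.FullSubcategory (fun A => key A = a)) := ⟨mkObj ⊤ (fun _ _ => trivial)⟩
    haveI : IsFilteredOrEmpty (ObjectProperty.FullSubcategory (fun A => key A = a)) := by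
      constructor
      · intro A B
        obtain ⟨k, hk⟩ := lift A
        obtain ⟨k', hk'⟩ := lift B
        let U : Opens ((M.Col L n).obj ((toAug C).obj (op m₀))) := pre A k ⊓ pre B k'
        let tA : pObj (M.Col L n) (op m₀) U ⟶ A.obj.left.unop := pHom (M.Col L n) k.op inf_le_left
        let tB : pObj (M.Col L n) (op m₀) U ⟶ B.obj.left.unop := pHom (M.Col L n) k'.op inf_le_right
        refine ⟨mkObj U (fun z hz => ⟨mem A k hk hz, mem B k' hk' hz⟩),
          ObjectProperty.homMk (CostructuredArrow.homMk tA.op ?_),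
          ObjectProperty.homMk (CostructuredArrow.homMk tB.op ?_), trivial⟩
        · exact Quiver.Hom.unop_inj (pHom_ext M.Z (Quiver.Hom.unop_inj hk))
        · exact Quiver.Hom.unop_inj (pHom_ext M.Z (Quiver.Hom.unop_inj hk'))
      · intro A B f g
        obtain ⟨k, hk⟩ := lift B
        let U : Opens ((M.Col L n).obj ((toAug C).obj (op m₀))) := pre B k
        let tB : pObj (M.Col L n) (op m₀) U ⟶ B.obj.left.unop := pHom (M.Col L n) k.op le_rfl
        let h : B ⟶ mkObj U (mem B k hk) :=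
          ObjectProperty.homMk (CostructuredArrow.homMk tB.op (Quiver.Hom.unop_inj (pHom_ext M.Z (Quiver.Hom.unop_inj hk))))
        have hw : ∀ f : A ⟶ B, (L.col n).map (f.hom.left.unop.base.unop ≫ k) ≫ f₀ =
            (A.obj.hom.unop.base : j ⟶ (L.col n).op.obj A.obj.left.unop.base).unop := fun f => by
          rw [Functor.map_comp, Category.assoc, hk]
          exact congrArg (fun t => t.unop.base.unop) (CostructuredArrow.w f.hom)
        refine ⟨_, h, ObjectProperty.hom_ext _ (CostructuredArrow.hom_ext _ _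
          (Quiver.Hom.unop_inj (pHom_ext (M.Col L n) (Quiver.Hom.unop_inj ?_))))⟩
        exact (hu _ _ (congrArg ULift.down A.property)).unique (hw f) (hw g)
    constructor

theorem injective_colRes (J : DAb M.Z) [Injective J] : Injective ((M.colRes L n).obj J) :=
  injective_restriction_of_disjFiltered (M.kn L n) (fun X => M.disjFiltered_kn L n X) J

end FamMap

end GrothLib.CohDesc25
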