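import Groth.Agent.Lib.CohDesc25.Functors

/-!
# The comparisons are isomorphisms on inverse images from the base
-/

set_option autoImplicit false
set_option backward.isDefEq.respectTransparency false
set_option backward.isDefEq.respectTransparency.types false
set_option linter.unusedSectionVars false
set_option maxHeartbeats 1000000

universe u

open CategoryTheory CategoryTheory.Limits Opposite Pseudofunctor Pseudofunctor.CoGrothendieck TopologicalSpace

namespace GrothLib.CohDesc25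

open FibDesc

variable {D : Type} [SmallCategory D] {Y : (WithInitial D)ᵒᵖ ⥤ TopCat.{u}}

/-- A section of the inverse image from the base coming from a section on the base. -/
noncomputable abbrev gA (A : BAb Y) {j : Dᵒᵖ} {W : Opens (Y.obj ((toAug D).obj j))} {V : Opens (Y.obj (bot D))}
    (b : (incl (topAug Y)).obj (pObj Y j W) ⟶ (eps (topAug Y)).obj V) :
    A.obj.obj (op V) →+ ((Tpull Y).obj A).obj.obj (op (pObj Y j W)) :=
  atHom (totAug (topAug Y) (topAugTop Y)) (eps (topAug Y)) A b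

theorem local_gA (A : BAb Y) {j : Dᵒᵖ} {U : Opens (Y.obj ((toAug D).obj j))}
    (z : ((Tpull Y).obj A).obj.obj (op (pObj Y j U))) (x : Y.obj ((toAug D).obj j)) (hx : x ∈ U) :
    ∃ (W : Opens (Y.obj ((toAug D).obj j))) (h : W ≤ U) (_ : x ∈ W) (V : Opens (Y.obj (bot D)))
      (a : A.obj.obj (op V)) (b : (incl (topAug Y)).obj (pObj Y j W) ⟶ (eps (topAug Y)).obj V),
      ((Tpull Y).obj A).obj.map (pInc h).op z = gA A b a := by
  obtain ⟨W, h, hx', V, a, b, he⟩ := local_gen A (S := (toAug D).obj j) (U := U) z x hx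
  refine ⟨W, h, hx', V, a, b, Eq.trans ?_ he⟩
  exact congrArg (fun t => ((FibSite.extend (topAug Y) (topAugTop Y) AddCommGrpCat.{u} (bot D)).obj A).obj.map (Quiver.Hom.op t) z)
    (aHom_ext Y (g := (incl (topAug Y)).map (pInc h)) (h := aInc (S := (toAug D).obj j) h) ((toAug D).map_id j))

theorem map_gA (A : BAb Y) {j k : Dᵒᵖ} {W : Opens (Y.obj ((toAug D).obj j))} {W' : Opens (Y.obj ((toAug D).obj k))}
    {V : Opens (Y.obj (bot D))}
    (c : pObj Y k W' ⟶ pObj Y j W) (b : (incl (topAug Y)).obj (pObj Y j W) ⟶ (eps (topAug Y)).obj V)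
    (a : A.obj.obj (op V)) :
    ((Tpull Y).obj A).obj.map c.op (gA A b a) = gA A ((incl (topAug Y)).map c ≫ b) a :=
  map_atHom (K := totAug (topAug Y) (topAugTop Y)) (eps (topAug Y)) A ((incl (topAug Y)).map c) b a

theorem gA_eq (A : BAb Y) {j : Dᵒᵖ} {W : Opens (Y.obj ((toAug D).obj j))} {V : Opens (Y.obj (bot D))}
    (b b' : (incl (topAug Y)).obj (pObj Y j W) ⟶ (eps (topAug Y)).obj V) (a : A.obj.obj (op V)) :
    gA A b a = gA A b' a :=
  congrArg (fun t => gA A t a) (aHom_ext Y (toBot_unique _ _))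

theorem hom_ext_gA (A : BAb Y) {E : DAb Y} (φ ψ : (Tpull Y).obj A ⟶ E)
    (h : ∀ (j : Dᵒᵖ) (W : Opens (Y.obj ((toAug D).obj j))) (V : Opens (Y.obj (bot D)))
      (b : (incl (topAug Y)).obj (pObj Y j W) ⟶ (eps (topAug Y)).obj V) (a : A.obj.obj (op V)),
      φ.hom.app _ (gA A b a) = ψ.hom.app _ (gA A b a)) : φ = ψ := by
  ext X z
  obtain ⟨⟨j, U⟩⟩ := X
  let U₁ : Opens (Y.obj ((toAug D).obj j)) := U
  let S : Sieve (pObj Y j U₁) := Presheaf.equalizerSieve
    (F := E.obj) (φ.hom.app (op (pObj Y j U₁)) z) (ψ.hom.app (op (pObj Y j U₁)) z)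
  have hS : S ∈ totPart (topAug Y) (topAugTop Y) (pObj Y j U₁) := mem_totPart Y _ fun x hx => by
    obtain ⟨W, hW, hxW, V, a, b, he⟩ := local_gA A (U := U₁) z x hx
    refine ⟨W, hxW, pInc hW, rfl, ?_⟩
    show E.obj.map (pInc hW).op (φ.hom.app _ z) = E.obj.map (pInc hW).op (ψ.hom.app _ z)
    refine (NatTrans.naturality_apply φ.hom (pInc hW).op z).symm.trans ?_
    refine Eq.trans ?_ (NatTrans.naturality_apply ψ.hom (pInc hW).op z)
    rw [he]
    exact h j W V b a
  exact (Presieve.IsSheaf.isSeparated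
    ((isSheaf_iff_isSheaf_of_type _ _).1
      ((sheafCompose (totPart (topAug Y) (topAugTop Y)) (forget AddCommGrpCat.{u})).obj E).property) S hS).ext
    fun Z f hf => hf

variable (R : Retraction Y)

namespace Retraction

theorem sheafPush_u_map {j : Dᵒᵖ} {W W' : Opens (Y.obj ((toAug D).obj (R.ψ.op.obj j)))}
    (c : R.sObj j W' ⟶ R.sObj j W) : (R.u.map c).base = R.ψ.op.map c.base := rfl

theorem ηNat_gA (A : BAb Y) {j : Dᵒᵖ} {W : Opens (Y.obj ((toAug D).obj j))} {V : Opens (Y.obj (bot D))}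
    (b : (incl (topAug Y)).obj (pObj Y j W) ⟶ (eps (topAug Y)).obj V) (a : A.obj.obj (op V)) :
    (R.ηNat.app ((Tpull Y).obj A)).hom.app (op (pObj Y j W)) (gA A b a) =
      atHom (totPart (topAug Y) (topAugTop Y)) R.vf
        ((R.u.sheafPushforwardContinuous AddCommGrpCat.{u} R.shTot (totPart (topAug Y) (topAugTop Y))).obj ((Tpull Y).obj A))
        (R.ρ.app (pObj Y j W)) (gA A ((incl (topAug Y)).map (R.τ.app (pObj Y j W)) ≫ b) a) :=
  congrArg (fun t => atHom (totPart (topAug Y) (topAugTop Y)) R.vf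
    ((R.u.sheafPushforwardContinuous AddCommGrpCat.{u} R.shTot (totPart (topAug Y) (topAugTop Y))).obj ((Tpull Y).obj A))
    (R.ρ.app (pObj Y j W)) t) (map_gA A (R.τ.app (pObj Y j W)) b a)

theorem toBot_σ (j : Dᵒᵖ) (w : Y.obj ((toAug D).obj j)) :
    Y.map (toBot ((toAug D).obj j)) w = Y.map (toBot ((toAug D).obj (R.ψ.op.obj j))) (R.σ j w) := by
  have h : Y.map (toBot ((toAug D).obj j)) =
      R.σ j ≫ Y.map (toBot ((toAug D).obj (R.ψ.op.obj j))) := by
    rw [toBot_unique (toBot ((toAug D).obj (R.ψ.op.obj j)))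
      ((toAug D).map (R.δ.app j.unop).op ≫ toBot ((toAug D).obj j)), Y.map_comp, ← Category.assoc, R.σ_δ]
    exact (Category.id_comp _).symm
  exact ConcreteCategory.congr_hom h w

theorem isIso_ηNat (A : BAb Y) : IsIso (R.ηNat.app ((Tpull Y).obj A)) := by
  let TA := (Tpull Y).obj A
  let G := (R.u.sheafPushforwardContinuous AddCommGrpCat.{u} R.shTot (totPart (topAug Y) (topAugTop Y))).obj TA
  refine isIso_of_local _ (fun j U z x hx => ?_) (fun j U e he x hx => ?_)
  · obtain ⟨W, hW, hxW, W', g, b, hb, hz⟩ := R.local_vf G (U := U) z x hx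
    have hσx : R.σ j x ∈ W' := by
      have h1 := le_of_pHom Y (b : pObj Y j W ⟶ pObj Y j ((Opens.map (R.σ j)).obj W')) hxW
      rw [show b.base = 𝟙 j from hb, CategoryTheory.Functor.map_id, CategoryTheory.Functor.map_id] at h1
      exact h1
    obtain ⟨W₁, hW₁, hxW₁, V, a, b₁, hg⟩ := local_gA A (j := R.ψ.op.obj j) (U := W') g (R.σ j x) hσx
    let W₂ : Opens (Y.obj ((toAug D).obj j)) := W ⊓ (Opens.map (R.σ j)).obj W₁
    have hδ : ∀ w : Y.obj ((toAug D).obj j), Y.map (toBot ((toAug D).obj j)) w =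
        Y.map (toBot ((toAug D).obj (R.ψ.op.obj j))) (R.σ j w) := R.toBot_σ j
    have hV : W₂ ≤ (Opens.map (Y.map (toBot ((toAug D).obj j)))).obj V := fun w hw => by
      show Y.map (toBot ((toAug D).obj j)) w ∈ V
      rw [hδ]
      have h1 := le_of_aHom Y (b₁ : aObj Y ((toAug D).obj (R.ψ.op.obj j)) W₁ ⟶ aObj Y (bot D) V) hw.2
      rw [toBot_unique b₁.base (toBot _)] at h1
      exact h1
    let b₂ : (incl (topAug Y)).obj (pObj Y j W₂) ⟶ (eps (topAug Y)).obj V := aHom Y (toBot _) hV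
    refine ⟨W₂, le_trans inf_le_left hW, ⟨hxW, hxW₁⟩, gA A b₂ a, ?_⟩
    rw [R.ηNat_gA]
    let W₃ : Opens (Y.obj ((toAug D).obj (R.ψ.op.obj j))) :=
      W₁ ⊓ (Opens.map (Y.map ((toAug D).map (R.δ.app j.unop).op))).obj W₂
    let c₁ : R.sObj j W₃ ⟶ R.sObj j ((Opens.map (Y.map ((toAug D).map (R.δ.app j.unop).op))).obj W₂) :=
      (ι R.shF j).map (homOfLE inf_le_right : W₃ ⟶ _)
    let c₂ : R.sObj j W₃ ⟶ R.sObj j W' :=
      (ι R.shF j).map (homOfLE (le_trans inf_le_left hW₁) : W₃ ⟶ W')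
    have hd : W₂ ≤ (Opens.map (Y.map ((toAug D).map (𝟙 j)))).obj ((Opens.map (R.σ j)).obj W₃) := fun w hw => by
      rw [CategoryTheory.Functor.map_id, CategoryTheory.Functor.map_id]
      refine ⟨hw.2, ?_⟩
      show (R.σ j ≫ Y.map ((toAug D).map (R.δ.app j.unop).op)) w ∈ W₂
      rw [R.σ_δ]
      exact hw
    let d : pObj Y j W₂ ⟶ R.vf.obj (R.sObj j W₃) := pHom Y (𝟙 j) hd
    have e1 : atHom (totPart (topAug Y) (topAugTop Y)) R.vf G (R.ρ.app (pObj Y j W₂))
        (gA A ((incl (topAug Y)).map (R.τ.app (pObj Y j W₂)) ≫ b₂) a) =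
        atHom (totPart (topAug Y) (topAugTop Y)) R.vf G d
          (G.obj.map c₁.op (gA A ((incl (topAug Y)).map (R.τ.app (pObj Y j W₂)) ≫ b₂) a)) := by
      refine Eq.trans ?_ (atHom_res (K := totPart (topAug Y) (topAugTop Y)) R.vf G c₁ d _).symm
      exact congrArg (fun t => atHom (totPart (topAug Y) (topAugTop Y)) R.vf G t _)
        (pHom_ext Y (Category.id_comp (𝟙 j)).symm)
    have e2 : atHom (totPart (topAug Y) (topAugTop Y)) R.vf G (pInc (inf_le_left : W₂ ≤ W) ≫ b) g =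
        atHom (totPart (topAug Y) (topAugTop Y)) R.vf G d (G.obj.map c₂.op g) := by
      refine Eq.trans ?_ (atHom_res (K := totPart (topAug Y) (topAugTop Y)) R.vf G c₂ d _).symm
      refine congrArg (fun t => atHom (totPart (topAug Y) (topAugTop Y)) R.vf G t g) (pHom_ext Y ?_)
      show 𝟙 j ≫ b.base = 𝟙 j ≫ 𝟙 j
      rw [show b.base = 𝟙 j from hb]
    have e3 : G.obj.map c₂.op g = G.obj.map c₁.op (gA A ((incl (topAug Y)).map (R.τ.app (pObj Y j W₂)) ≫ b₂) a) := by
      refine Eq.trans ?_ (map_gA A (R.u.map c₁) _ a).symm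
      have h1 : G.obj.map c₂.op g = TA.obj.map (pInc (inf_le_left : W₃ ≤ W₁)).op (gA A b₁ a) := by
        rw [← hg]
        refine Eq.trans ?_ (Functor.map_comp_apply TA.obj _ _ g)
        exact congrArg (fun t => TA.obj.map (Quiver.Hom.op t) g)
          (pHom_ext Y ((R.ψ.op.map_id j).trans (Category.comp_id _).symm))
      refine h1.trans ((map_gA A _ _ a).trans ?_)
      exact gA_eq A _ _ a
    refine e1.trans ((congrArg _ e3).symm.trans (e2.symm.trans ?_))
    refine (map_atHom (K := totPart (topAug Y) (topAugTop Y)) R.vf G _ b g).symm.trans ?_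
    refine (congrArg _ hz).symm.trans ((Functor.map_comp_apply _ _ _ z).symm.trans ?_)
    exact congrArg (fun t => (R.ΦFun.obj TA).obj.map t z)
      (congrArg Quiver.Hom.op (pHom_ext Y (g := pInc (inf_le_left : W₂ ≤ W) ≫ pInc hW)
        (h := pInc (le_trans inf_le_left hW)) (Category.id_comp _)))
  · obtain ⟨W, hW, hxW, V, a, b, hz⟩ := local_gA A (U := U) e x hx
    have h0 : atHom (totPart (topAug Y) (topAugTop Y)) R.vf G (R.ρ.app (pObj Y j W))
        (gA A ((incl (topAug Y)).map (R.τ.app (pObj Y j W)) ≫ b) a) = 0 := by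
      rw [← R.ηNat_gA, ← hz]
      refine (NatTrans.naturality_apply (R.ηNat.app TA).hom (pInc hW).op e).trans ?_
      exact (congrArg _ he).trans (map_zero _)
    obtain ⟨W'', hσW, c, hc, hc0⟩ := R.local_vf_zero G _ (R.ρ.app (pObj Y j W)) rfl h0 x hxW
    have hc0' : gA A ((incl (topAug Y)).map (R.u.map c) ≫ (incl (topAug Y)).map (R.τ.app (pObj Y j W)) ≫ b) a = 0 :=
      (map_gA A (R.u.map c) _ a).symm.trans hc0
    obtain ⟨V', hV', hfx, ha⟩ := local_gen_zero A (S := (toAug D).obj (R.ψ.op.obj j)) (W := W'') a _ hc0'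
      (R.σ j x) hσW
    have hfx' : Y.map (toBot ((toAug D).obj j)) x ∈ V' := by
      rw [R.toBot_σ]
      exact hfx
    let W₁ : Opens (Y.obj ((toAug D).obj j)) := W ⊓ (Opens.map (Y.map (toBot ((toAug D).obj j)))).obj V'
    refine ⟨W₁, le_trans inf_le_left hW, ⟨hxW, hfx'⟩, ?_⟩
    have h1 : TA.obj.map (pInc (le_trans (inf_le_left : W₁ ≤ W) hW)).op e =
        TA.obj.map (pInc (inf_le_left : W₁ ≤ W)).op (gA A b a) := by
      rw [← hz]
      refine Eq.trans ?_ (Functor.map_comp_apply TA.obj _ _ e)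
      exact congrArg (fun t => TA.obj.map (Quiver.Hom.op t) e) (pHom_ext Y (Category.comp_id _).symm)
    refine h1.trans ((map_gA A _ _ a).trans ?_)
    let b' : (incl (topAug Y)).obj (pObj Y j W₁) ⟶ (eps (topAug Y)).obj V' :=
      aHom Y (toBot _) (inf_le_right : W₁ ≤ _)
    refine (gA_eq A _ (b' ≫ (eps (topAug Y)).map (homOfLE hV' : V' ⟶ V)) a).trans ?_
    refine (atHom_res (K := totAug (topAug Y) (topAugTop Y)) (eps (topAug Y)) A (homOfLE hV' : V' ⟶ V) b' a).symm.trans ?_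
    exact (congrArg (fun t => gA A b' t) ha).trans (map_zero _)

end Retraction

end GrothLib.CohDesc25
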