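import Groth.Agent.Lib.CohDesc25.Compare

/-!
# The comparisons with the base
-/

set_option autoImplicit false
set_option backward.isDefEq.respectTransparency false
set_option backward.isDefEq.respectTransparency.types false
set_option linter.unusedSectionVars false
set_option maxHeartbeats 1000000

universe u

open CategoryTheory CategoryTheory.Limits Opposite Pseudofunctor Pseudofunctor.CoGrothendieck TopologicalSpace

namespace GrothLib.CohDesc25

open FibDesc

variable {D : Type} [SmallCategory D] {Y : (WithInitial D)ᵒᵖ ⥤ TopCat.{u}} (R : Retraction Y)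

namespace Retraction

/-- A section of the inverse image along the section coming from degree zero. -/
noncomputable abbrev gS (G : Sheaf (Opens.grothendieckTopology (Y.obj ((toAug D).obj (op R.i₀)))) AddCommGrpCat.{u})
    {V : Opens (Y.obj (bot D))} {W : Opens (Y.obj ((toAug D).obj (op R.i₀)))} (c : V ⟶ (Opens.map R.s).obj W) :
    G.obj.obj (op W) →+ (R.sPull.obj G).obj.obj (op V) :=
  atHom (Opens.grothendieckTopology (Y.obj (bot D))) (Opens.map R.s) G c

theorem gS_eq (G : Sheaf (Opens.grothendieckTopology (Y.obj ((toAug D).obj (op R.i₀)))) AddCommGrpCat.{u})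
    {V : Opens (Y.obj (bot D))} {W : Opens (Y.obj ((toAug D).obj (op R.i₀)))}
    (c c' : V ⟶ (Opens.map R.s).obj W) (g : G.obj.obj (op W)) : R.gS G c g = R.gS G c' g :=
  congrArg (fun t => R.gS G t g) (Subsingleton.elim c c')

theorem s_toBot (y : Y.obj (bot D)) : Y.map (toBot ((toAug D).obj (op R.i₀))) (R.s y) = y :=
  ConcreteCategory.congr_hom R.s_aug y

theorem σ_v_apply (j : Dᵒᵖ) (w : Y.obj ((toAug D).obj j)) :
    Y.map ((toAug D).map (R.v j.unop).op) (R.σ j w) = R.s (Y.map (toBot ((toAug D).obj j)) w) :=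
  ConcreteCategory.congr_hom (R.σ_v j) w

theorem mem_v₀ {j : Dᵒᵖ} {W : Opens (Y.obj ((toAug D).obj j))} {W' : Opens (Y.obj ((toAug D).obj (op R.i₀)))}
    (b : pObj Y j W ⟶ R.v₀.obj (R.cObj j W')) (hb : b.base = 𝟙 j) {w : Y.obj ((toAug D).obj j)} (hw : w ∈ W) :
    R.s (Y.map (toBot ((toAug D).obj j)) w) ∈ W' := by
  have h1 := le_of_pHom Y (b : pObj Y j W ⟶ pObj Y j ((Opens.map (R.σ j)).obj
    ((Opens.map (Y.map ((toAug D).map (R.v j.unop).op))).obj W'))) hw
  rw [show b.base = 𝟙 j from hb, CategoryTheory.Functor.map_id, CategoryTheory.Functor.map_id] at h1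
  rw [← R.σ_v_apply]
  exact h1

/-- A morphism of the constant family. -/
theorem exists_v₀Hom {j : Dᵒᵖ} {W : Opens (Y.obj ((toAug D).obj j))} {W' : Opens (Y.obj ((toAug D).obj (op R.i₀)))}
    (h : ∀ w ∈ W, R.s (Y.map (toBot ((toAug D).obj j)) w) ∈ W') :
    ∃ b : pObj Y j W ⟶ R.v₀.obj (R.cObj j W'), b.base = 𝟙 j :=
  ⟨pHom Y (𝟙 j) (fun w hw => by
    rw [CategoryTheory.Functor.map_id, CategoryTheory.Functor.map_id]
    show Y.map ((toAug D).map (R.v j.unop).op) (R.σ j w) ∈ W'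
    rw [R.σ_v_apply]
    exact h w hw), rfl⟩

theorem ΘNat_atHom (G : Sheaf (Opens.grothendieckTopology (Y.obj ((toAug D).obj (op R.i₀)))) AddCommGrpCat.{u})
    {j : Dᵒᵖ} {W : Opens (Y.obj ((toAug D).obj j))} {W' : Opens (Y.obj ((toAug D).obj (op R.i₀)))}
    (b : pObj Y j W ⟶ R.v₀.obj (R.cObj j W')) (g : G.obj.obj (op W')) :
    (R.ΘNat.app G).hom.app (op (pObj Y j W))
      (atHom (totPart (topAug Y) (topAugTop Y)) R.v₀
        ((R.pf.sheafPushforwardContinuous AddCommGrpCat.{u} R.coTot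
          (Opens.grothendieckTopology (Y.obj ((toAug D).obj (op R.i₀))))).obj G) (U := R.cObj j W') b g) =
      gA (R.sPull.obj G) ((incl (topAug Y)).map b ≫ R.τ₁.app (R.cObj j W')) (R.gS G (𝟙 _) g) := by
  refine (homEquiv_symm_atHom (K := totPart (topAug Y) (topAugTop Y)) R.v₀ _ (R.ΘNat₀.app G) b g).trans ?_
  have h1 : R.gS G (𝟙 ((Opens.map R.s).obj W')) g =
      unitSec (K := Opens.grothendieckTopology (Y.obj (bot D))) (Opens.map R.s) G W' g := by
    show (R.sPull.obj G).obj.map (𝟙 ((Opens.map R.s).obj W')).op _ = _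
    rw [op_id]
    exact Functor.map_id_apply _ _ _
  refine Eq.trans ?_ (congrArg (gA (R.sPull.obj G) ((incl (topAug Y)).map b ≫ R.τ₁.app (R.cObj j W'))) h1).symm
  exact map_atHom (K := totAug (topAug Y) (topAugTop Y)) (eps (topAug Y)) (R.sPull.obj G)
    ((incl (topAug Y)).map b) (R.τ₁.app (R.cObj j W')) _

theorem isIso_ΘNat (G : Sheaf (Opens.grothendieckTopology (Y.obj ((toAug D).obj (op R.i₀)))) AddCommGrpCat.{u}) :
    IsIso (R.ΘNat.app G) := by
  let H := (R.pf.sheafPushforwardContinuous AddCommGrpCat.{u} R.coTot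
          (Opens.grothendieckTopology (Y.obj ((toAug D).obj (op R.i₀))))).obj G
  let sG := R.sPull.obj G
  let TsG := (Tpull Y).obj sG
  refine isIso_of_local _ (fun j U z x hx => ?_) (fun j U e he x hx => ?_)
  · obtain ⟨W, hW, hxW, V, a, b, hz⟩ := local_gA sG (U := U) z x hx
    have hbV : ∀ w ∈ W, Y.map (toBot ((toAug D).obj j)) w ∈ V := fun w hw => by
      have h1 := le_of_aHom Y (b : aObj Y ((toAug D).obj j) W ⟶ aObj Y (bot D) V) hw
      rw [toBot_unique b.base (toBot _)] at h1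
      exact h1
    obtain ⟨V₁, hV₁, hxV₁, W₀, g, c, ha⟩ := local_map R.s G (U := V) a _ (hbV x hxW)
    let W₂ : Opens (Y.obj ((toAug D).obj j)) := W ⊓ (Opens.map (Y.map (toBot ((toAug D).obj j)))).obj V₁
    obtain ⟨d, hd⟩ := R.exists_v₀Hom (W := W₂) (W' := W₀) fun w hw => le_of_hom c hw.2
    refine ⟨W₂, le_trans inf_le_left hW, ⟨hxW, hxV₁⟩,
      atHom (totPart (topAug Y) (topAugTop Y)) R.v₀ H (U := R.cObj j W₀) d g, ?_⟩
    let b' : (incl (topAug Y)).obj (pObj Y j W₂) ⟶ (eps (topAug Y)).obj V₁ :=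
      aHom Y (toBot _) (inf_le_right : W₂ ≤ _)
    refine (R.ΘNat_atHom G d g).trans ?_
    have h1 : TsG.obj.map (pInc (le_trans (inf_le_left : W₂ ≤ W) hW)).op z =
        gA sG b' (sG.obj.map (homOfLE hV₁).op a) := by
      refine Eq.trans ?_ (atHom_res (K := totAug (topAug Y) (topAugTop Y)) (eps (topAug Y)) sG (homOfLE (X := Opens (Y.obj (bot D))) hV₁) b' a).symm
      refine Eq.trans ?_ (gA_eq sG ((incl (topAug Y)).map (pInc (inf_le_left : W₂ ≤ W)) ≫ b) _ a)
      refine Eq.trans ?_ (map_gA sG _ b a)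
      rw [← hz]
      refine Eq.trans ?_ (Functor.map_comp_apply TsG.obj _ _ z)
      exact congrArg (fun t => TsG.obj.map (Quiver.Hom.op t) z) (pHom_ext Y (Category.comp_id _).symm)
    refine Eq.trans ?_ h1.symm
    refine Eq.trans ?_ (congrArg (gA sG b') ha).symm
    have h2 : R.gS G c g = sG.obj.map c.op (R.gS G (𝟙 _) g) := by
      refine Eq.trans ?_ (map_atHom (K := Opens.grothendieckTopology (Y.obj (bot D))) (Opens.map R.s) G c (𝟙 _) g).symm
      exact R.gS_eq G _ _ g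
    refine Eq.trans ?_ (congrArg (gA sG b') h2).symm
    refine Eq.trans ?_ (atHom_res (K := totAug (topAug Y) (topAugTop Y)) (eps (topAug Y)) sG c b' _).symm
    exact gA_eq sG _ _ _
  · obtain ⟨W, hW, hxW, W', g, b, hb, hz⟩ := R.local_v₀ H (U := U) e x hx
    have h0 : gA sG ((incl (topAug Y)).map b ≫ R.τ₁.app (R.cObj j W')) (R.gS G (𝟙 _) g) = 0 := by
      refine (R.ΘNat_atHom G b g).symm.trans ?_
      refine (congrArg _ hz).symm.trans ?_
      refine (NatTrans.naturality_apply (R.ΘNat.app G).hom (pInc hW).op e).trans ?_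
      exact (congrArg _ he).trans (map_zero _)
    obtain ⟨V', hV', hfx, ha⟩ := local_gen_zero sG (S := (toAug D).obj j) (W := W) (V := (Opens.map R.s).obj W')
      (R.gS G (𝟙 _) g) ((incl (topAug Y)).map b ≫ R.τ₁.app (R.cObj j W')) h0 x hxW
    have h1 : R.gS G (homOfLE hV' : V' ⟶ (Opens.map R.s).obj W') g = 0 := by
      refine Eq.trans ?_ ha
      refine Eq.trans ?_ (map_atHom (K := Opens.grothendieckTopology (Y.obj (bot D))) (Opens.map R.s) G _ (𝟙 _) g).symm
      exact R.gS_eq G _ _ g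
    obtain ⟨W'', hW'', hsx, hg⟩ := local_map_zero R.s G g _ h1 _ hfx
    let W₁ : Opens (Y.obj ((toAug D).obj j)) :=
      W ⊓ (Opens.map (Y.map (toBot ((toAug D).obj j)))).obj ((Opens.map R.s).obj W'')
    obtain ⟨d, hd⟩ := R.exists_v₀Hom (W := W₁) (W' := W'') fun w hw => hw.2
    refine ⟨W₁, le_trans inf_le_left hW, ⟨hxW, hsx⟩, ?_⟩
    have h2 : (R.ΛFun.obj G).obj.map (pInc (le_trans (inf_le_left : W₁ ≤ W) hW)).op e =
        atHom (totPart (topAug Y) (topAugTop Y)) R.v₀ H (U := R.cObj j W') (pInc (inf_le_left : W₁ ≤ W) ≫ b) g := by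
      refine Eq.trans ?_ (map_atHom (K := totPart (topAug Y) (topAugTop Y)) R.v₀ H _ b g)
      refine Eq.trans ?_ (congrArg _ hz)
      refine Eq.trans ?_ (Functor.map_comp_apply (R.ΛFun.obj G).obj _ _ e)
      exact congrArg (fun t => (R.ΛFun.obj G).obj.map (Quiver.Hom.op t) e) (pHom_ext Y (Category.comp_id _).symm)
    refine h2.trans ?_
    let c : R.cObj j W'' ⟶ R.cObj j W' := R.cHom (𝟙 j) hW''
    refine (congrArg (fun t => atHom (totPart (topAug Y) (topAugTop Y)) R.v₀ H (U := R.cObj j W') t g)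
      (pHom_ext Y (g := pInc (inf_le_left : W₁ ≤ W) ≫ b) (h := d ≫ R.v₀.map c) ?_)).trans ?_
    · show 𝟙 j ≫ b.base = d.base ≫ 𝟙 j
      rw [show b.base = 𝟙 j from hb, show d.base = 𝟙 j from hd]
    · refine (atHom_res (K := totPart (topAug Y) (topAugTop Y)) R.v₀ H c d g).symm.trans ?_
      exact (congrArg (fun t => atHom (totPart (topAug Y) (topAugTop Y)) R.v₀ H (U := R.cObj j W'') d t) hg).trans
        (map_zero _)

theorem βVal_apply (A : BAb Y) (V : Opens (Y.obj (bot D))) (a : A.obj.obj (op V)) :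
    R.βVal A V a = R.gS (R.res₀.obj ((Tpull Y).obj A)) (homOfLE (R.le_sPre_bPre V))
      (gA A (j := op R.i₀) (W := R.bPre V) (R.bHom V) a) := rfl

theorem bPre_mono {V V' : Opens (Y.obj (bot D))} (h : V' ≤ V) : R.bPre V' ≤ R.bPre V := fun _ hz => h hz

theorem res₀_gA (A : BAb Y) {W W' : Opens (Y.obj ((toAug D).obj (op R.i₀)))} (h : W' ≤ W)
    {V : Opens (Y.obj (bot D))}
    (b : (incl (topAug Y)).obj (pObj Y (op R.i₀) W) ⟶ (eps (topAug Y)).obj V)
    (b' : (incl (topAug Y)).obj (pObj Y (op R.i₀) W') ⟶ (eps (topAug Y)).obj V)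
    (a : A.obj.obj (op V)) :
    (R.res₀.obj ((Tpull Y).obj A)).obj.map (homOfLE h : W' ⟶ W).op (gA A b a) = gA A b' a :=
  (map_gA A (pInc h) b a).trans (gA_eq A _ _ a)

/-- The comparison of a sheaf on the base with the retraction of its inverse image. -/
noncomputable def βApp (A : BAb Y) : A ⟶ (Tpull Y ⋙ R.rFun).obj A :=
  ObjectProperty.homMk
    { app := fun V => R.βVal A V.unop
      naturality := fun V V' g => by
        ext a
        obtain ⟨V⟩ := V
        obtain ⟨V'⟩ := V'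
        let G := R.res₀.obj ((Tpull Y).obj A)
        show R.βVal A V' (A.obj.map g a) = (R.sPull.obj G).obj.map g (R.βVal A V a)
        rw [βVal_apply, βVal_apply]
        have hle := le_of_hom (X := Y.obj (bot D)) (U := V) (V := V') g.unop
        refine Eq.trans ?_ (map_atHom (K := Opens.grothendieckTopology (Y.obj (bot D))) (Opens.map R.s) G g.unop _ _).symm
        refine (congrArg (R.gS G _) ((atHom_res (K := totAug (topAug Y) (topAugTop Y)) (eps (topAug Y)) A g.unop _ a).trans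
          (R.res₀_gA A (R.bPre_mono hle) (R.bHom V) _ a).symm)).trans ?_
        refine (atHom_res (K := Opens.grothendieckTopology (Y.obj (bot D))) (Opens.map R.s) G _ _ _).trans ?_
        exact R.gS_eq G _ _ _ }

theorem βApp_natural {A A' : BAb Y} (φ : A ⟶ A') :
    φ ≫ R.βApp A' = R.βApp A ≫ (Tpull Y ⋙ R.rFun).map φ := by
  ext ⟨V⟩ a
  let G := R.res₀.obj ((Tpull Y).obj A)
  let G' := R.res₀.obj ((Tpull Y).obj A')
  let ψ : G ⟶ G' := R.res₀.map ((Tpull Y).map φ)
  show R.βVal A' V (φ.hom.app (op V) a) = (R.sPull.map ψ).hom.app (op V) (R.βVal A V a)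
  rw [βVal_apply, βVal_apply]
  refine Eq.trans ?_ (app_atHom (K := Opens.grothendieckTopology (Y.obj (bot D))) (Opens.map R.s) G ψ _ _).symm
  refine congrArg (R.gS G' _) ?_
  exact (app_atHom (K := totAug (topAug Y) (topAugTop Y)) (eps (topAug Y)) A φ (R.bHom V) a).symm

theorem isIso_βApp (A : BAb Y) : IsIso (R.βApp A) := by
  let G := R.res₀.obj ((Tpull Y).obj A)
  have hinj : Sheaf.IsLocallyInjective (R.βApp A) := ⟨fun {X} e e' he => by
    obtain ⟨V⟩ := X
    intro y hy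
    have h0 : R.βVal A V (e - e') = 0 := by
      rw [map_sub]; exact sub_eq_zero.2 he
    rw [βVal_apply] at h0
    obtain ⟨W', hW', hsy, hg⟩ := local_map_zero R.s G _ _ h0 y hy
    have h1 : gA A (j := op R.i₀) (W := W') ((incl (topAug Y)).map (pInc hW') ≫ R.bHom V) (e - e') = 0 :=
      (map_gA A (pInc hW') (R.bHom V) (e - e')).symm.trans hg
    obtain ⟨V', hV', hy', ha⟩ := local_gen_zero A (S := (toAug D).obj (op R.i₀)) (W := W') (e - e') _ h1 (R.s y) hsy
    rw [R.s_toBot] at hy'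
    exact ⟨V', homOfLE hV', sub_eq_zero.1 ((map_sub _ _ _).symm.trans ha), hy'⟩⟩
  have hsurj : Sheaf.IsLocallySurjective (R.βApp A) := ⟨fun {V} z => by
    intro y hy
    obtain ⟨V₁, hV₁, hyV₁, W₀, g, c, hz⟩ := local_map R.s G (U := V) z y hy
    obtain ⟨W₁, hW₁, hsy, Va, a, b, hg⟩ := local_gA A (j := op R.i₀) (U := W₀) g (R.s y) (le_of_hom c hyV₁)
    let V₂ : Opens (Y.obj (bot D)) := V₁ ⊓ (Opens.map R.s).obj W₁
    have hVa : V₂ ≤ Va := fun w hw => by
      have h1 := le_of_aHom Y (b : aObj Y ((toAug D).obj (op R.i₀)) W₁ ⟶ aObj Y (bot D) Va) hw.2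
      rw [toBot_unique b.base (toBot _)] at h1
      have h2 : Y.map (toBot ((toAug D).obj (op R.i₀))) (R.s w) ∈ Va := h1
      rwa [R.s_toBot] at h2
    refine ⟨V₂, homOfLE (le_trans inf_le_left hV₁), ⟨A.obj.map (homOfLE hVa).op a, ?_⟩, ⟨hyV₁, hsy⟩⟩
    let T := (R.sPull.obj G).obj
    show R.βVal A V₂ (A.obj.map (homOfLE hVa).op a) = T.map (homOfLE (le_trans inf_le_left hV₁) : V₂ ⟶ V).op z
    rw [βVal_apply]
    let W₂ : Opens (Y.obj ((toAug D).obj (op R.i₀))) := W₁ ⊓ R.bPre V₂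
    have hd : V₂ ≤ (Opens.map R.s).obj W₂ := fun w hw => ⟨hw.2, (R.le_sPre_bPre V₂) hw⟩
    let b₂ : (incl (topAug Y)).obj (pObj Y (op R.i₀) W₂) ⟶ (eps (topAug Y)).obj Va :=
      (incl (topAug Y)).map (pInc (inf_le_left : W₂ ≤ W₁)) ≫ b
    have e1 : R.gS G (homOfLE (R.le_sPre_bPre V₂)) (gA A (R.bHom V₂) (A.obj.map (homOfLE hVa).op a)) =
        R.gS G (homOfLE hd) (gA A b₂ a) := by
      refine (congrArg (R.gS G _) (atHom_res (K := totAug (topAug Y) (topAugTop Y)) (eps (topAug Y)) A (homOfLE (X := Opens (Y.obj (bot D))) hVa) (R.bHom V₂) a)).trans ?_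
      refine Eq.trans ?_ (congrArg (R.gS G (homOfLE hd)) (R.res₀_gA A (inf_le_right : W₂ ≤ R.bPre V₂) (R.bHom V₂ ≫ (eps (topAug Y)).map (homOfLE (X := Opens (Y.obj (bot D))) hVa)) b₂ a))
      refine Eq.trans ?_ (atHom_res (K := Opens.grothendieckTopology (Y.obj (bot D))) (Opens.map R.s) G _ _ _).symm
      exact R.gS_eq G _ _ _
    refine e1.trans ?_
    have e2 : T.map (homOfLE (le_trans (inf_le_left : V₂ ≤ V₁) hV₁) : V₂ ⟶ V).op z =
        R.gS G ((homOfLE inf_le_left : V₂ ⟶ V₁) ≫ c) g := by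
      refine Eq.trans ?_ (map_atHom (K := Opens.grothendieckTopology (Y.obj (bot D))) (Opens.map R.s) G _ c g)
      refine Eq.trans ?_ (congrArg _ hz)
      exact Functor.map_comp_apply T (homOfLE hV₁).op (homOfLE inf_le_left : V₂ ⟶ V₁).op z
    refine Eq.trans ?_ e2.symm
    have e3 : G.obj.map (homOfLE (le_trans (inf_le_left : W₂ ≤ W₁) hW₁)).op g = gA A b₂ a := by
      refine Eq.trans ?_ ((congrArg (((Tpull Y).obj A).obj.map (pInc (inf_le_left : W₂ ≤ W₁)).op) hg).trans (map_gA A _ b a))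
      refine Eq.trans ?_ (Functor.map_comp_apply ((Tpull Y).obj A).obj _ _ g)
      exact congrArg (fun t => ((Tpull Y).obj A).obj.map (Quiver.Hom.op t) g) (pHom_ext Y (Category.comp_id _).symm)
    refine (congrArg (R.gS G (homOfLE hd)) e3.symm).trans ?_
    refine (atHom_res (K := Opens.grothendieckTopology (Y.obj (bot D))) (Opens.map R.s) G _ _ _).trans ?_
    exact R.gS_eq G _ _ _⟩
  exact (Sheaf.isLocallyBijective_iff_isIso _).1 ⟨hinj, hsurj⟩

end Retraction

end GrothLib.CohDesc25
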