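import Mathlib.Algebra.Homology.DerivedCategory.ExactFunctor
import Mathlib.Algebra.Homology.DerivedCategory.Plus
import Mathlib.Algebra.Homology.DerivedCategory.KInjective
import Mathlib.Algebra.Homology.DerivedCategory.TStructure
import Mathlib.Algebra.Homology.Factorizations.CM5a
import Mathlib.CategoryTheory.Preadditive.Injective.Basic
import Mathlib.CategoryTheory.Adjunction.Additive

/-!
# Full faithfulness of an exact left adjoint on bounded below derived categories
-/

set_option autoImplicit false
set_option backward.isDefEq.respectTransparency false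
set_option linter.unusedSectionVars false

universe w₁ w₂ v₁ v₂ u₁ u₂

open CategoryTheory CategoryTheory.Category CategoryTheory.Limits

namespace GrothLib.CohDesc25

variable {B : Type u₁} [Category.{v₁} B] [Abelian B]
  {E : Type u₂} [Category.{v₂} E] [Abelian E]
  {T : B ⥤ E} {P : E ⥤ B} [T.Additive] [P.Additive] (adj : T ⊣ P)

/-- The adjunct of a map of complexes. -/
def transpose {K : CochainComplex B ℤ} {J : CochainComplex E ℤ}
    (φ : (T.mapHomologicalComplex (ComplexShape.up ℤ)).obj K ⟶ J) :
    K ⟶ (P.mapHomologicalComplex (ComplexShape.up ℤ)).obj J where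
  f n := adj.homEquiv _ _ (φ.f n)
  comm' i j _ := by
    refine (adj.homEquiv_naturality_right _ _).symm.trans ?_
    refine Eq.trans ?_ (adj.homEquiv_naturality_left _ _)
    exact congrArg _ (φ.comm i j)

/-- The adjunct of a map of complexes, backwards. -/
def transposeSymm {K : CochainComplex B ℤ} {J : CochainComplex E ℤ}
    (ψ : K ⟶ (P.mapHomologicalComplex (ComplexShape.up ℤ)).obj J) :
    (T.mapHomologicalComplex (ComplexShape.up ℤ)).obj K ⟶ J where
  f n := (adj.homEquiv _ _).symm (ψ.f n)
  comm' i j _ := by
    refine (adj.homEquiv_naturality_right_symm _ _).symm.trans ?_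
    refine Eq.trans ?_ (adj.homEquiv_naturality_left_symm _ _)
    exact congrArg _ (ψ.comm i j)

theorem transpose_symm {K : CochainComplex B ℤ} {J : CochainComplex E ℤ}
    (ψ : K ⟶ (P.mapHomologicalComplex (ComplexShape.up ℤ)).obj J) :
    transpose adj (transposeSymm adj ψ) = ψ := by
  ext n
  exact Equiv.apply_symm_apply (adj.homEquiv _ _) _

theorem transpose_comp {K K' : CochainComplex B ℤ} {J : CochainComplex E ℤ} (f : K ⟶ K')
    (φ : (T.mapHomologicalComplex (ComplexShape.up ℤ)).obj K' ⟶ J) :
    transpose adj ((T.mapHomologicalComplex (ComplexShape.up ℤ)).map f ≫ φ) = f ≫ transpose adj φ := by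
  ext n
  exact adj.homEquiv_naturality_left _ _

theorem homotopy_transpose {K : CochainComplex B ℤ} {J : CochainComplex E ℤ}
    {φ φ' : (T.mapHomologicalComplex (ComplexShape.up ℤ)).obj K ⟶ J} (h : Homotopy φ φ') :
    Nonempty (Homotopy (transpose adj φ) (transpose adj φ')) := by
  let η : K ⟶ (P.mapHomologicalComplex (ComplexShape.up ℤ)).obj
      ((T.mapHomologicalComplex (ComplexShape.up ℤ)).obj K) :=
    { f := fun n => adj.unit.app (K.X n)
      comm' := fun i j _ => (adj.unit.naturality (K.d i j)).symm }
  have e : ∀ ψ : (T.mapHomologicalComplex (ComplexShape.up ℤ)).obj K ⟶ J,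
      transpose adj ψ = η ≫ (P.mapHomologicalComplex (ComplexShape.up ℤ)).map ψ := fun ψ => by
    ext n
    exact adj.homEquiv_unit _ _ _
  rw [e, e]
  exact ⟨(P.mapHomotopy h).compLeft η⟩

theorem homotopy_transposeSymm {K : CochainComplex B ℤ} {J : CochainComplex E ℤ}
    {ψ ψ' : K ⟶ (P.mapHomologicalComplex (ComplexShape.up ℤ)).obj J} (h : Homotopy ψ ψ') :
    Nonempty (Homotopy (transposeSymm adj ψ) (transposeSymm adj ψ')) := by
  let ε : (T.mapHomologicalComplex (ComplexShape.up ℤ)).obj
      ((P.mapHomologicalComplex (ComplexShape.up ℤ)).obj J) ⟶ J :=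
    { f := fun n => adj.counit.app (J.X n)
      comm' := fun i j _ => (adj.counit.naturality (J.d i j)).symm }
  have e : ∀ χ : K ⟶ (P.mapHomologicalComplex (ComplexShape.up ℤ)).obj J,
      transposeSymm adj χ = (T.mapHomologicalComplex (ComplexShape.up ℤ)).map χ ≫ ε := fun χ => by
    ext n
    exact adj.homEquiv_counit _ _ _
  rw [e, e]
  exact ⟨(T.mapHomotopy h).compRight ε⟩

/-- The criterion: units on injective complexes are quasi-isomorphisms. -/
def UnitQuasiIso : Prop :=
  ∀ (I : CochainComplex B ℤ) (a : ℤ), I.IsStrictlyGE a → (∀ n, Injective (I.X n)) →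
    ∀ (J : CochainComplex E ℤ) (b : ℤ), J.IsStrictlyGE b → (∀ n, Injective (J.X n)) →
      ∀ φ : (T.mapHomologicalComplex (ComplexShape.up ℤ)).obj I ⟶ J, QuasiIso φ →
        QuasiIso (transpose adj φ)

section Derived

variable [HasDerivedCategory.{w₁} B] [HasDerivedCategory.{w₂} E]

theorem Q_surjective {K L : CochainComplex B ℤ} [L.IsKInjective]
    (x : DerivedCategory.Q.obj K ⟶ DerivedCategory.Q.obj L) : ∃ f : K ⟶ L, DerivedCategory.Q.map f = x := by
  obtain ⟨g, hg⟩ := (CochainComplex.IsKInjective.Qh_map_bijective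
    ((HomotopyCategory.quotient B (ComplexShape.up ℤ)).obj K) L).2
    ((DerivedCategory.quotientCompQhIso B).hom.app K ≫ x ≫ (DerivedCategory.quotientCompQhIso B).inv.app L)
  obtain ⟨f, rfl⟩ := (HomotopyCategory.quotient B (ComplexShape.up ℤ)).map_surjective g
  refine ⟨f, ?_⟩
  rw [← cancel_epi ((DerivedCategory.quotientCompQhIso B).hom.app K),
    ← (DerivedCategory.quotientCompQhIso B).hom.naturality f]
  show DerivedCategory.Qh.map ((HomotopyCategory.quotient B (ComplexShape.up ℤ)).map f) ≫ _ = _
  rw [hg]
  simp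

theorem Q_injective {K L : CochainComplex B ℤ} [L.IsKInjective] {f f' : K ⟶ L}
    (h : DerivedCategory.Q.map f = DerivedCategory.Q.map f') : Nonempty (Homotopy f f') := by
  refine ⟨HomotopyCategory.homotopyOfEq _ _ ((CochainComplex.IsKInjective.Qh_map_bijective
    ((HomotopyCategory.quotient B (ComplexShape.up ℤ)).obj K) L).1 ?_)⟩
  rw [← cancel_mono ((DerivedCategory.quotientCompQhIso B).hom.app L)]
  exact ((DerivedCategory.quotientCompQhIso B).hom.naturality f).trans
    ((congrArg (fun t => _ ≫ t) h).trans ((DerivedCategory.quotientCompQhIso B).hom.naturality f').symm)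

theorem Q_map_eq {K L : CochainComplex B ℤ} {f f' : K ⟶ L} (h : Homotopy f f') :
    DerivedCategory.Q.map f = DerivedCategory.Q.map f' := by
  rw [← cancel_epi ((DerivedCategory.quotientCompQhIso B).hom.app K),
    ← (DerivedCategory.quotientCompQhIso B).hom.naturality f,
    ← (DerivedCategory.quotientCompQhIso B).hom.naturality f']
  exact congrArg (fun t => DerivedCategory.Qh.map t ≫ _) (HomotopyCategory.eq_of_homotopy _ _ h)

variable [PreservesFiniteLimits T] [PreservesFiniteColimits T]

theorem map_Q_map {K L : CochainComplex B ℤ} (f : K ⟶ L) :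
    T.mapDerivedCategoryFactors.inv.app K ≫ T.mapDerivedCategory.map (DerivedCategory.Q.map f) ≫
      T.mapDerivedCategoryFactors.hom.app L =
      DerivedCategory.Q.map ((T.mapHomologicalComplex (ComplexShape.up ℤ)).map f) := by
  erw [T.mapDerivedCategoryFactors.hom.naturality f, Iso.inv_hom_id_app_assoc]
  rfl

include adj in
theorem preservesInjective_of_adj {J : E} [Injective J] : Injective (P.obj J) := by
  haveI : Functor.PreservesMonomorphisms T := inferInstance
  exact Injective.injective_of_adjoint adj J

include adj in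
theorem bijective_of_unitQuasiIso [EnoughInjectives B] [EnoughInjectives E] (hu : UnitQuasiIso adj)
    (X Y : DerivedCategory.Plus B) :
    Function.Bijective fun g : X.obj ⟶ Y.obj => T.mapDerivedCategory.map g := by
  obtain ⟨n, hn⟩ := Y.property
  obtain ⟨K', hK', ⟨eY₀⟩⟩ := DerivedCategory.exists_iso_Q_obj_of_isGE Y.obj n
  obtain ⟨I, i, hi, hI, hI'⟩ := CochainComplex.Plus.modelCategoryQuillen.exists_quasiIso_injective K' n
  obtain ⟨J, φ, hφ, hJ, hJ'⟩ := CochainComplex.Plus.modelCategoryQuillen.exists_quasiIso_injective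
    ((T.mapHomologicalComplex (ComplexShape.up ℤ)).obj I) n
  haveI : I.IsKInjective := CochainComplex.isKInjective_of_injective I n
  haveI : J.IsKInjective := CochainComplex.isKInjective_of_injective J n
  haveI : ∀ m, Injective (((P.mapHomologicalComplex (ComplexShape.up ℤ)).obj J).X m) := fun m =>
    haveI := hJ m
    preservesInjective_of_adj adj
  haveI : CochainComplex.IsStrictlyGE ((P.mapHomologicalComplex (ComplexShape.up ℤ)).obj J) n := inferInstance
  haveI : CochainComplex.IsKInjective ((P.mapHomologicalComplex (ComplexShape.up ℤ)).obj J) :=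
    CochainComplex.isKInjective_of_injective _ n
  haveI hu' : QuasiIso (transpose adj φ) := hu I n hI' hI J n hJ' hJ φ hφ
  haveI : IsIso (DerivedCategory.Q.map i) := inferInstance
  let eY : Y.obj ≅ DerivedCategory.Q.obj I := eY₀ ≪≫ asIso (DerivedCategory.Q.map i)
  let eX := DerivedCategory.Q.objObjPreimageIso X.obj
  let K : CochainComplex B ℤ := DerivedCategory.Q.objPreimage X.obj
  let fT := T.mapDerivedCategoryFactors
  have main : Function.Bijective fun g : DerivedCategory.Q.obj K ⟶ DerivedCategory.Q.obj I =>
      T.mapDerivedCategory.map g := by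
    constructor
    · intro g g' h
      obtain ⟨f, rfl⟩ := Q_surjective g
      obtain ⟨f', rfl⟩ := Q_surjective g'
      have h' := congrArg (fun z => fT.inv.app K ≫ z ≫ fT.hom.app I) h
      simp only at h'
      rw [map_Q_map, map_Q_map] at h'
      have h'' : DerivedCategory.Q.map ((T.mapHomologicalComplex (ComplexShape.up ℤ)).map f ≫ φ) =
          DerivedCategory.Q.map ((T.mapHomologicalComplex (ComplexShape.up ℤ)).map f' ≫ φ) := by
        rw [Functor.map_comp, Functor.map_comp, h']
      obtain ⟨k⟩ := Q_injective h''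
      obtain ⟨k'⟩ := homotopy_transpose adj k
      have h3 := Q_map_eq k'
      rw [transpose_comp, transpose_comp, Functor.map_comp, Functor.map_comp] at h3
      exact (cancel_mono (DerivedCategory.Q.map (transpose adj φ))).1 h3
    · intro h
      obtain ⟨ψ, hψ⟩ := Q_surjective (fT.inv.app K ≫ h ≫ fT.hom.app I ≫ DerivedCategory.Q.map φ)
      obtain ⟨f, hf⟩ := Q_surjective (DerivedCategory.Q.map (transpose adj ψ) ≫ inv (DerivedCategory.Q.map (transpose adj φ)))
      refine ⟨DerivedCategory.Q.map f, ?_⟩
      show T.mapDerivedCategory.map (DerivedCategory.Q.map f) = h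
      have hq : DerivedCategory.Q.map (f ≫ transpose adj φ) = DerivedCategory.Q.map (transpose adj ψ) := by
        rw [Functor.map_comp, hf, assoc, IsIso.inv_hom_id, comp_id]
      obtain ⟨k⟩ := Q_injective hq
      obtain ⟨k'⟩ := homotopy_transposeSymm adj k
      have h3 := Q_map_eq k'
      have e1 : transposeSymm adj (f ≫ transpose adj φ) = (T.mapHomologicalComplex (ComplexShape.up ℤ)).map f ≫ φ := by
        rw [← transpose_comp adj f φ]
        ext m
        exact Equiv.symm_apply_apply (adj.homEquiv _ _) _
      have e2 : transposeSymm adj (transpose adj ψ) = ψ := by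
        ext m
        exact Equiv.symm_apply_apply (adj.homEquiv _ _) _
      rw [e1, e2, hψ, Functor.map_comp, ← map_Q_map] at h3
      rw [← cancel_epi (fT.inv.app K), ← cancel_mono (fT.hom.app I ≫ DerivedCategory.Q.map φ)]
      simpa only [assoc, fT] using h3
  constructor
  · intro g g' h
    have := main.1 (a₁ := eX.hom ≫ g ≫ eY.hom) (a₂ := eX.hom ≫ g' ≫ eY.hom)
      (by simp only [Functor.map_comp]; rw [show T.mapDerivedCategory.map g = T.mapDerivedCategory.map g' from h])
    exact (cancel_epi eX.hom).1 (by
      rw [← cancel_mono eY.hom]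
      simpa only [assoc] using this)
  · intro h
    obtain ⟨g, hg⟩ := main.2 (T.mapDerivedCategory.map eX.hom ≫ h ≫ T.mapDerivedCategory.map eY.hom)
    refine ⟨eX.inv ≫ g ≫ eY.inv, ?_⟩
    simp only at hg
    simp only [Functor.map_comp, hg, assoc]
    simp [← Functor.map_comp_assoc, ← Functor.map_comp]

include adj in
theorem unitQuasiIso_of_bijective
    (hb : ∀ X Y : DerivedCategory.Plus B, Function.Bijective fun g : X.obj ⟶ Y.obj => T.mapDerivedCategory.map g) :
    UnitQuasiIso adj := by
  intro I a _ hI J b _ hJ φ _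
  haveI : ∀ m, Injective (((P.mapHomologicalComplex (ComplexShape.up ℤ)).obj J).X m) := fun m =>
    haveI := hJ m
    preservesInjective_of_adj adj
  haveI : CochainComplex.IsStrictlyGE ((P.mapHomologicalComplex (ComplexShape.up ℤ)).obj J) b := inferInstance
  haveI : CochainComplex.IsKInjective ((P.mapHomologicalComplex (ComplexShape.up ℤ)).obj J) :=
    CochainComplex.isKInjective_of_injective _ b
  haveI : I.IsKInjective := CochainComplex.isKInjective_of_injective I a
  haveI : J.IsKInjective := CochainComplex.isKInjective_of_injective J b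
  let fT := T.mapDerivedCategoryFactors
  let u := transpose adj φ
  let pI : DerivedCategory.Plus B := ⟨DerivedCategory.Q.obj I, a, inferInstance⟩
  let pP : DerivedCategory.Plus B :=
    ⟨DerivedCategory.Q.obj ((P.mapHomologicalComplex (ComplexShape.up ℤ)).obj J), b, inferInstance⟩
  haveI : IsIso (DerivedCategory.Q.map φ) := inferInstance
  let ε := transposeSymm adj (𝟙 ((P.mapHomologicalComplex (ComplexShape.up ℤ)).obj J))
  obtain ⟨g, hg⟩ := (hb pP pI).2 (fT.hom.app _ ≫ DerivedCategory.Q.map ε ≫ inv (DerivedCategory.Q.map φ) ≫ fT.inv.app I)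
  obtain ⟨f, rfl⟩ := Q_surjective g
  simp only at hg
  have h1 : DerivedCategory.Q.map ((T.mapHomologicalComplex (ComplexShape.up ℤ)).map f ≫ φ) = DerivedCategory.Q.map ε := by
    rw [Functor.map_comp, ← map_Q_map, hg]
    simp [fT]
  have h2 : DerivedCategory.Q.map f ≫ DerivedCategory.Q.map u = 𝟙 _ := by
    obtain ⟨k⟩ := Q_injective h1
    obtain ⟨k'⟩ := homotopy_transpose adj k
    have h3 := Q_map_eq k'
    rw [transpose_comp, transpose_symm, Functor.map_comp, CategoryTheory.Functor.map_id] at h3
    exact h3
  have h4 : DerivedCategory.Q.map u ≫ DerivedCategory.Q.map f = 𝟙 _ := by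
    refine (hb pI pI).1 ?_
    show T.mapDerivedCategory.map _ = T.mapDerivedCategory.map (𝟙 (DerivedCategory.Q.obj I))
    rw [CategoryTheory.Functor.map_id, ← Functor.map_comp, ← cancel_epi (fT.inv.app I),
      ← cancel_mono (fT.hom.app I ≫ DerivedCategory.Q.map φ)]
    have h5 := congrArg (fun z => DerivedCategory.Q.map ((T.mapHomologicalComplex (ComplexShape.up ℤ)).map u) ≫ z) h1
    simp only [← Functor.map_comp] at h5
    have e : (T.mapHomologicalComplex (ComplexShape.up ℤ)).map u ≫ ε = φ := by
      ext m
      refine (adj.homEquiv_naturality_left_symm _ _).symm.trans ?_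
      refine (congrArg _ (Category.comp_id _)).trans ?_
      exact Equiv.symm_apply_apply (adj.homEquiv _ _) _
    rw [e, ← assoc, ← Functor.map_comp (T.mapHomologicalComplex (ComplexShape.up ℤ)), Functor.map_comp DerivedCategory.Q,
      ← map_Q_map] at h5
    simpa [fT] using h5
  haveI : IsIso (DerivedCategory.Q.map u) := ⟨DerivedCategory.Q.map f, h4, h2⟩
  exact (DerivedCategory.isIso_Q_map_iff_quasiIso _ u).1 inferInstance

end Derived

end GrothLib.CohDesc25
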