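import Mathlib.Algebra.Homology.DerivedCategory.ExactFunctor

/-!
# Full faithfulness on derived categories from a retraction up to a natural zigzag
-/

set_option autoImplicit false
set_option backward.isDefEq.respectTransparency false

universe w₁ w₂ v₁ v₂ u₁ u₂

open CategoryTheory CategoryTheory.Category CategoryTheory.Limits

namespace GrothLib.CohDesc25

variable {B : Type u₁} [Category.{v₁} B] [Abelian B] [HasDerivedCategory.{w₁} B]
  {E : Type u₂} [Category.{v₂} E] [Abelian E] [HasDerivedCategory.{w₂} E]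

set_option maxHeartbeats 1000000 in
theorem bijective_map_of_zigzag
    (T : B ⥤ E) [T.Additive] [PreservesFiniteLimits T] [PreservesFiniteColimits T]
    (r : E ⥤ B) [r.Additive] [PreservesFiniteLimits r] [PreservesFiniteColimits r]
    (Φ : E ⥤ E) [Φ.Additive] [PreservesFiniteLimits Φ] [PreservesFiniteColimits Φ]
    (η : 𝟭 E ⟶ Φ) (ε : r ⋙ T ⟶ Φ) (β : 𝟭 B ≅ T ⋙ r)
    (hcomp : ∀ A, T.map (β.hom.app A) ≫ ε.app (T.obj A) = η.app (T.obj A))
    (hη : ∀ A, IsIso (η.app (T.obj A))) (K L : DerivedCategory B) :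
    Function.Bijective fun g : K ⟶ L => T.mapDerivedCategory.map g := by
  let W := HomologicalComplex.quasiIso E (ComplexShape.up ℤ)
  let W' := HomologicalComplex.quasiIso B (ComplexShape.up ℤ)
  let QE : CochainComplex E ℤ ⥤ DerivedCategory E := DerivedCategory.Q
  let QB : CochainComplex B ℤ ⥤ DerivedCategory B := DerivedCategory.Q
  let T₀ := T.mapHomologicalComplex (ComplexShape.up ℤ)
  let r₀ := r.mapHomologicalComplex (ComplexShape.up ℤ)
  let Φ₀ := Φ.mapHomologicalComplex (ComplexShape.up ℤ)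
  let T' := T.mapDerivedCategory
  let r' := r.mapDerivedCategory
  let Φ' := Φ.mapDerivedCategory
  let fT : QB ⋙ T' ≅ T₀ ⋙ QE := T.mapDerivedCategoryFactors
  let fr : QE ⋙ r' ≅ r₀ ⋙ QB := r.mapDerivedCategoryFactors
  let fΦ : QE ⋙ Φ' ≅ Φ₀ ⋙ QE := Φ.mapDerivedCategoryFactors
  letI : Localization.Lifting QE W (r₀ ⋙ T₀ ⋙ QE) (r' ⋙ T') :=
    ⟨(Functor.associator _ _ _).symm ≪≫ Functor.isoWhiskerRight fr T' ≪≫ Functor.associator _ _ _ ≪≫
      Functor.isoWhiskerLeft r₀ fT⟩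
  letI : Localization.Lifting QE W (Φ₀ ⋙ QE) Φ' := ⟨fΦ⟩
  letI : Localization.Lifting QE W QE (𝟭 (DerivedCategory E)) := ⟨Functor.rightUnitor _⟩
  letI : Localization.Lifting QB W' (T₀ ⋙ r₀ ⋙ QB) (T' ⋙ r') :=
    ⟨(Functor.associator _ _ _).symm ≪≫ Functor.isoWhiskerRight fT r' ≪≫ Functor.associator _ _ _ ≪≫
      Functor.isoWhiskerLeft T₀ fr⟩
  letI : Localization.Lifting QB W' QB (𝟭 (DerivedCategory B)) := ⟨Functor.rightUnitor _⟩
  let η₀ : QE ⟶ Φ₀ ⋙ QE :=
    { app := fun X => QE.map ((NatTrans.mapHomologicalComplex η (ComplexShape.up ℤ)).app X ≫ 𝟙 _)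
      naturality := fun X Y f => by
        rw [comp_id, comp_id]
        refine (QE.map_comp _ _).symm.trans (Eq.trans (congrArg QE.map ?_) (QE.map_comp _ _))
        ext n
        exact η.naturality (f.f n) }
  let ε₀ : r₀ ⋙ T₀ ⋙ QE ⟶ Φ₀ ⋙ QE :=
    { app := fun X => QE.map
        { f := fun n => ε.app (X.X n)
          comm' := fun i j _ => (ε.naturality (X.d i j)).symm }
      naturality := fun X Y f => by
        refine (QE.map_comp _ _).symm.trans (Eq.trans (congrArg QE.map ?_) (QE.map_comp _ _))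
        ext n
        exact ε.naturality (f.f n) }
  let β₀ : QB ≅ T₀ ⋙ r₀ ⋙ QB :=
    NatIso.ofComponents (fun X => QB.mapIso (HomologicalComplex.Hom.isoOfComponents (fun n => β.app (X.X n))
      (fun i j _ => (β.hom.naturality (X.d i j)).symm)))
      (fun {X Y} f => by
        refine (QB.map_comp _ _).symm.trans (Eq.trans (congrArg QB.map ?_) (QB.map_comp _ _))
        ext n
        exact β.hom.naturality (f.f n))
  let η' : 𝟭 (DerivedCategory E) ⟶ Φ' := Localization.liftNatTrans QE W QE (Φ₀ ⋙ QE) _ _ η₀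
  let ε' : r' ⋙ T' ⟶ Φ' := Localization.liftNatTrans QE W (r₀ ⋙ T₀ ⋙ QE) (Φ₀ ⋙ QE) _ _ ε₀
  let β' : 𝟭 (DerivedCategory B) ≅ T' ⋙ r' := Localization.liftNatIso QB W' QB (T₀ ⋙ r₀ ⋙ QB) _ _ β₀
  have hη' : ∀ X, η'.app (QE.obj X) = η₀.app X ≫ fΦ.inv.app X := fun X => by
    refine (Localization.liftNatTrans_app QE W QE (Φ₀ ⋙ QE) _ _ η₀ X).trans ?_
    exact Category.id_comp _
  have hε' : ∀ X, ε'.app (QE.obj X) =
      T'.map (fr.hom.app X) ≫ fT.hom.app (r₀.obj X) ≫ ε₀.app X ≫ fΦ.inv.app X := fun X => by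
    refine (Localization.liftNatTrans_app QE W (r₀ ⋙ T₀ ⋙ QE) (Φ₀ ⋙ QE) _ _ ε₀ X).trans ?_
    show (𝟙 _ ≫ T'.map (fr.hom.app X) ≫ 𝟙 _ ≫ fT.hom.app (r₀.obj X)) ≫ ε₀.app X ≫ fΦ.inv.app X = _
    erw [id_comp, id_comp]
    exact assoc _ _ _
  have main : ∀ (P Q : CochainComplex B ℤ),
      Function.Bijective fun g : QB.obj P ⟶ QB.obj Q => T'.map g := by
    intro P Q
    have hfaith : Function.Injective fun g : QB.obj P ⟶ QB.obj Q => T'.map g := by
      intro g g' h
      have h1 := β'.hom.naturality g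
      have h2 := β'.hom.naturality g'
      have h3 : (T' ⋙ r').map g = (T' ⋙ r').map g' := congrArg r'.map h
      rw [h3] at h1
      exact (cancel_mono (β'.hom.app (QB.obj Q))).1 (h1.trans h2.symm)
    refine ⟨hfaith, fun h => ?_⟩
    let hh : QE.obj (T₀.obj P) ⟶ QE.obj (T₀.obj Q) := fT.inv.app P ≫ h ≫ fT.hom.app Q
    let rh : QB.obj (r₀.obj (T₀.obj P)) ⟶ QB.obj (r₀.obj (T₀.obj Q)) :=
      fr.inv.app (T₀.obj P) ≫ r'.map hh ≫ fr.hom.app (T₀.obj Q)
    let g : QB.obj P ⟶ QB.obj Q := β₀.hom.app P ≫ rh ≫ β₀.inv.app Q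
    refine ⟨g, ?_⟩
    show T'.map g = h
    have hnat : T'.map rh ≫ fT.hom.app (r₀.obj (T₀.obj Q)) ≫ ε₀.app (T₀.obj Q) =
        fT.hom.app (r₀.obj (T₀.obj P)) ≫ ε₀.app (T₀.obj P) ≫ fΦ.inv.app (T₀.obj P) ≫ Φ'.map hh ≫
          fΦ.hom.app (T₀.obj Q) := by
      have h1 := ε'.naturality hh
      rw [hε', hε'] at h1
      have h2 := congrArg (fun z => T'.map (fr.inv.app (T₀.obj P)) ≫ z ≫ fΦ.hom.app (T₀.obj Q)) h1
      simp only [Functor.comp_map, assoc, Iso.inv_hom_id_app, Functor.comp_obj] at h2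
      erw [← T'.map_comp_assoc (fr.inv.app (T₀.obj P)) (fr.hom.app (T₀.obj P))] at h2
      simp only [Iso.inv_hom_id_app, CategoryTheory.Functor.map_id, id_comp, comp_id] at h2
      simp only [rh, Functor.map_comp, assoc]
      exact h2
    have hcompP : ∀ X : CochainComplex B ℤ, T'.map (β₀.hom.app X) ≫ fT.hom.app (r₀.obj (T₀.obj X)) ≫
        ε₀.app (T₀.obj X) = fT.hom.app X ≫ η₀.app (T₀.obj X) := fun X => by
      erw [← Category.assoc, fT.hom.naturality]
      rw [assoc]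
      refine congrArg (fun z => fT.hom.app X ≫ z) ?_
      refine (QE.map_comp _ _).symm.trans (congrArg QE.map ?_)
      ext n
      exact (hcomp (X.X n)).trans (Category.comp_id _).symm
    have hiso : ∀ X : CochainComplex B ℤ, IsIso (η₀.app (T₀.obj X)) := fun X => by
      haveI : IsIso ((NatTrans.mapHomologicalComplex η (ComplexShape.up ℤ)).app (T₀.obj X)) := by
        haveI : ∀ n, IsIso (((NatTrans.mapHomologicalComplex η (ComplexShape.up ℤ)).app (T₀.obj X)).f n) :=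
          fun n => hη (X.X n)
        exact HomologicalComplex.Hom.isIso_of_components _
      exact inferInstanceAs (IsIso (QE.map (_ ≫ 𝟙 _)))
    haveI := hiso Q
    rw [← cancel_mono (fT.hom.app Q ≫ η₀.app (T₀.obj Q))]
    have hL : T'.map g ≫ fT.hom.app Q ≫ η₀.app (T₀.obj Q) =
        fT.hom.app P ≫ η₀.app (T₀.obj P) ≫ fΦ.inv.app (T₀.obj P) ≫ Φ'.map hh ≫ fΦ.hom.app (T₀.obj Q) := by
      rw [← hcompP]
      simp only [g, Functor.map_comp, assoc]
      rw [← T'.map_comp_assoc (β₀.inv.app Q), Iso.inv_hom_id_app]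
      erw [CategoryTheory.Functor.map_id, id_comp]
      rw [hnat]
      rw [← reassoc_of% (hcompP P)]
    rw [hL]
    have h4 := η'.naturality hh
    rw [hη', hη'] at h4
    have h5 : hh ≫ η₀.app (T₀.obj Q) =
        η₀.app (T₀.obj P) ≫ fΦ.inv.app (T₀.obj P) ≫ Φ'.map hh ≫ fΦ.hom.app (T₀.obj Q) := by
      have h6 := congrArg (fun z => z ≫ fΦ.hom.app (T₀.obj Q)) h4
      simp only [Functor.id_map, assoc, Iso.inv_hom_id_app] at h6
      erw [comp_id] at h6
      exact h6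
    rw [← h5]
    simp only [hh, assoc, Iso.hom_inv_id_app_assoc]
  let eK := QB.objObjPreimageIso K
  let eL := QB.objObjPreimageIso L
  have hb := main (QB.objPreimage K) (QB.objPreimage L)
  constructor
  · intro g g' h
    have := hb.1 (a₁ := eK.hom ≫ g ≫ eL.inv) (a₂ := eK.hom ≫ g' ≫ eL.inv)
      (by simp only [Functor.map_comp]; rw [show T'.map g = T'.map g' from h])
    simpa using congrArg (fun z => eK.inv ≫ z ≫ eL.hom) this
  · intro h
    obtain ⟨g, hg⟩ := hb.2 (T'.map eK.hom ≫ h ≫ T'.map eL.inv)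
    refine ⟨eK.inv ≫ g ≫ eL.hom, ?_⟩
    simp only [Functor.map_comp]
    simp only at hg
    rw [show T.mapDerivedCategory.map g = _ from hg]
    simp [T', ← Functor.map_comp_assoc, ← Functor.map_comp]

end GrothLib.CohDesc25
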