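import Groth.Agent.Lib.DerCat.MapAdj
import Groth.Agent.Lib.DerCat.Truncation
import Mathlib.Algebra.Homology.DerivedCategory.Plus
import Mathlib.Algebra.Homology.ShortComplex.PreservesHomology

/-!
# Full faithfulness along two factorisations
-/

set_option autoImplicit false
set_option backward.isDefEq.respectTransparency false
set_option linter.unusedSectionVars false
set_option linter.style.haveILetI false

universe w₁ w₂ w₃ w₄ v v₁ v₂ v₃ v₄ u u₁ u₂ u₃ u₄

open CategoryTheory CategoryTheory.Limits

namespace GrothLib.CohDesc25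

/-- If a functor factors in two ways, the first a composite of fully faithful functors and the second
with faithful second step, then the first step of the second factorisation is fully faithful. -/
theorem bijective_first_of_factorisations {B : Type u₁} [Category.{v₁} B] {P : Type u₂} [Category.{v₂} P]
    {Q : Type u₃} [Category.{v₃} Q] {R : Type u₄} [Category.{v₄} R]
    (a : B ⥤ P) (b : B ⥤ Q) (a' : P ⥤ R) (b' : Q ⥤ R) (H : B ⥤ R) (e₁ : a ⋙ a' ≅ H) (e₂ : b ⋙ b' ≅ H)
    (K L : B)
    (ha : Function.Bijective fun g : K ⟶ L => a.map g)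
    (ha' : Function.Bijective fun g : a.obj K ⟶ a.obj L => a'.map g)
    (hb' : Function.Injective fun g : b.obj K ⟶ b.obj L => b'.map g) :
    Function.Bijective fun g : K ⟶ L => b.map g := by
  have hH : Function.Bijective fun g : K ⟶ L => H.map g := by
    have h1 : (fun g : K ⟶ L => H.map g) =
        (fun z => e₁.inv.app K ≫ z ≫ e₁.hom.app L) ∘ (fun g => a'.map g) ∘ fun g : K ⟶ L => a.map g := by
      funext g
      exact ((e₁.inv.naturality_assoc g (e₁.hom.app L)).symm.trans (by simp)).symm
    rw [h1]
    refine Function.Bijective.comp ?_ (ha'.comp ha)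
    exact ((e₁.app K).homCongr (e₁.app L)).bijective
  constructor
  · intro g g' h
    refine hH.1 ?_
    have h2 : (b ⋙ b').map g = (b ⋙ b').map g' := congrArg b'.map h
    have h3 := e₂.hom.naturality g
    have h4 := e₂.hom.naturality g'
    rw [h2] at h3
    exact (cancel_epi (e₂.hom.app K)).1 (h3.symm.trans h4)
  · intro h
    obtain ⟨g, hg⟩ := hH.2 (e₂.inv.app K ≫ b'.map h ≫ e₂.hom.app L)
    refine ⟨g, hb' ?_⟩
    have h3 := e₂.hom.naturality g
    simp only at hg
    rw [hg, Iso.hom_inv_id_app_assoc] at h3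
    exact (cancel_mono (e₂.hom.app L)).1 h3

section Abelian

variable {A : Type u₁} [Category.{v₁} A] [Abelian A] [HasDerivedCategory.{w₁} A]
  {B : Type u₂} [Category.{v₂} B] [Abelian B] [HasDerivedCategory.{w₂} B]
  {C : Type u₃} [Category.{v₃} C] [Abelian C] [HasDerivedCategory.{w₃} C]
  {E : Type u₄} [Category.{v₄} E] [Abelian E] [HasDerivedCategory.{w₄} E]

/-- The derived version, on bounded below objects. -/
theorem bijective_derived_of_factorisations
    (a : A ⥤ B) (b : A ⥤ C) (a' : B ⥤ E) (b' : C ⥤ E) (H : A ⥤ E)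
    [a.Additive] [b.Additive] [a'.Additive] [b'.Additive] [H.Additive]
    [PreservesFiniteLimits a] [PreservesFiniteColimits a] [PreservesFiniteLimits b] [PreservesFiniteColimits b]
    [PreservesFiniteLimits a'] [PreservesFiniteColimits a'] [PreservesFiniteLimits b'] [PreservesFiniteColimits b']
    [PreservesFiniteLimits H] [PreservesFiniteColimits H]
    (e₁ : a ⋙ a' ≅ H) (e₂ : b ⋙ b' ≅ H)
    (ha : ∀ K L : DerivedCategory.Plus A, Function.Bijective fun g : K.obj ⟶ L.obj => a.mapDerivedCategory.map g)
    (ha' : ∀ K L : DerivedCategory.Plus B, Function.Bijective fun g : K.obj ⟶ L.obj => a'.mapDerivedCategory.map g)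
    (hb' : ∀ K L : DerivedCategory.Plus C, Function.Bijective fun g : K.obj ⟶ L.obj => b'.mapDerivedCategory.map g)
    (K L : DerivedCategory.Plus A) :
    Function.Bijective fun g : K.obj ⟶ L.obj => b.mapDerivedCategory.map g := by
  obtain ⟨n, hn⟩ := K.property
  obtain ⟨m, hm⟩ := L.property
  haveI := hn
  haveI := hm
  exact bijective_first_of_factorisations a.mapDerivedCategory b.mapDerivedCategory a'.mapDerivedCategory
    b'.mapDerivedCategory H.mapDerivedCategory (GrothLib.DerCat.mapDerivedCompIso a a' H e₁)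
    (GrothLib.DerCat.mapDerivedCompIso b b' H e₂) K.obj L.obj (ha K L)
    (ha' ⟨_, n, GrothLib.DerTrunc.isGE_mapDerivedCategory a K.obj n⟩ ⟨_, m, GrothLib.DerTrunc.isGE_mapDerivedCategory a L.obj m⟩)
    (hb' ⟨_, n, GrothLib.DerTrunc.isGE_mapDerivedCategory b K.obj n⟩
      ⟨_, m, GrothLib.DerTrunc.isGE_mapDerivedCategory b L.obj m⟩).1

end Abelian

/-- A map of complexes is a quasi-isomorphism if a jointly conservative family of exact functors makes it one. -/
theorem quasiIso_of_family {A : Type u₁} [Category.{v₁} A] [Abelian A] {ι : Type u} {B : ι → Type u₂}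
    [∀ i, Category.{v₂} (B i)] [∀ i, Abelian (B i)] (F : ∀ i, A ⥤ B i) [∀ i, (F i).Additive]
    [∀ i, (F i).PreservesHomology]
    (hF : ∀ {X Y : A} (f : X ⟶ Y), (∀ i, IsIso ((F i).map f)) → IsIso f)
    {K L : CochainComplex A ℤ} (u : K ⟶ L)
    (h : ∀ i, QuasiIso (((F i).mapHomologicalComplex (ComplexShape.up ℤ)).map u)) : QuasiIso u where
  quasiIsoAt n := by
    rw [quasiIsoAt_iff_isIso_homologyMap]
    refine hF _ fun i => ?_
    let φ := (HomologicalComplex.shortComplexFunctor A (ComplexShape.up ℤ) n).map u
    haveI h1 : IsIso (ShortComplex.homologyMap ((F i).mapShortComplex.map φ)) :=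
      (quasiIsoAt_iff_isIso_homologyMap (((F i).mapHomologicalComplex (ComplexShape.up ℤ)).map u) n).1
        ((h i).quasiIsoAt n)
    show IsIso ((F i).map (ShortComplex.homologyMap φ))
    rw [show (F i).map (ShortComplex.homologyMap φ) =
      (((HomologicalComplex.shortComplexFunctor A (ComplexShape.up ℤ) n).obj K).mapHomologyIso (F i)).inv ≫
        ShortComplex.homologyMap ((F i).mapShortComplex.map φ) ≫
        (((HomologicalComplex.shortComplexFunctor A (ComplexShape.up ℤ) n).obj L).mapHomologyIso (F i)).hom by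
      rw [ShortComplex.mapHomologyIso_hom_naturality, Iso.inv_hom_id_assoc]]
    infer_instance

end GrothLib.CohDesc25
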