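import Groth.Agent.Lib.CohDesc25.CompareBase
import Groth.Agent.Lib.CohDesc25.DerivedFF
import Mathlib.Algebra.Category.Grp.AB
import Mathlib.CategoryTheory.Sites.Abelian
import Mathlib.CategoryTheory.Limits.Preserves.Limits

/-!
# An extra degeneracy gives cohomological descent
-/

set_option autoImplicit false
set_option backward.isDefEq.respectTransparency false
set_option backward.isDefEq.respectTransparency.types false
set_option linter.unusedSectionVars false
set_option maxHeartbeats 1000000

universe u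

open CategoryTheory CategoryTheory.Limits Opposite Pseudofunctor Pseudofunctor.CoGrothendieck TopologicalSpace

namespace GrothLib.CohDesc25

open FibDesc

variable {D : Type} [SmallCategory D] {Y : (WithInitial D)ᵒᵖ ⥤ TopCat.{u}} (R : Retraction Y)

instance instCocontinuousIncl :
    (incl (topAug Y)).IsCocontinuous (totPart (topAug Y) (topAugTop Y)) (totAug (topAug Y) (topAugTop Y)) :=
  isCocontinuous_incl Y

theorem preservesFiniteLimits_pullback {C D : Type u} [Category.{u} C] [Category.{u} D]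
    {J : GrothendieckTopology C} {K : GrothendieckTopology D} (v : C ⥤ D) [RepresentablyFlat v]
    [v.IsContinuous J K] : PreservesFiniteLimits (v.sheafPullback AddCommGrpCat.{u} J K) :=
  haveI : PreservesFiniteLimits ((v.op.lan : (_ ⥤ Dᵒᵖ ⥤ AddCommGrpCat.{u}))) :=
    lan_preservesFiniteLimits_of_flat AddCommGrpCat.{u} v
  CategoryTheory.Functor.sheafPullbackConstruction.preservesFiniteLimits _ _ _ _

theorem preservesFiniteColimits_pullback {C D : Type u} [Category.{u} C] [Category.{u} D]
    {J : GrothendieckTopology C} {K : GrothendieckTopology D} (v : C ⥤ D)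
    [v.IsContinuous J K] : PreservesFiniteColimits (v.sheafPullback AddCommGrpCat.{u} J K) :=
  haveI : PreservesColimitsOfSize.{0, 0} (v.sheafPullback AddCommGrpCat.{u} J K) :=
    (v.sheafAdjunctionContinuous AddCommGrpCat.{u} J K).leftAdjoint_preservesColimits
  PreservesColimitsOfSize.preservesFiniteColimits _

theorem preservesFinite_restriction {C D : Type u} [Category.{u} C] [Category.{u} D]
    {J : GrothendieckTopology C} {K : GrothendieckTopology D} (v : C ⥤ D)
    [v.IsContinuous J K] [v.IsCocontinuous J K] :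
    PreservesFiniteLimits (v.sheafPushforwardContinuous AddCommGrpCat.{u} J K) ∧
      PreservesFiniteColimits (v.sheafPushforwardContinuous AddCommGrpCat.{u} J K) :=
  haveI : PreservesColimitsOfSize.{0, 0} (v.sheafPushforwardContinuous AddCommGrpCat.{u} J K) :=
    (v.sheafAdjunctionCocontinuous AddCommGrpCat.{u} J K).leftAdjoint_preservesColimits
  haveI : PreservesLimitsOfSize.{0, 0} (v.sheafPushforwardContinuous AddCommGrpCat.{u} J K) :=
    (v.sheafAdjunctionContinuous AddCommGrpCat.{u} J K).rightAdjoint_preservesLimits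
  ⟨PreservesLimitsOfSize.preservesFiniteLimits _, PreservesColimitsOfSize.preservesFiniteColimits _⟩

/-- A pushforward of abelian sheaves along a continuous functor preserves finite colimits when it has an exact
comparison: here we only need left exactness of restriction along the part. -/
theorem preservesFiniteLimits_Tpull : PreservesFiniteLimits (Tpull Y) := by
  haveI : PreservesFiniteLimits (FibSite.extend (topAug Y) (topAugTop Y) AddCommGrpCat.{u} (bot D)) :=
    preservesFiniteLimits_pullback _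
  haveI : PreservesFiniteLimits ((incl (topAug Y)).sheafPushforwardContinuous AddCommGrpCat.{u}
      (totPart (topAug Y) (topAugTop Y)) (totAug (topAug Y) (topAugTop Y))) :=
    (preservesFinite_restriction _).1
  exact comp_preservesFiniteLimits _ _

theorem preservesFiniteColimits_Tpull : PreservesFiniteColimits (Tpull Y) := inferInstance

namespace Retraction

/-- The transposed comparison with the shift. -/
noncomputable def ε' : R.rFun ⋙ Tpull Y ⟶ R.ΦFun :=
  haveI : ∀ G, IsIso (R.ΘNat.app G) := R.isIso_ΘNat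
  haveI : IsIso R.ΘNat := NatIso.isIso_of_isIso_app R.ΘNat
  (Functor.associator _ _ _).hom ≫ Functor.whiskerLeft R.res₀ (inv R.ΘNat) ≫ R.εNat

/-- The comparison of the base with the retraction. -/
noncomputable def βIso : 𝟭 (BAb Y) ≅ Tpull Y ⋙ R.rFun :=
  NatIso.ofComponents (fun A => @asIso _ _ _ _ (R.βApp A) (R.isIso_βApp A)) (fun φ => R.βApp_natural φ)

theorem ε'_ΘNat (E : DAb Y) : R.ΘNat.app (R.res₀.obj E) ≫ R.ε'.app E = R.εNat.app E := by
  haveI : ∀ G, IsIso (R.ΘNat.app G) := R.isIso_ΘNat
  haveI : IsIso R.ΘNat := NatIso.isIso_of_isIso_app R.ΘNat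
  show R.ΘNat.app (R.res₀.obj E) ≫ 𝟙 _ ≫ (inv R.ΘNat).app (R.res₀.obj E) ≫ R.εNat.app E = _
  refine (congrArg (fun t => R.ΘNat.app (R.res₀.obj E) ≫ t) (Category.id_comp _)).trans ?_
  refine (Category.assoc _ _ _).symm.trans ?_
  rw [← NatTrans.comp_app, IsIso.hom_inv_id, NatTrans.id_app]
  exact Category.id_comp _

theorem comp_eq (A : BAb Y) :
    (Tpull Y).map (R.βIso.hom.app A) ≫ R.ε'.app ((Tpull Y).obj A) = R.ηNat.app ((Tpull Y).obj A) := by
  refine hom_ext_gA A _ _ fun j W V b a => ?_
  let G := R.res₀.obj ((Tpull Y).obj A)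
  let H := (R.u.sheafPushforwardContinuous AddCommGrpCat.{u} R.shTot (totPart (topAug Y) (topAugTop Y))).obj ((Tpull Y).obj A)
  let HΛ := (R.pf.sheafPushforwardContinuous AddCommGrpCat.{u} R.coTot
          (Opens.grothendieckTopology (Y.obj ((toAug D).obj (op R.i₀))))).obj G
  have hbV : ∀ w ∈ W, Y.map (toBot ((toAug D).obj j)) w ∈ V := fun w hw => by
    have h1 := le_of_aHom Y (b : aObj Y ((toAug D).obj j) W ⟶ aObj Y (bot D) V) hw
    rw [toBot_unique b.base (toBot _)] at h1
    exact h1
  obtain ⟨c, hc⟩ := R.exists_v₀Hom (W := W) (W' := R.bPre V) fun w hw => R.le_sPre_bPre V (hbV w hw)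
  have h1 : ((Tpull Y).map (R.βIso.hom.app A)).hom.app (op (pObj Y j W)) (gA A b a) =
      (R.ΘNat.app G).hom.app (op (pObj Y j W))
        (atHom (totPart (topAug Y) (topAugTop Y)) R.v₀ HΛ (U := R.cObj j (R.bPre V)) c
          (gA A (j := op R.i₀) (W := R.bPre V) (R.bHom V) a)) := by
    refine Eq.trans ?_ (R.ΘNat_atHom G c _).symm
    refine (app_atHom (K := totAug (topAug Y) (topAugTop Y)) (eps (topAug Y)) A (R.βApp A) b a).trans ?_
    show gA (R.sPull.obj G) b (R.βVal A V a) = _
    rw [R.βVal_apply]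
    have h2 : R.gS G (homOfLE (R.le_sPre_bPre V)) (gA A (j := op R.i₀) (W := R.bPre V) (R.bHom V) a) =
        (R.sPull.obj G).obj.map (homOfLE (R.le_sPre_bPre V)).op
          (R.gS G (𝟙 _) (gA A (j := op R.i₀) (W := R.bPre V) (R.bHom V) a)) := by
      refine Eq.trans ?_ (map_atHom (K := Opens.grothendieckTopology (Y.obj (bot D))) (Opens.map R.s) G _ (𝟙 _) _).symm
      exact R.gS_eq G _ _ _
    refine (congrArg (gA (R.sPull.obj G) b) h2).trans ?_
    refine (atHom_res (K := totAug (topAug Y) (topAugTop Y)) (eps (topAug Y)) (R.sPull.obj G)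
      (homOfLE (X := Opens (Y.obj (bot D))) (R.le_sPre_bPre V)) b _).trans ?_
    exact gA_eq _ _ _ _
  refine (congrArg ((R.ε'.app ((Tpull Y).obj A)).hom.app (op (pObj Y j W))) h1).trans ?_
  refine (ConcreteCategory.congr_hom (NatTrans.congr_app (congrArg (fun t => t.hom) (R.ε'_ΘNat ((Tpull Y).obj A)))
    (op (pObj Y j W))) _).trans ?_
  refine (homEquiv_symm_atHom (K := totPart (topAug Y) (topAugTop Y)) R.v₀ HΛ (R.εNat₀.app ((Tpull Y).obj A)) c _).trans ?_
  refine Eq.trans ?_ (R.ηNat_gA A b a).symm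
  let X₀ := R.cObj j (R.bPre V)
  let W₃ : Opens (Y.obj ((toAug D).obj (R.ψ.op.obj j))) :=
    (Opens.map (Y.map ((toAug D).map (R.v j.unop).op))).obj (R.bPre V) ⊓
      (Opens.map (Y.map ((toAug D).map (R.δ.app j.unop).op))).obj W
  have hd : W ≤ (Opens.map (Y.map ((toAug D).map (𝟙 j)))).obj ((Opens.map (R.σ j)).obj W₃) := fun w hw => by
    rw [CategoryTheory.Functor.map_id, CategoryTheory.Functor.map_id]
    refine ⟨?_, ?_⟩
    · show Y.map ((toAug D).map (R.v j.unop).op) (R.σ j w) ∈ R.bPre V
      rw [R.σ_v_apply]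
      exact R.le_sPre_bPre V (hbV w hw)
    · show (R.σ j ≫ Y.map ((toAug D).map (R.δ.app j.unop).op)) w ∈ W
      rw [R.σ_δ]
      exact hw
  let d : pObj Y j W ⟶ R.vf.obj (R.sObj j W₃) := pHom Y (𝟙 j) hd
  let c₁ : R.sObj j W₃ ⟶ R.yf.obj X₀ := (ι R.shF j).map (homOfLE inf_le_left : W₃ ⟶ _)
  let c₂ : R.sObj j W₃ ⟶ R.wf.obj (pObj Y j W) := (ι R.shF j).map (homOfLE inf_le_right : W₃ ⟶ _)
  let τa := gA A ((incl (topAug Y)).map (R.τ₀.app X₀) ≫ R.bHom V) a
  let τb := gA A ((incl (topAug Y)).map (R.τ.app (pObj Y j W)) ≫ b) a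
  have e0 : (R.εNat₀.app ((Tpull Y).obj A)).hom.app (op X₀) (gA A (j := op R.i₀) (W := R.bPre V) (R.bHom V) a) =
      unitSec (K := totPart (topAug Y) (topAugTop Y)) R.vf H (R.yf.obj X₀) τa :=
    congrArg (unitSec (K := totPart (topAug Y) (topAugTop Y)) R.vf H (R.yf.obj X₀)) (map_gA A (R.τ₀.app X₀) (R.bHom V) a)
  refine (congrArg ((R.ΦFun.obj ((Tpull Y).obj A)).obj.map c.op) e0).trans ?_
  show atHom (totPart (topAug Y) (topAugTop Y)) R.vf H (c : pObj Y j W ⟶ R.vf.obj (R.yf.obj X₀)) τa =
    atHom (totPart (topAug Y) (topAugTop Y)) R.vf H (R.ρ.app (pObj Y j W)) τb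
  refine (congrArg (fun t => atHom (totPart (topAug Y) (topAugTop Y)) R.vf H t τa)
    (pHom_ext Y (g := (c : pObj Y j W ⟶ R.vf.obj (R.yf.obj X₀))) (h := d ≫ R.vf.map c₁) ?_)).trans ?_
  · exact hc.trans (Category.id_comp (𝟙 j)).symm
  refine (atHom_res (K := totPart (topAug Y) (topAugTop Y)) R.vf H c₁ d τa).symm.trans ?_
  refine Eq.trans ?_ (congrArg (fun t => atHom (totPart (topAug Y) (topAugTop Y)) R.vf H t τb)
    (pHom_ext Y (g := d ≫ R.vf.map c₂) (h := R.ρ.app (pObj Y j W)) (Category.id_comp (𝟙 j))))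
  refine Eq.trans ?_ (atHom_res (K := totPart (topAug Y) (topAugTop Y)) R.vf H c₂ d τb)
  refine congrArg (atHom (totPart (topAug Y) (topAugTop Y)) R.vf H d) ?_
  refine (map_gA A (R.u.map c₁) _ a).trans ?_
  refine Eq.trans ?_ (map_gA A (R.u.map c₂) _ a).symm
  exact gA_eq A _ _ a

end Retraction

theorem Retraction.isCocontinuous_u (R : Retraction Y) :
    R.u.IsCocontinuous R.shTot (totPart (topAug Y) (topAugTop Y)) where
  cover_lift {X T} hT := by
    obtain ⟨R', hR', hle⟩ := (GrothLib.FibSite.mem_totalTopology_iff (isPreFibSite_part Y) _ T).1 hT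
    rw [GrothLib.FibSite.mem_totalTopology_iff R.isPreFibSite_sh]
    refine ⟨R', hR', ?_⟩
    rw [Sieve.functor_galoisConnection] at hle ⊢
    intro V r hr
    have h2 := hle _ hr
    show T.arrows _
    refine Eq.mp (congrArg (fun g => T.arrows g) (pHom_ext Y ?_)) h2
    exact (R.ψ.op.map_id X.base).symm

theorem Retraction.exact_rFun (R : Retraction Y) :
    PreservesFiniteLimits R.rFun ∧ PreservesFiniteColimits R.rFun := by
  haveI : (ι (part (topAug Y)) (op R.i₀)).IsCocontinuous
      (Opens.grothendieckTopology (Y.obj ((toAug D).obj (op R.i₀)))) (totPart (topAug Y) (topAugTop Y)) :=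
    GrothLib.FibSite.isCocontinuous_ι (isPreFibSite_part Y) (op R.i₀)
  haveI h₁ : PreservesFiniteLimits R.res₀ ∧ PreservesFiniteColimits R.res₀ := preservesFinite_restriction _
  haveI := h₁.1
  haveI := h₁.2
  haveI : PreservesFiniteLimits R.sPull := preservesFiniteLimits_pullback (Opens.map R.s)
  haveI : PreservesFiniteColimits R.sPull := preservesFiniteColimits_pullback (Opens.map R.s)
  exact ⟨comp_preservesFiniteLimits _ _, comp_preservesFiniteColimits _ _⟩

theorem Retraction.exact_ΦFun (R : Retraction Y) :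
    PreservesFiniteLimits R.ΦFun ∧ PreservesFiniteColimits R.ΦFun := by
  haveI := R.isCocontinuous_u
  haveI h₁ : PreservesFiniteLimits (R.u.sheafPushforwardContinuous AddCommGrpCat.{u} R.shTot (totPart (topAug Y) (topAugTop Y))) ∧
    PreservesFiniteColimits (R.u.sheafPushforwardContinuous AddCommGrpCat.{u} R.shTot (totPart (topAug Y) (topAugTop Y))) :=
    preservesFinite_restriction R.u
  haveI := h₁.1
  haveI := h₁.2
  haveI := preservesFiniteLimits_pullback (J := R.shTot) (K := totPart (topAug Y) (topAugTop Y)) R.vf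
  haveI := preservesFiniteColimits_pullback (J := R.shTot) (K := totPart (topAug Y) (topAugTop Y)) R.vf
  exact ⟨comp_preservesFiniteLimits _ _, comp_preservesFiniteColimits _ _⟩

theorem additive_of_exact {C D : Type*} [Category C] [Category D] [Abelian C] [Abelian D] (F : C ⥤ D)
    [PreservesFiniteLimits F] : F.Additive :=
  haveI := preservesBinaryBiproducts_of_preservesBinaryProducts F
  Functor.additive_of_preservesBinaryBiproducts F

open Retraction in
theorem isCohDescentTop_of_retraction (R : Retraction Y) : FibDesc.IsCohDescentTop Y := by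
  haveI := preservesFiniteLimits_Tpull (Y := Y)
  haveI hP : (eps (topAug Y)).sheafPushforwardContinuous AddCommGrpCat.{u} ((topAugTop Y) (bot D))
      (totAug (topAug Y) (topAugTop Y)) |>.IsRightAdjoint := inferInstance
  refine ⟨inferInstance, hP, inferInstance, inferInstance, fun P => inferInstance,
    preservesFiniteLimits_Tpull, fun K L => ?_⟩
  letI := HasDerivedCategory.standard (BAb Y)
  letI := HasDerivedCategory.standard (DAb Y)
  haveI := R.exact_rFun.1
  haveI := R.exact_rFun.2
  haveI := R.exact_ΦFun.1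
  haveI := R.exact_ΦFun.2
  haveI := preservesFiniteColimits_Tpull (Y := Y)
  haveI : R.rFun.Additive := additive_of_exact _
  haveI : R.ΦFun.Additive := additive_of_exact _
  haveI : (Tpull Y).Additive := additive_of_exact _
  exact bijective_map_of_zigzag (Tpull Y) R.rFun R.ΦFun R.ηNat R.ε' R.βIso R.comp_eq R.isIso_ηNat K.obj L.obj

end GrothLib.CohDesc25
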