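import Groth.Agent.Lib.CohDesc25.FamFF
import Groth.Agent.Lib.CohDesc25.CechBase

/-!
# The double Cech nerve
-/

set_option autoImplicit false
set_option backward.isDefEq.respectTransparency false
set_option backward.isDefEq.respectTransparency.types false
set_option linter.unusedSectionVars false
set_option linter.style.haveILetI false
set_option maxHeartbeats 1000000

universe u

open CategoryTheory CategoryTheory.Limits Opposite TopologicalSpace Topology Pseudofunctor.CoGrothendieck

namespace GrothLib.CohDesc25

open FibDesc

/-- Columns of the second projection. -/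
def sndCols (C D : Type) [SmallCategory C] [SmallCategory D] : ColData (CategoryTheory.Prod.snd C D) C where
  col n := { obj := fun m => (m, n), map := fun g => (g, 𝟙 n) }
  ε n _ := Iso.refl n
  ε_nat n {m m'} g := Category.id_comp _
  univ n j a := ⟨j.1, (𝟙 j.1, a), Category.id_comp _, fun m f hf =>
    ⟨f.1, Prod.ext (Category.comp_id _) ((Category.id_comp a).trans (hf.symm.trans (Category.id_comp _))),
      fun g hg => (Category.comp_id g).symm.trans (congrArg Prod.fst hg)⟩⟩

/-- Columns of the first projection. -/
def fstCols (C D : Type) [SmallCategory C] [SmallCategory D] : ColData (CategoryTheory.Prod.fst C D) D where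
  col n := { obj := fun m => (n, m), map := fun g => (𝟙 n, g) }
  ε n _ := Iso.refl n
  ε_nat n {m m'} g := Category.id_comp _
  univ n j a := ⟨j.2, (a, 𝟙 j.2), Category.id_comp _, fun m f hf =>
    ⟨f.2, Prod.ext ((Category.id_comp a).trans (hf.symm.trans (Category.id_comp _))) (Category.comp_id _),
      fun g hg => (Category.comp_id g).symm.trans (congrArg Prod.snd hg)⟩⟩

variable {X Y S : TopCat.{u}} (u : X ⟶ S) (v : Y ⟶ S)

/-- The face and degeneracy maps of a nerve. -/
noncomputable abbrev cMap {n m : SimplexCategory} (a : n ⟶ m) : cN u m ⟶ cN u n :=
  (cechAug u).map ((toAug SimplexCategory).map a.op)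

theorem cMap_id (n : SimplexCategory) : cMap u (𝟙 n) = 𝟙 _ :=
  (congrArg (cechAug u).map ((toAug SimplexCategory).map_id (op n))).trans ((cechAug u).map_id _)

theorem cMap_comp {n m k : SimplexCategory} (a : n ⟶ m) (b : m ⟶ k) : cMap u (a ≫ b) = cMap u b ≫ cMap u a :=
  (congrArg (cechAug u).map ((toAug SimplexCategory).map_comp b.op a.op)).trans ((cechAug u).map_comp _ _)

/-- The double nerve. -/
noncomputable def dNerve : (SimplexCategory × SimplexCategory)ᵒᵖ ⥤ TopCat.{u} where
  obj j := pullback (cBase u j.unop.1) (cBase v j.unop.2)
  map {j k} g := pullback.map _ _ _ _ (cMap u g.unop.1) (cMap v g.unop.2) (𝟙 S)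
    ((Category.comp_id _).trans (cech_map_base u g.unop.1).symm)
    ((Category.comp_id _).trans (cech_map_base v g.unop.2).symm)
  map_id j := by
    refine pullback.hom_ext ?_ ?_
    · refine (pullback.lift_fst _ _ _).trans ?_
      rw [show (𝟙 j : j ⟶ j).unop.1 = 𝟙 j.unop.1 from rfl, cMap_id, Category.comp_id, Category.id_comp]
    · refine (pullback.lift_snd _ _ _).trans ?_
      rw [show (𝟙 j : j ⟶ j).unop.2 = 𝟙 j.unop.2 from rfl, cMap_id, Category.comp_id, Category.id_comp]
  map_comp {i j k} g h := by
    refine pullback.hom_ext ?_ ?_
    · refine (pullback.lift_fst _ _ _).trans ?_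
      rw [show (g ≫ h).unop.1 = h.unop.1 ≫ g.unop.1 from rfl, cMap_comp, Category.assoc, pullback.lift_fst,
        pullback.lift_fst_assoc]
      exact (Category.assoc _ _ _).symm
    · refine (pullback.lift_snd _ _ _).trans ?_
      rw [show (g ≫ h).unop.2 = h.unop.2 ≫ g.unop.2 from rfl, cMap_comp, Category.assoc, pullback.lift_snd,
        pullback.lift_snd_assoc]
      exact (Category.assoc _ _ _).symm

theorem dNerve_map_snd {j k : (SimplexCategory × SimplexCategory)ᵒᵖ} (g : j ⟶ k) :
    (dNerve u v).map g ≫ pullback.snd _ _ = pullback.snd _ _ ≫ cMap v g.unop.2 :=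
  pullback.lift_snd _ _ _

theorem dNerve_map_fst {j k : (SimplexCategory × SimplexCategory)ᵒᵖ} (g : j ⟶ k) :
    (dNerve u v).map g ≫ pullback.fst _ _ = pullback.fst _ _ ≫ cMap u g.unop.1 :=
  pullback.lift_fst _ _ _

/-- The augmentation of the double nerve. -/
noncomputable def dAug (j : (SimplexCategory × SimplexCategory)ᵒᵖ) :
    (dNerve u v).obj j ⟶ (cechAug v).obj (bot SimplexCategory) :=
  pullback.snd (cBase u j.unop.1) (cBase v j.unop.2) ≫ cBase v j.unop.2

theorem dAug_nat {j k : (SimplexCategory × SimplexCategory)ᵒᵖ} (g : j ⟶ k) :
    (dNerve u v).map g ≫ dAug u v k = dAug u v j := by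
  refine (Category.assoc _ _ _).symm.trans ?_
  refine (congrArg (fun t => t ≫ cBase v k.unop.2) (dNerve_map_snd u v g)).trans ?_
  exact (Category.assoc _ _ _).trans (congrArg (fun t => _ ≫ t) (cech_map_base v g.unop.2))

/-- The double nerve over the second nerve. -/
noncomputable def sndMap : FamMap (CategoryTheory.Prod.snd SimplexCategory SimplexCategory) (cechAug v) where
  Zp := dNerve u v
  aug := dAug u v
  h g := dAug_nat u v g
  π j := pullback.snd (cBase u j.unop.1) (cBase v j.unop.2)
  π_nat g := dNerve_map_snd u v g
  π_aug _ := rfl

/-- The double nerve over the first nerve. -/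
noncomputable def fstMap : FamMap (CategoryTheory.Prod.fst SimplexCategory SimplexCategory) (cechAug u) where
  Zp := dNerve u v
  aug := dAug u v
  h g := dAug_nat u v g
  π j := pullback.fst (cBase u j.unop.1) (cBase v j.unop.2)
  π_nat g := dNerve_map_fst u v g
  π_aug _ := pullback.condition

/-- The base change of a map to a level of the second nerve, as a square. -/
theorem sqSnd (n : SimplexCategory) :
    IsPullback (pullback.fst u (cBase v n)) (pullback.snd u (cBase v n)) u (cBase v n) :=
  IsPullback.of_hasPullback _ _

/-- A column is the nerve of a base change. -/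
noncomputable def colRestr (n : SimplexCategory) :
    OpenRestr (cechAug (pullback.snd u (cBase v n))) ((sndMap u v).Col (sndCols SimplexCategory SimplexCategory) n) where
  κ :=
    { app := fun x => match x with
        | op (.of m) => (isPullback_cechMap (sqSnd u v n) m).isoPullback.hom
        | op .star => 𝟙 _
      naturality := fun x y g => by
        have tb : (cechAug v).map ((toAug SimplexCategory).map (Iso.refl n).hom.op) = 𝟙 _ :=
          (congrArg (cechAug v).map ((toAug SimplexCategory).map_id (op n))).trans ((cechAug v).map_id _)
        obtain ⟨x⟩ := x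
        obtain ⟨y⟩ := y
        obtain ⟨g, rfl⟩ : ∃ g' : y ⟶ x, g = g'.op := ⟨g.unop, rfl⟩
        cases y with
        | star =>
          cases x with
          | star =>
            have hg : g.op = 𝟙 (bot SimplexCategory) := toBot_unique _ _
            rw [hg, CategoryTheory.Functor.map_id, CategoryTheory.Functor.map_id]
            exact (Category.id_comp _).trans (Category.comp_id _).symm
          | of m =>
            have hg : g.op = toBot ((toAug SimplexCategory).obj (op m)) := toBot_unique _ _
            rw [hg]
            refine (Category.comp_id _).trans ?_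
            refine Eq.trans ?_ (congrArg (fun t => (isPullback_cechMap (sqSnd u v n) m).isoPullback.hom ≫
              pullback.snd (cBase u m) (cBase v n) ≫ t) tb).symm
            exact (((congrArg (fun t => (isPullback_cechMap (sqSnd u v n) m).isoPullback.hom ≫ t)
              (Category.comp_id _)).trans (IsPullback.isoPullback_hom_snd _))).symm
        | of m' =>
          cases x with
          | star => exact g.elim
          | of m =>
            let g' : m' ⟶ m := g
            have e1 : ∀ k : SimplexCategory, (isPullback_cechMap (sqSnd u v n) k).isoPullback.hom ≫ pullback.fst _ _ =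
                (cechMap (sqSnd u v n)).app ((toAug SimplexCategory).obj (op k)) := fun k =>
              IsPullback.isoPullback_hom_fst _
            refine pullback.hom_ext ?_ ?_
            · refine ((Category.assoc _ _ _).trans (congrArg (fun t => _ ≫ t) (e1 m'))).trans ?_
              refine ((cechMap (sqSnd u v n)).naturality _).trans ?_
              refine Eq.trans ?_ (Category.assoc _ _ _).symm
              refine Eq.trans ?_ (congrArg (fun t => (isPullback_cechMap (sqSnd u v n) m).isoPullback.hom ≫ t)
                (dNerve_map_fst u v (j := op (m, n)) (k := op (m', n))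
                  (Quiver.Hom.op (X := (m', n)) (Y := (m, n)) (g', 𝟙 n)))).symm
              exact (congrArg (fun t => t ≫ cMap u g') (e1 m).symm).trans (Category.assoc _ _ _)
            · refine ((Category.assoc _ _ _).trans (congrArg (fun t => _ ≫ t) (IsPullback.isoPullback_hom_snd _))).trans ?_
              refine (cech_map_base _ g').trans ?_
              refine Eq.trans ?_ (Category.assoc _ _ _).symm
              refine Eq.trans ?_ (congrArg (fun t => (isPullback_cechMap (sqSnd u v n) m).isoPullback.hom ≫ t)
                (dNerve_map_snd u v (j := op (m, n)) (k := op (m', n))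
                  (Quiver.Hom.op (X := (m', n)) (Y := (m, n)) (g', 𝟙 n)))).symm
              refine Eq.trans ?_ (congrArg (fun t => (isPullback_cechMap (sqSnd u v n) m).isoPullback.hom ≫
                pullback.snd (cBase u m) (cBase v n) ≫ t) (cMap_id v n)).symm
              exact ((congrArg (fun t => (isPullback_cechMap (sqSnd u v n) m).isoPullback.hom ≫ t)
                (Category.comp_id _)).trans (IsPullback.isoPullback_hom_snd _)).symm }
  V := ⊤
  emb x := by
    obtain ⟨x⟩ := x
    cases x with
    | of m => exact (TopCat.homeoOfIso (isPullback_cechMap (sqSnd u v n) m).isoPullback).isOpenEmbedding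
    | star => exact (TopCat.homeoOfIso (Iso.refl _)).isOpenEmbedding
  range x := by
    obtain ⟨x⟩ := x
    cases x with
    | of m => exact (TopCat.homeoOfIso (isPullback_cechMap (sqSnd u v n) m).isoPullback).surjective.range_eq
    | star => exact (TopCat.homeoOfIso (Iso.refl _)).surjective.range_eq

/-- The base change of a map to a level of the first nerve, as a square. -/
theorem sqFst (n : SimplexCategory) :
    IsPullback (pullback.fst v (cBase u n)) (pullback.snd v (cBase u n)) v (cBase u n) :=
  IsPullback.of_hasPullback _ _

/-- A row is the nerve of a base change. -/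
noncomputable def rowRestr (n : SimplexCategory) :
    OpenRestr (cechAug (pullback.snd v (cBase u n))) ((fstMap u v).Col (fstCols SimplexCategory SimplexCategory) n) where
  κ :=
    { app := fun x => match x with
        | op (.of m) => (isPullback_cechMap (sqFst u v n) m).flip.isoPullback.hom
        | op .star => 𝟙 _
      naturality := fun x y g => by
        have tb : (cechAug u).map ((toAug SimplexCategory).map (Iso.refl n).hom.op) = 𝟙 _ :=
          (congrArg (cechAug u).map ((toAug SimplexCategory).map_id (op n))).trans ((cechAug u).map_id _)
        obtain ⟨x⟩ := x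
        obtain ⟨y⟩ := y
        obtain ⟨g, rfl⟩ : ∃ g' : y ⟶ x, g = g'.op := ⟨g.unop, rfl⟩
        cases y with
        | star =>
          cases x with
          | star =>
            have hg : g.op = 𝟙 (bot SimplexCategory) := toBot_unique _ _
            rw [hg, CategoryTheory.Functor.map_id, CategoryTheory.Functor.map_id]
            exact (Category.id_comp _).trans (Category.comp_id _).symm
          | of m =>
            have hg : g.op = toBot ((toAug SimplexCategory).obj (op m)) := toBot_unique _ _
            rw [hg]
            refine (Category.comp_id _).trans ?_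
            refine Eq.trans ?_ (congrArg (fun t => (isPullback_cechMap (sqFst u v n) m).flip.isoPullback.hom ≫
              pullback.fst (cBase u n) (cBase v m) ≫ t) tb).symm
            exact (((congrArg (fun t => (isPullback_cechMap (sqFst u v n) m).flip.isoPullback.hom ≫ t)
              (Category.comp_id _)).trans (IsPullback.isoPullback_hom_fst _))).symm
        | of m' =>
          cases x with
          | star => exact g.elim
          | of m =>
            let g' : m' ⟶ m := g
            have e1 : ∀ k : SimplexCategory, (isPullback_cechMap (sqFst u v n) k).flip.isoPullback.hom ≫ pullback.snd _ _ =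
                (cechMap (sqFst u v n)).app ((toAug SimplexCategory).obj (op k)) := fun k =>
              IsPullback.isoPullback_hom_snd _
            refine pullback.hom_ext ?_ ?_
            · refine ((Category.assoc _ _ _).trans (congrArg (fun t => _ ≫ t) (IsPullback.isoPullback_hom_fst _))).trans ?_
              refine (cech_map_base _ g').trans ?_
              refine Eq.trans ?_ (Category.assoc _ _ _).symm
              refine Eq.trans ?_ (congrArg (fun t => (isPullback_cechMap (sqFst u v n) m).flip.isoPullback.hom ≫ t)
                (dNerve_map_fst u v (j := op (n, m)) (k := op (n, m'))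
                  (Quiver.Hom.op (X := (n, m')) (Y := (n, m)) (𝟙 n, g')))).symm
              refine Eq.trans ?_ (congrArg (fun t => (isPullback_cechMap (sqFst u v n) m).flip.isoPullback.hom ≫
                pullback.fst (cBase u n) (cBase v m) ≫ t) (cMap_id u n)).symm
              exact ((congrArg (fun t => (isPullback_cechMap (sqFst u v n) m).flip.isoPullback.hom ≫ t)
                (Category.comp_id _)).trans (IsPullback.isoPullback_hom_fst _)).symm
            · refine ((Category.assoc _ _ _).trans (congrArg (fun t => _ ≫ t) (e1 m'))).trans ?_
              refine ((cechMap (sqFst u v n)).naturality _).trans ?_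
              refine Eq.trans ?_ (Category.assoc _ _ _).symm
              refine Eq.trans ?_ (congrArg (fun t => (isPullback_cechMap (sqFst u v n) m).flip.isoPullback.hom ≫ t)
                (dNerve_map_snd u v (j := op (n, m)) (k := op (n, m'))
                  (Quiver.Hom.op (X := (n, m')) (Y := (n, m)) (𝟙 n, g')))).symm
              exact (congrArg (fun t => t ≫ cMap v g') (e1 m).symm).trans (Category.assoc _ _ _) }
  V := ⊤
  emb x := by
    obtain ⟨x⟩ := x
    cases x with
    | of m => exact (TopCat.homeoOfIso (isPullback_cechMap (sqFst u v n) m).flip.isoPullback).isOpenEmbedding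
    | star => exact (TopCat.homeoOfIso (Iso.refl _)).isOpenEmbedding
  range x := by
    obtain ⟨x⟩ := x
    cases x with
    | of m => exact (TopCat.homeoOfIso (isPullback_cechMap (sqFst u v n) m).flip.isoPullback).surjective.range_eq
    | star => exact (TopCat.homeoOfIso (Iso.refl _)).surjective.range_eq

/-- A map universally of cohomological descent is of cohomological descent. -/
theorem isCohDescentMap_of_univ {Y S : TopCat.{u}} {v : Y ⟶ S} (hv : FibDesc.IsUnivCohDescentMap v) :
    FibDesc.IsCohDescentMap v :=
  isCohDescentTop_of_openRestr_single
    (openRestrOfSquare (IsPullback.of_hasPullback v (𝟙 S)) (TopCat.homeoOfIso (Iso.refl S)).isOpenEmbedding)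
    (fun s => ⟨s, rfl⟩) (hv S (𝟙 S))

set_option maxHeartbeats 8000000 in
/-- Cohomological descent can be tested after base change along the levels of the nerve of a map
universally of cohomological descent. -/
theorem isCohDescentMap_of_baseChange_cech (hv : FibDesc.IsUnivCohDescentMap v)
    (h : ∀ n : SimplexCategory, FibDesc.IsCohDescentMap (pullback.snd u (cBase v n))) :
    FibDesc.IsCohDescentMap u := by
  haveI := preservesFiniteLimits_Tpull (Y := cechAug u)
  haveI hP : (eps (topAug (cechAug u))).sheafPushforwardContinuous AddCommGrpCat.{u} ((topAugTop (cechAug u)) (bot SimplexCategory))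
      (totAug (topAug (cechAug u)) (topAugTop (cechAug u))) |>.IsRightAdjoint := inferInstance
  refine ⟨inferInstance, hP, inferInstance, inferInstance, fun P => inferInstance,
    preservesFiniteLimits_Tpull, fun K L => ?_⟩
  let M := sndMap u v
  let M' := fstMap u v
  letI := HasDerivedCategory.standard (BAb (cechAug u))
  letI := HasDerivedCategory.standard (DAb (cechAug u))
  letI := HasDerivedCategory.standard (BAb (cechAug v))
  letI := HasDerivedCategory.standard (DAb (cechAug v))
  letI := HasDerivedCategory.standard (DAb M.Z)
  letI := HasDerivedCategory.standard (DAb M'.Z)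
  haveI := preservesFiniteColimits_Tpull (Y := cechAug u)
  haveI : (Tpull (cechAug u)).Additive := additive_of_exact _
  haveI := preservesFiniteLimits_Tpull (Y := cechAug v)
  haveI := preservesFiniteColimits_Tpull (Y := cechAug v)
  haveI : (Tpull (cechAug v)).Additive := additive_of_exact _
  haveI := preservesFiniteLimits_Tpull (Y := M.Z)
  haveI := preservesFiniteColimits_Tpull (Y := M.Z)
  haveI : (Tpull M.Z).Additive := additive_of_exact _
  haveI := M.exact_pullM.1
  haveI := M.exact_pullM.2
  haveI : M.pullM.Additive := additive_of_exact _
  haveI := M'.exact_pullM.1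
  haveI := M'.exact_pullM.2
  haveI : M'.pullM.Additive := additive_of_exact _
  have hcol : ∀ n, FibDesc.IsCohDescentTop (M.Col (sndCols SimplexCategory SimplexCategory) n) := fun n =>
    isCohDescentTop_of_openRestr_single (colRestr u v n) (fun _ => trivial) (h n)
  have hrow : ∀ n, FibDesc.IsCohDescentTop (M'.Col (fstCols SimplexCategory SimplexCategory) n) := fun n =>
    isCohDescentTop_of_openRestr_single (rowRestr u v n) (fun _ => trivial) (hv _ (cBase u n))
  obtain ⟨_, _, _, _, _, _, hbv⟩ := isCohDescentMap_of_univ hv
  exact bijective_derived_of_factorisations (Tpull (cechAug v)) (Tpull (cechAug u)) M.pullM M'.pullM (Tpull M.Z)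
    M.TIso M'.TIso hbv (bijective_pullM M (sndCols SimplexCategory SimplexCategory) hcol)
    (bijective_pullM M' (fstCols SimplexCategory SimplexCategory) hrow) K L

end GrothLib.CohDesc25
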