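import Groth.Agent.Lib.CohDesc25.RestrCompare
import Mathlib.CategoryTheory.Limits.ConcreteCategory.Basic

/-!
# Direct images commute with open restriction
-/

set_option autoImplicit false
set_option backward.isDefEq.respectTransparency false
set_option backward.isDefEq.respectTransparency.types false
set_option linter.unusedSectionVars false
set_option maxHeartbeats 1000000

universe u

open CategoryTheory CategoryTheory.Limits Opposite Pseudofunctor Pseudofunctor.CoGrothendieck TopologicalSpace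

namespace GrothLib.CohDesc25

open FibDesc

variable {D : Type} [SmallCategory D] {Y' Y : (WithInitial D)ᵒᵖ ⥤ TopCat.{u}}

/-- The direct image to the base. -/
noncomputable abbrev Ppush (Y : (WithInitial D)ᵒᵖ ⥤ TopCat.{u}) : DAb Y ⥤ BAb Y :=
  push (topAug Y) (topAugTop Y) AddCommGrpCat.{u}

/-- The adjunction of the augmentation. -/
noncomputable abbrev Tadj (Y : (WithInitial D)ᵒᵖ ⥤ TopCat.{u}) : Tpull Y ⊣ Ppush Y :=
  FibDesc.adj (topAug Y) (topAugTop Y) AddCommGrpCat.{u}

/-- The adjunction along the part. -/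
noncomputable abbrev inclAdj (Y : (WithInitial D)ᵒᵖ ⥤ TopCat.{u}) :=
  (incl (topAug Y)).sheafAdjunctionCocontinuous AddCommGrpCat.{u} (totPart (topAug Y) (topAugTop Y))
    (totAug (topAug Y) (topAugTop Y))

/-- A component of a section of the direct image. -/
noncomputable abbrev leg (J : DAb Y) {j : Dᵒᵖ} {W : Opens (Y.obj ((toAug D).obj j))} {U : Opens (Y.obj (bot D))}
    (b : (incl (topAug Y)).obj (pObj Y j W) ⟶ (eps (topAug Y)).obj U) :
    ((Ppush Y).obj J).obj.obj (op U) →+ J.obj.obj (op (pObj Y j W)) :=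
  (((inclAdj Y).counit.app J).hom.app (op (pObj Y j W))).hom.comp
    ((((incl (topAug Y)).sheafPushforwardCocontinuous AddCommGrpCat.{u} (totPart (topAug Y) (topAugTop Y))
      (totAug (topAug Y) (topAugTop Y))).obj J).obj.map b.op).hom

theorem leg_eq (J : DAb Y) {j : Dᵒᵖ} {W : Opens (Y.obj ((toAug D).obj j))} {U : Opens (Y.obj (bot D))}
    (b b' : (incl (topAug Y)).obj (pObj Y j W) ⟶ (eps (topAug Y)).obj U) (x : ((Ppush Y).obj J).obj.obj (op U)) :
    leg J b x = leg J b' x :=
  congrArg (fun t => leg J t x) (aHom_ext Y (toBot_unique _ _))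

theorem map_leg (J : DAb Y) {j k : Dᵒᵖ} {W : Opens (Y.obj ((toAug D).obj j))} {W' : Opens (Y.obj ((toAug D).obj k))}
    {U : Opens (Y.obj (bot D))} (c : pObj Y k W' ⟶ pObj Y j W)
    (b : (incl (topAug Y)).obj (pObj Y j W) ⟶ (eps (topAug Y)).obj U) (x : ((Ppush Y).obj J).obj.obj (op U)) :
    J.obj.map c.op (leg J b x) = leg J ((incl (topAug Y)).map c ≫ b) x := by
  let R := ((incl (topAug Y)).sheafPushforwardCocontinuous AddCommGrpCat.{u} (totPart (topAug Y) (topAugTop Y))
      (totAug (topAug Y) (topAugTop Y))).obj J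
  refine (NatTrans.naturality_apply ((inclAdj Y).counit.app J).hom c.op (R.obj.map b.op x)).symm.trans ?_
  refine congrArg (((inclAdj Y).counit.app J).hom.app (op (pObj Y k W'))) ?_
  exact (Functor.map_comp_apply R.obj b.op ((incl (topAug Y)).map c).op x).symm

theorem leg_homEquiv (A : BAb Y) (J : DAb Y) (φ : (Tpull Y).obj A ⟶ J)
    {j : Dᵒᵖ} {W : Opens (Y.obj ((toAug D).obj j))} {U : Opens (Y.obj (bot D))}
    (b : (incl (topAug Y)).obj (pObj Y j W) ⟶ (eps (topAug Y)).obj U) (a : A.obj.obj (op U)) :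
    leg J b (((Tadj Y).homEquiv A J φ).hom.app (op U) a) = φ.hom.app (op (pObj Y j W)) (gA A b a) := by
  let eA := (eps (topAug Y)).sheafAdjunctionContinuous AddCommGrpCat.{u} ((topAugTop Y) (bot D))
    (totAug (topAug Y) (topAugTop Y))
  let g := (inclAdj Y).homEquiv _ _ φ
  have h1 : (Tadj Y).homEquiv A J φ = eA.homEquiv _ _ g := by
    rw [show (Tadj Y).homEquiv A J φ = _ from congrFun (congrArg DFunLike.coe (congrFun (congrFun
      (Adjunction.comp_homEquiv eA (inclAdj Y)) A) J)) φ]
    rfl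
  have h2 : ((incl (topAug Y)).sheafPushforwardContinuous AddCommGrpCat.{u} (totPart (topAug Y) (topAugTop Y))
      (totAug (topAug Y) (topAugTop Y))).map g ≫ (inclAdj Y).counit.app J = φ :=
    ((inclAdj Y).homEquiv_counit _ _ g).symm.trans (Equiv.symm_apply_apply _ φ)
  rw [h1, eA.homEquiv_unit]
  refine Eq.trans ?_ (ConcreteCategory.congr_hom
    (NatTrans.congr_app (congrArg (fun t => t.hom) h2) (op (pObj Y j W))) (gA A b a))
  refine congrArg (((inclAdj Y).counit.app J).hom.app (op (pObj Y j W))) ?_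
  exact (NatTrans.naturality_apply g.hom b.op ((eA.unit.app A).hom.app (op U) a)).symm

/-- The cone of components of the direct image over an open subset of the base. -/
noncomputable abbrev pushCone (J : DAb Y) (U : Opens (Y.obj (bot D))) :=
  ((Functor.RightExtension.mk _ ((incl (topAug Y)).op.ranCounit.app J.obj))).coneAt (op ((eps (topAug Y)).obj U))

theorem pushCone_π (J : DAb Y) {j : Dᵒᵖ} {W : Opens (Y.obj ((toAug D).obj j))} {U : Opens (Y.obj (bot D))}
    (b : (incl (topAug Y)).obj (pObj Y j W) ⟶ (eps (topAug Y)).obj U) (x : ((Ppush Y).obj J).obj.obj (op U)) :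
    (pushCone J U).π.app (StructuredArrow.mk (Y := op (pObj Y j W)) b.op) x = leg J b x := by
  show _ = (((inclAdj Y).counit.app J).hom.app (op (pObj Y j W))) _
  rw [Functor.sheafAdjunctionCocontinuous_counit_app_hom, Functor.ranAdjunction_counit]
  rfl

theorem leg_ext (J : DAb Y) {U : Opens (Y.obj (bot D))} (x y : ((Ppush Y).obj J).obj.obj (op U))
    (h : ∀ (j : Dᵒᵖ) (W : Opens (Y.obj ((toAug D).obj j)))
      (b : (incl (topAug Y)).obj (pObj Y j W) ⟶ (eps (topAug Y)).obj U), leg J b x = leg J b y) : x = y := by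
  refine Concrete.isLimit_ext _ ((incl (topAug Y)).op.isPointwiseRightKanExtensionRanCounit J.obj
    (op ((eps (topAug Y)).obj U))) x y fun g => ?_
  obtain ⟨⟨⟨⟩⟩, ⟨⟨j, W⟩⟩, f⟩ := g
  exact (pushCone_π J (j := j) (W := W) f.unop x).trans
    ((h j W f.unop).trans (pushCone_π J (j := j) (W := W) f.unop y).symm)

theorem exists_of_legs (J : DAb Y) {U : Opens (Y.obj (bot D))}
    (c : ∀ (j : Dᵒᵖ) (W : Opens (Y.obj ((toAug D).obj j))),
      ((incl (topAug Y)).obj (pObj Y j W) ⟶ (eps (topAug Y)).obj U) → J.obj.obj (op (pObj Y j W)))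
    (hc : ∀ (j k : Dᵒᵖ) (W : Opens (Y.obj ((toAug D).obj j))) (W' : Opens (Y.obj ((toAug D).obj k)))
      (t : pObj Y k W' ⟶ pObj Y j W) (b : (incl (topAug Y)).obj (pObj Y j W) ⟶ (eps (topAug Y)).obj U),
      J.obj.map t.op (c j W b) = c k W' ((incl (topAug Y)).map t ≫ b)) :
    ∃ x : ((Ppush Y).obj J).obj.obj (op U), ∀ (j : Dᵒᵖ) (W : Opens (Y.obj ((toAug D).obj j)))
      (b : (incl (topAug Y)).obj (pObj Y j W) ⟶ (eps (topAug Y)).obj U), leg J b x = c j W b := by
  let t := isLimitOfPreserves (forget AddCommGrpCat.{u})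
    ((incl (topAug Y)).op.isPointwiseRightKanExtensionRanCounit J.obj (op ((eps (topAug Y)).obj U)))
  let s : (StructuredArrow.proj (op ((eps (topAug Y)).obj U)) (incl (topAug Y)).op ⋙ J.obj ⋙
      forget AddCommGrpCat.{u}).sections :=
    ⟨fun g => c g.right.unop.base g.right.unop.fiber g.hom.unop, fun {g g'} φ => by
      refine (hc g.right.unop.base g'.right.unop.base g.right.unop.fiber g'.right.unop.fiber φ.right.unop
        g.hom.unop).trans ?_
      exact congrArg (fun e => c g'.right.unop.base g'.right.unop.fiber e)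
        (congrArg Quiver.Hom.unop (StructuredArrow.w φ))⟩
  let x := (Types.isLimitEquivSections t).symm s
  refine ⟨x, fun j W b => (pushCone_π J b x).symm.trans ?_⟩
  exact Types.isLimitEquivSections_symm_apply t s (StructuredArrow.mk (Y := op (pObj Y j W)) b.op)

namespace OpenRestr

variable (O : OpenRestr Y' Y)

/-- The base change map for direct images. -/
noncomputable def θ (J : DAb Y) : O.res₀.obj ((Ppush Y).obj J) ⟶ (Ppush Y').obj (O.res.obj J) :=
  (Tadj Y').homEquiv _ _ (O.C ((Ppush Y).obj J) ≫ O.res.map ((Tadj Y).counit.app J))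

theorem leg_θ (J : DAb Y) {j : Dᵒᵖ} {W : Opens (Y'.obj ((toAug D).obj j))} {U : Opens (Y'.obj (bot D))}
    (b : (incl (topAug Y')).obj (pObj Y' j W) ⟶ (eps (topAug Y')).obj U)
    (x : (O.res₀.obj ((Ppush Y).obj J)).obj.obj (op U)) :
    leg (O.res.obj J) b ((O.θ J).hom.app (op U) x) = leg J (O.kb b) x := by
  refine (leg_homEquiv (O.res₀.obj ((Ppush Y).obj J)) (O.res.obj J)
    (O.C ((Ppush Y).obj J) ≫ O.res.map ((Tadj Y).counit.app J)) b x).trans ?_
  refine (congrArg (((Tadj Y).counit.app J).hom.app (op (pObj Y j (O.img W)))) (O.C_gA _ b x)).trans ?_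
  refine (leg_homEquiv ((Ppush Y).obj J) J ((Tadj Y).counit.app J) (O.kb b) x).symm.trans ?_
  refine congrArg (leg J (O.kb b)) ?_
  rw [Adjunction.homEquiv_unit, Adjunction.right_triangle_components]
  rfl

theorem isIso_θ (J : DAb Y) : IsIso (O.θ J) := by
  haveI : ∀ U : (Opens (Y'.obj (bot D)))ᵒᵖ, IsIso ((O.θ J).hom.app U) := by
    rintro ⟨U⟩
    rw [ConcreteCategory.isIso_iff_bijective]
    have hV : ∀ {j : Dᵒᵖ} {W : Opens (Y.obj ((toAug D).obj j))}
        (b : (incl (topAug Y)).obj (pObj Y j W) ⟶ (eps (topAug Y)).obj (O.img U)),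
        ∀ z ∈ W, Y.map (toBot ((toAug D).obj j)) z ∈ O.img U := fun {j W} b z hz => by
      have h1 := le_of_aHom Y (b : aObj Y ((toAug D).obj j) W ⟶ aObj Y (bot D) (O.img U)) hz
      rw [toBot_unique b.base (toBot _)] at h1
      exact h1
    have hle : ∀ {j : Dᵒᵖ} {W : Opens (Y.obj ((toAug D).obj j))}
        (b : (incl (topAug Y)).obj (pObj Y j W) ⟶ (eps (topAug Y)).obj (O.img U)),
        O.pre W ≤ (Opens.map (Y'.map (toBot ((toAug D).obj j)))).obj U ∧ W ≤ O.img (O.pre W) := fun {j W} b => by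
      refine ⟨fun w hw => ?_, O.le_img_pre fun z hz => ?_⟩
      · obtain ⟨v, hv, he⟩ := hV b _ hw
        rw [← O.κ_nat] at he
        show Y'.map _ w ∈ U
        exact (O.emb _).injective he ▸ hv
      · obtain ⟨v, -, he⟩ := hV b z hz
        have h1 := (O.range (bot D)).le ⟨v, rfl⟩
        rw [he] at h1
        have h2 : Y.map (toBot (bot D)) (Y.map (toBot ((toAug D).obj j)) z) ∈ O.V := h1
        rw [toBot_unique (toBot (bot D)) (𝟙 _), CategoryTheory.Functor.map_id] at h2
        exact h2
    constructor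
    · intro x y h
      refine leg_ext J x y fun j W b => ?_
      obtain ⟨h1, h2⟩ := hle b
      let b' : (incl (topAug Y')).obj (pObj Y' j (O.pre W)) ⟶ (eps (topAug Y')).obj U := aHom Y' (toBot _) h1
      have key : ∀ z : ((Ppush Y).obj J).obj.obj (op (O.img U)),
          leg J b z = J.obj.map (pInc h2).op (leg (O.res.obj J) b' ((O.θ J).hom.app (op U) z)) := fun z => by
        rw [O.leg_θ]
        exact (leg_eq J _ _ z).trans (map_leg J (pInc h2) (O.kb b') z).symm
      exact (key x).trans ((congrArg (fun t => J.obj.map (pInc h2).op (leg (O.res.obj J) b' t)) h).trans (key y).symm)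
    · intro y
      let c : ∀ (j : Dᵒᵖ) (W : Opens (Y.obj ((toAug D).obj j))),
          ((incl (topAug Y)).obj (pObj Y j W) ⟶ (eps (topAug Y)).obj (O.img U)) → J.obj.obj (op (pObj Y j W)) :=
        fun j W b => J.obj.map (pInc (hle b).2).op
          (leg (O.res.obj J) (j := j) (W := O.pre W) (aHom Y' (toBot _) (hle b).1) y)
      have hc : ∀ (j k : Dᵒᵖ) (W : Opens (Y.obj ((toAug D).obj j))) (W' : Opens (Y.obj ((toAug D).obj k)))
          (t : pObj Y k W' ⟶ pObj Y j W) (b : (incl (topAug Y)).obj (pObj Y j W) ⟶ (eps (topAug Y)).obj (O.img U)),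
          J.obj.map t.op (c j W b) = c k W' ((incl (topAug Y)).map t ≫ b) := by
        intro j k W W' t b
        have ht : O.pre W' ≤ (Opens.map (Y'.map ((toAug D).map t.base))).obj (O.pre W) := fun w hw => by
          show O.κ.app _ (Y'.map _ w) ∈ W
          rw [O.κ_nat]
          exact le_of_pHom Y t hw
        let t' : pObj Y' k (O.pre W') ⟶ pObj Y' j (O.pre W) := pHom Y' t.base ht
        have e1 : leg (O.res.obj J) (aHom Y' (toBot _) (hle ((incl (topAug Y)).map t ≫ b)).1) y =
            (O.res.obj J).obj.map t'.op (leg (O.res.obj J) (aHom Y' (toBot _) (hle b).1) y) :=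
          (leg_eq _ _ _ y).trans (map_leg (O.res.obj J) t' _ y).symm
        refine Eq.trans ?_ (congrArg (J.obj.map (pInc (hle ((incl (topAug Y)).map t ≫ b)).2).op) e1).symm
        refine (Functor.map_comp_apply J.obj _ _ _).symm.trans (Eq.trans ?_ (Functor.map_comp_apply J.obj _ _ _))
        refine congrArg (fun e => J.obj.map e (leg (O.res.obj J) (aHom Y' (toBot _) (hle b).1) y)) ?_
        exact Quiver.Hom.unop_inj (pHom_ext Y ((Category.comp_id _).trans (Category.id_comp _).symm))
      obtain ⟨x, hx⟩ := exists_of_legs J c hc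
      refine ⟨x, leg_ext (O.res.obj J) _ _ fun j W' b' => ?_⟩
      refine (O.leg_θ J b' x).trans ((hx j (O.img W') (O.kb b')).trans ?_)
      have hW' : O.pre (O.img W') ≤ W' := (O.pre_img W').le
      refine (congrArg (J.obj.map (pInc (hle (O.kb b')).2).op) ((leg_eq _ _
        ((incl (topAug Y')).map (pInc hW') ≫ b') y).trans (map_leg (O.res.obj J) (pInc hW') b' y).symm)).trans ?_
      refine (Functor.map_comp_apply J.obj _ _ _).symm.trans (Eq.trans ?_ (Functor.map_id_apply J.obj _ _))
      refine congrArg (fun e => J.obj.map e (leg (O.res.obj J) b' y)) ?_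
      exact Quiver.Hom.unop_inj (pHom_ext Y (Category.comp_id _))
  haveI : IsIso (O.θ J).hom := NatIso.isIso_of_isIso_app _
  haveI : IsIso ((sheafToPresheaf _ _).map (O.θ J)) := inferInstanceAs (IsIso (O.θ J).hom)
  exact isIso_of_reflects_iso _ (sheafToPresheaf _ _)

theorem transpose_res {A : BAb Y} {J : DAb Y} (φ : (Tpull Y).obj A ⟶ J) :
    O.res₀.map ((Tadj Y).homEquiv A J φ) ≫ O.θ J = (Tadj Y').homEquiv _ _ (O.C A ≫ O.res.map φ) := by
  refine ((Tadj Y').homEquiv_naturality_left _ _).symm.trans (congrArg _ ?_)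
  rw [← Category.assoc, O.C_natural, Category.assoc, ← Functor.map_comp]
  refine congrArg (fun t => O.C A ≫ O.res.map t) ?_
  exact ((Tadj Y).homEquiv_counit _ _ _).symm.trans (Equiv.symm_apply_apply _ φ)

theorem θ_natural {J J' : DAb Y} (f : J ⟶ J') :
    O.res₀.map ((Ppush Y).map f) ≫ O.θ J' = O.θ J ≫ (Ppush Y').map (O.res.map f) := by
  refine ((Tadj Y').homEquiv_naturality_left _ _).symm.trans (Eq.trans (congrArg _ ?_)
    ((Tadj Y').homEquiv_naturality_right _ _))
  rw [← Category.assoc, O.C_natural, Category.assoc, Category.assoc, ← Functor.map_comp, ← Functor.map_comp]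
  exact congrArg (fun t => O.C _ ≫ O.res.map t) ((Tadj Y).counit.naturality f)

end OpenRestr

end GrothLib.CohDesc25
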