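import Groth.Agent.Lib.CohDesc25.RanLeg
import Groth.Agent.Lib.CohDesc25.RestrPush
import Mathlib.CategoryTheory.Adjunction.Unique

/-!
# Maps of families of spaces over a functor of index categories
-/

set_option autoImplicit false
set_option backward.isDefEq.respectTransparency false
set_option backward.isDefEq.respectTransparency.types false
set_option linter.unusedSectionVars false
set_option linter.style.haveILetI false
set_option maxHeartbeats 1000000

universe u

open CategoryTheory CategoryTheory.Limits Opposite Pseudofunctor Pseudofunctor.CoGrothendieck TopologicalSpace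

namespace GrothLib.CohDesc25

open FibDesc

variable {D : Type} [SmallCategory D]

/-- A family of spaces with an augmentation, as an augmented family. -/
noncomputable abbrev mkFam (Zp : Dᵒᵖ ⥤ TopCat.{u}) (S : TopCat.{u}) (aug : ∀ j, Zp.obj j ⟶ S)
    (h : ∀ {j k : Dᵒᵖ} (g : j ⟶ k), Zp.map g ≫ aug k = aug j) : (WithInitial D)ᵒᵖ ⥤ TopCat.{u} :=
  (WithInitial.lift Zp.rightOp (fun x => (aug (op x)).op)
    (fun _ _ f => Quiver.Hom.unop_inj (h f.op))).leftOp

theorem mkFam_toBot (Zp : Dᵒᵖ ⥤ TopCat.{u}) (S : TopCat.{u}) (aug : ∀ j, Zp.obj j ⟶ S)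
    (h : ∀ {j k : Dᵒᵖ} (g : j ⟶ k), Zp.map g ≫ aug k = aug j) (j : Dᵒᵖ) :
    (mkFam Zp S aug h).map (toBot ((toAug D).obj j)) = aug j := rfl

variable {D₁ D₂ : Type} [SmallCategory D₁] [SmallCategory D₂]

/-- A map of families over a functor of index categories, over the same base. -/
structure FamMap (pr : D₂ ⥤ D₁) (Y : (WithInitial D₁)ᵒᵖ ⥤ TopCat.{u}) where
  Zp : D₂ᵒᵖ ⥤ TopCat.{u}
  aug : ∀ j, Zp.obj j ⟶ Y.obj (bot D₁)
  h : ∀ {j k : D₂ᵒᵖ} (g : j ⟶ k), Zp.map g ≫ aug k = aug j
  π : ∀ j : D₂ᵒᵖ, Zp.obj j ⟶ Y.obj ((toAug D₁).obj (pr.op.obj j))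
  π_nat : ∀ {j k : D₂ᵒᵖ} (g : j ⟶ k), Zp.map g ≫ π k = π j ≫ Y.map ((toAug D₁).map (pr.op.map g))
  π_aug : ∀ j, π j ≫ Y.map (toBot ((toAug D₁).obj (pr.op.obj j))) = aug j

variable {pr : D₂ ⥤ D₁} {Y : (WithInitial D₁)ᵒᵖ ⥤ TopCat.{u}} (M : FamMap pr Y)

namespace FamMap

/-- The source family. -/
noncomputable abbrev Z : (WithInitial D₂)ᵒᵖ ⥤ TopCat.{u} := mkFam M.Zp (Y.obj (bot D₁)) M.aug M.h

/-- The map of families, on the spaces of the source family. -/
noncomputable abbrev zπ (j : D₂ᵒᵖ) : M.Z.obj ((toAug D₂).obj j) ⟶ Y.obj ((toAug D₁).obj (pr.op.obj j)) := M.π j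

theorem Z_map {j k : D₂ᵒᵖ} (g : j ⟶ k) : M.Z.map ((toAug D₂).map g) = M.Zp.map g := rfl

theorem π_nat_apply {j k : D₂ᵒᵖ} (g : j ⟶ k) (z : M.Zp.obj j) :
    M.π k (M.Zp.map g z) = Y.map ((toAug D₁).map (pr.op.map g)) (M.π j z) :=
  ConcreteCategory.congr_hom (M.π_nat g) z

theorem π_aug_apply (j : D₂ᵒᵖ) (z : M.Zp.obj j) :
    Y.map (toBot ((toAug D₁).obj (pr.op.obj j))) (M.π j z) = M.aug j z :=
  ConcreteCategory.congr_hom (M.π_aug j) z

/-- The pulled back family. -/
noncomputable abbrev prF (pr : D₂ ⥤ D₁) (Y : (WithInitial D₁)ᵒᵖ ⥤ TopCat.{u}) :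
    Pseudofunctor (LocallyDiscrete (D₂ᵒᵖ)ᵒᵖ) Cat.{u, u} :=
  FibSite.baseChange (part (topAug Y)) pr.op

/-- Its topologies. -/
noncomputable abbrev prTop (pr : D₂ ⥤ D₁) (Y : (WithInitial D₁)ᵒᵖ ⥤ TopCat.{u}) : FibSite.Topologies (prF pr Y) :=
  FibSite.baseChangeTop (partTop (topAug Y) (topAugTop Y)) pr.op

/-- Its total topology. -/
noncomputable abbrev prTot (pr : D₂ ⥤ D₁) (Y : (WithInitial D₁)ᵒᵖ ⥤ TopCat.{u}) :
    GrothendieckTopology (∫ᶜ (prF pr Y)) :=
  FibSite.totalTopology (prF pr Y) (prTop pr Y)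

/-- Objects of the pulled back family. -/
noncomputable abbrev rObj (pr : D₂ ⥤ D₁) (Y : (WithInitial D₁)ᵒᵖ ⥤ TopCat.{u}) (j : D₂ᵒᵖ)
    (W : Opens (Y.obj ((toAug D₁).obj (pr.op.obj j)))) : ∫ᶜ (prF pr Y) := ⟨j, W⟩

theorem thin_pr : Thin (prF pr Y) := fun S U V => thin_part Y (pr.op.obj S) U V

theorem isPreFibSite_pr : FibSite.IsPreFibSite (prF pr Y) (prTop pr Y) := fun _ _ f =>
  isPreFibSite_part Y (pr.op.map f)

theorem le_of_rHom {j k : D₂ᵒᵖ} {U : Opens (Y.obj ((toAug D₁).obj (pr.op.obj j)))}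
    {V : Opens (Y.obj ((toAug D₁).obj (pr.op.obj k)))} (g : rObj pr Y j U ⟶ rObj pr Y k V) :
    U ≤ (Opens.map (Y.map ((toAug D₁).map (pr.op.map g.base)))).obj V :=
  leOfHom (g.fiber : U ⟶ (Opens.map (Y.map ((toAug D₁).map (pr.op.map g.base)))).obj V)

/-- A morphism of the pulled back family from an inclusion. -/
noncomputable def rHom {j k : D₂ᵒᵖ} {U : Opens (Y.obj ((toAug D₁).obj (pr.op.obj j)))}
    {V : Opens (Y.obj ((toAug D₁).obj (pr.op.obj k)))} (θ : j ⟶ k)
    (h : U ≤ (Opens.map (Y.map ((toAug D₁).map (pr.op.map θ)))).obj V) : rObj pr Y j U ⟶ rObj pr Y k V :=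
  ⟨θ, (homOfLE h : U ⟶ (Opens.map (Y.map ((toAug D₁).map (pr.op.map θ)))).obj V)⟩

variable (pr Y) in
/-- Forgetting the index. -/
noncomputable abbrev q : ∫ᶜ (prF pr Y) ⥤ ∫ᶜ (part (topAug Y)) := FibSite.baseChangeFunctor (part (topAug Y)) pr.op

/-- Inverse image along the map of families. -/
noncomputable def v : ∫ᶜ (prF pr Y) ⥤ ∫ᶜ (part (topAug M.Z)) where
  obj X := pObj M.Z X.base ((Opens.map (M.zπ X.base)).obj X.fiber)
  map {A B} g := pHom M.Z g.base (by
    intro z hz
    have h := le_of_rHom (g : rObj pr Y A.base A.fiber ⟶ rObj pr Y B.base B.fiber) hz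
    show M.π B.base (M.Zp.map g.base z) ∈ (show Opens (Y.obj ((toAug D₁).obj (pr.op.obj B.base))) from B.fiber)
    rw [M.π_nat_apply]
    exact h)
  map_id _ := pHom_ext M.Z rfl
  map_comp _ _ := pHom_ext M.Z rfl

theorem isContinuous_q : (q pr Y).IsContinuous (prTot pr Y) (totPart (topAug Y) (topAugTop Y)) := by
  rw [GrothLib.FibSite.isContinuous_iff isPreFibSite_pr]
  intro j
  haveI := GrothLib.FibSite.isContinuous_ι (isPreFibSite_part Y) (pr.op.obj j)
  have e : ι (part (topAug Y)) (pr.op.obj j) ≅ ι (prF pr Y) j ⋙ q pr Y :=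
    NatIso.ofComponents (fun U => Iso.refl _) (fun {U V} g => by
      refine (Category.comp_id _).trans (Eq.trans ?_ (Category.id_comp _).symm)
      exact pHom_ext Y (pr.op.map_id j).symm)
  exact Functor.isContinuous_of_iso e (prTop pr Y j) (totPart (topAug Y) (topAugTop Y))

theorem isCocontinuous_q : (q pr Y).IsCocontinuous (prTot pr Y) (totPart (topAug Y) (topAugTop Y)) where
  cover_lift {X T} hT := by
    obtain ⟨R', hR', hle⟩ := (GrothLib.FibSite.mem_totalTopology_iff (isPreFibSite_part Y) _ T).1 hT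
    rw [GrothLib.FibSite.mem_totalTopology_iff isPreFibSite_pr]
    refine ⟨R', hR', ?_⟩
    rw [Sieve.functor_galoisConnection] at hle ⊢
    intro V r hr
    have h2 := hle _ hr
    show T.arrows _
    refine Eq.mp (congrArg (fun g => T.arrows g) (pHom_ext Y ?_)) h2
    exact (pr.op.map_id X.base).symm

theorem isContinuous_v : M.v.IsContinuous (prTot pr Y) (totPart (topAug M.Z) (topAugTop M.Z)) := by
  rw [GrothLib.FibSite.isContinuous_iff isPreFibSite_pr]
  intro j
  haveI := GrothLib.FibSite.isContinuous_ι (isPreFibSite_part M.Z) j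
  haveI : (Opens.map (M.zπ j) ⋙ ι (part (topAug M.Z)) j).IsContinuous (prTop pr Y j) (totPart (topAug M.Z) (topAugTop M.Z)) :=
    Functor.isContinuous_comp (Opens.map (M.zπ j)) (ι (part (topAug M.Z)) j) (Opens.grothendieckTopology _)
      (partTop (topAug M.Z) (topAugTop M.Z) j) _
  have e : Opens.map (M.zπ j) ⋙ ι (part (topAug M.Z)) j ≅ ι (prF pr Y) j ⋙ M.v :=
    NatIso.ofComponents (fun U => Iso.refl _) (fun {U V} g => by
      refine (Category.comp_id _).trans (Eq.trans ?_ (Category.id_comp _).symm)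
      exact pHom_ext M.Z rfl)
  exact Functor.isContinuous_of_iso e (prTop pr Y j) (totPart (topAug M.Z) (topAugTop M.Z))

theorem flat_v : RepresentablyFlat M.v := by
  refine ⟨fun X => ?_⟩
  obtain ⟨j, U₀⟩ := X
  let U : Opens (M.Z.obj ((toAug D₂).obj j)) := U₀
  change IsCofiltered (StructuredArrow (pObj M.Z j U) M.v)
  have hc : IsCofilteredOrEmpty (StructuredArrow (pObj M.Z j U) M.v) := by
    constructor
    · intro A B
      let a : j ⟶ A.right.base := A.hom.base
      let b : j ⟶ B.right.base := B.hom.base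
      let W : Opens (Y.obj ((toAug D₁).obj (pr.op.obj j))) :=
        (Opens.map (Y.map ((toAug D₁).map (pr.op.map a)))).obj A.right.fiber ⊓
          (Opens.map (Y.map ((toAug D₁).map (pr.op.map b)))).obj B.right.fiber
      have hU : U ≤ (Opens.map (M.Zp.map (𝟙 j))).obj ((Opens.map (M.zπ j)).obj W) := by
        intro z hz
        rw [CategoryTheory.Functor.map_id]
        constructor
        · show Y.map ((toAug D₁).map (pr.op.map a)) (M.π j z) ∈ (show Opens (Y.obj ((toAug D₁).obj (pr.op.obj A.right.base))) from A.right.fiber)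
          rw [← M.π_nat_apply]
          exact le_of_pHom M.Z (A.hom : pObj M.Z j U ⟶ pObj M.Z A.right.base _) hz
        · show Y.map ((toAug D₁).map (pr.op.map b)) (M.π j z) ∈ (show Opens (Y.obj ((toAug D₁).obj (pr.op.obj B.right.base))) from B.right.fiber)
          rw [← M.π_nat_apply]
          exact le_of_pHom M.Z (B.hom : pObj M.Z j U ⟶ pObj M.Z B.right.base _) hz
      exact ⟨StructuredArrow.mk (S := pObj M.Z j U) (Y := rObj pr Y j W) (pHom M.Z (𝟙 j) hU),
        StructuredArrow.homMk (rHom a (fun z hz => hz.1)) (pHom_ext M.Z (Category.id_comp _)),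
        StructuredArrow.homMk (rHom b (fun z hz => hz.2)) (pHom_ext M.Z (Category.id_comp _)), trivial⟩
    · intro A B a b
      let θ : j ⟶ A.right.base := A.hom.base
      let W : Opens (Y.obj ((toAug D₁).obj (pr.op.obj j))) :=
        (Opens.map (Y.map ((toAug D₁).map (pr.op.map θ)))).obj A.right.fiber
      have hU : U ≤ (Opens.map (M.Zp.map (𝟙 j))).obj ((Opens.map (M.zπ j)).obj W) := by
        intro z hz
        rw [CategoryTheory.Functor.map_id]
        show Y.map ((toAug D₁).map (pr.op.map θ)) (M.π j z) ∈ (show Opens (Y.obj ((toAug D₁).obj (pr.op.obj A.right.base))) from A.right.fiber)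
        rw [← M.π_nat_apply]
        exact le_of_pHom M.Z (A.hom : pObj M.Z j U ⟶ pObj M.Z A.right.base _) hz
      refine ⟨StructuredArrow.mk (S := pObj M.Z j U) (Y := rObj pr Y j W) (pHom M.Z (𝟙 j) hU),
        StructuredArrow.homMk (rHom θ (fun z hz => hz)) (pHom_ext M.Z (Category.id_comp _)), ?_⟩
      refine StructuredArrow.ext _ _ (hom_ext_base thin_pr ?_)
      show θ ≫ a.right.base = θ ≫ b.right.base
      exact (congrArg (fun g => g.base) (StructuredArrow.w a) :).trans
        (congrArg (fun g => g.base) (StructuredArrow.w b) :).symm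
  exact { hc with
    nonempty := ⟨StructuredArrow.mk (S := pObj M.Z j U) (Y := rObj pr Y j ⊤) (pHom M.Z (𝟙 j) (fun _ _ => trivial))⟩ }

instance instContinuousQ : (q pr Y).IsContinuous (prTot pr Y) (totPart (topAug Y) (topAugTop Y)) := isContinuous_q
instance instCocontinuousQ : (q pr Y).IsCocontinuous (prTot pr Y) (totPart (topAug Y) (topAugTop Y)) := isCocontinuous_q
instance instContinuousV : M.v.IsContinuous (prTot pr Y) (totPart (topAug M.Z) (topAugTop M.Z)) := M.isContinuous_v
instance instFlatV : RepresentablyFlat M.v := M.flat_v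

variable (pr Y) in
/-- Abelian sheaves on the pulled back family. -/
abbrev RAb := Sheaf (prTot pr Y) AddCommGrpCat.{u}

/-- The inverse image along the map of families. -/
noncomputable abbrev pullM : DAb Y ⥤ DAb M.Z :=
  (q pr Y).sheafPushforwardContinuous AddCommGrpCat.{u} (prTot pr Y) (totPart (topAug Y) (topAugTop Y)) ⋙
    M.v.sheafPullback AddCommGrpCat.{u} (prTot pr Y) (totPart (topAug M.Z) (topAugTop M.Z))

/-- The direct image along the map of families, as sheaves on the pulled back family. -/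
noncomputable abbrev vPush : DAb M.Z ⥤ RAb pr Y :=
  M.v.sheafPushforwardContinuous AddCommGrpCat.{u} (prTot pr Y) (totPart (topAug M.Z) (topAugTop M.Z))

/-- The direct image along the map of families. -/
noncomputable abbrev pushM : DAb M.Z ⥤ DAb Y :=
  M.vPush ⋙ (q pr Y).sheafPushforwardCocontinuous AddCommGrpCat.{u} (prTot pr Y) (totPart (topAug Y) (topAugTop Y))

/-- The adjunction of the map of families. -/
noncomputable abbrev adjM : M.pullM ⊣ M.pushM :=
  ((q pr Y).sheafAdjunctionCocontinuous AddCommGrpCat.{u} (prTot pr Y) (totPart (topAug Y) (topAugTop Y))).comp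
    (M.v.sheafAdjunctionContinuous AddCommGrpCat.{u} (prTot pr Y) (totPart (topAug M.Z) (topAugTop M.Z)))

theorem exact_pullM : PreservesFiniteLimits M.pullM ∧ PreservesFiniteColimits M.pullM := by
  have h := preservesFinite_restriction (J := prTot pr Y) (K := totPart (topAug Y) (topAugTop Y)) (q pr Y)
  haveI := h.1
  haveI := h.2
  haveI := preservesFiniteLimits_pullback (J := prTot pr Y) (K := totPart (topAug M.Z) (topAugTop M.Z)) M.v
  haveI := preservesFiniteColimits_pullback (J := prTot pr Y) (K := totPart (topAug M.Z) (topAugTop M.Z)) M.v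
  exact ⟨comp_preservesFiniteLimits _ _, comp_preservesFiniteColimits _ _⟩

/-- A component of a section of the direct image along the map of families. -/
noncomputable abbrev mLeg (J : DAb M.Z) {j : D₂ᵒᵖ} {W : Opens (Y.obj ((toAug D₁).obj (pr.op.obj j)))}
    {k : D₁ᵒᵖ} {U : Opens (Y.obj ((toAug D₁).obj k))} (c : (q pr Y).obj (rObj pr Y j W) ⟶ pObj Y k U) :
    (M.pushM.obj J).obj.obj (op (pObj Y k U)) →+ J.obj.obj (op (pObj M.Z j ((Opens.map (M.zπ j)).obj W))) :=
  rleg (q pr Y) (M.vPush.obj J) c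

theorem map_mLeg (J : DAb M.Z) {j j' : D₂ᵒᵖ} {W : Opens (Y.obj ((toAug D₁).obj (pr.op.obj j)))}
    {W' : Opens (Y.obj ((toAug D₁).obj (pr.op.obj j')))}
    {k : D₁ᵒᵖ} {U : Opens (Y.obj ((toAug D₁).obj k))} (t : rObj pr Y j' W' ⟶ rObj pr Y j W)
    (c : (q pr Y).obj (rObj pr Y j W) ⟶ pObj Y k U) (x : (M.pushM.obj J).obj.obj (op (pObj Y k U))) :
    J.obj.map (M.v.map t).op (M.mLeg J c x) = M.mLeg J ((q pr Y).map t ≫ c) x :=
  map_rleg (q pr Y) (M.vPush.obj J) t c x

theorem mLeg_eq (J : DAb M.Z) {j : D₂ᵒᵖ} {W : Opens (Y.obj ((toAug D₁).obj (pr.op.obj j)))}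
    {k : D₁ᵒᵖ} {U : Opens (Y.obj ((toAug D₁).obj k))} (c c' : (q pr Y).obj (rObj pr Y j W) ⟶ pObj Y k U)
    (h : c.base = c'.base) (x : (M.pushM.obj J).obj.obj (op (pObj Y k U))) : M.mLeg J c x = M.mLeg J c' x :=
  congrArg (fun t => M.mLeg J t x) (pHom_ext Y h)

/-- The open subset over the base. -/
noncomputable def over (j : D₂ᵒᵖ) (V : Opens (Y.obj (bot D₁))) : Opens (Y.obj ((toAug D₁).obj (pr.op.obj j))) :=
  (Opens.map (Y.map (toBot ((toAug D₁).obj (pr.op.obj j))))).obj V

theorem le_aug {j : D₂ᵒᵖ} {W : Opens (M.Z.obj ((toAug D₂).obj j))} {V : Opens (Y.obj (bot D₁))}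
    (b : (incl (topAug M.Z)).obj (pObj M.Z j W) ⟶ (eps (topAug M.Z)).obj V) :
    W ≤ (Opens.map (M.zπ j)).obj (over (pr := pr) j V) := fun z hz => by
  show Y.map (toBot _) (M.π j z) ∈ V
  rw [M.π_aug_apply]
  have h1 := le_of_aHom M.Z (b : aObj M.Z ((toAug D₂).obj j) W ⟶ aObj M.Z (bot D₂) V) hz
  rw [toBot_unique b.base (toBot _)] at h1
  exact h1

/-- The canonical arrow to the base. -/
noncomputable def overHom (j : D₂ᵒᵖ) (V : Opens (Y.obj (bot D₁))) :
    (incl (topAug Y)).obj (pObj Y (pr.op.obj j) (over (pr := pr) j V)) ⟶ (eps (topAug Y)).obj V :=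
  aHom Y (toBot _) le_rfl

theorem le_under {j : D₂ᵒᵖ} {W : Opens (Y.obj ((toAug D₁).obj (pr.op.obj j)))} {k : D₁ᵒᵖ}
    {U : Opens (Y.obj ((toAug D₁).obj k))} (c : (q pr Y).obj (rObj pr Y j W) ⟶ pObj Y k U)
    {V : Opens (Y.obj (bot D₁))} (b : (incl (topAug Y)).obj (pObj Y k U) ⟶ (eps (topAug Y)).obj V) :
    (Opens.map (M.zπ j)).obj W ≤ (Opens.map (M.Z.map (toBot ((toAug D₂).obj j)))).obj V := fun z hz => by
  show M.aug j z ∈ V
  rw [← M.π_aug_apply]
  have h1 := le_of_aHom Y (((incl (topAug Y)).map c ≫ b) :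
    aObj Y ((toAug D₁).obj (pr.op.obj j)) W ⟶ aObj Y (bot D₁) V) hz
  rw [toBot_unique ((incl (topAug Y)).map c ≫ b).base (toBot _)] at h1
  exact h1

theorem exists_Φ (J : DAb M.Z) (V : Opens (Y.obj (bot D₁))) (y : ((Ppush Y).obj (M.pushM.obj J)).obj.obj (op V)) :
    ∃ x : ((Ppush M.Z).obj J).obj.obj (op V),
      ∀ (j : D₂ᵒᵖ) (W : Opens (M.Z.obj ((toAug D₂).obj j))) (b : (incl (topAug M.Z)).obj (pObj M.Z j W) ⟶ (eps (topAug M.Z)).obj V),
        leg J b x = J.obj.map (pInc (Y := M.Z) (M.le_aug b)).op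
          (M.mLeg J (j := j) (W := over (pr := pr) j V) (𝟙 _) (leg (M.pushM.obj J) (overHom j V) y)) := by
    refine exists_of_legs J _ fun j j' W W' t b => ?_
    have ht : over (pr := pr) j' V ≤
        (Opens.map (Y.map ((toAug D₁).map (pr.op.map t.base)))).obj (over (pr := pr) j V) := fun z hz => by
      show Y.map (toBot _) (Y.map ((toAug D₁).map (pr.op.map t.base)) z) ∈ V
      have h0 : Y.map (toBot ((toAug D₁).obj (pr.op.obj j'))) z ∈ V := hz
      rw [toBot_unique (toBot ((toAug D₁).obj (pr.op.obj j'))) ((toAug D₁).map (pr.op.map t.base) ≫ toBot _),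
        Y.map_comp] at h0
      exact h0
    let t' : rObj pr Y j' (over (pr := pr) j' V) ⟶ rObj pr Y j (over (pr := pr) j V) := rHom t.base ht
    let R := M.pushM.obj J
    have e1 : M.mLeg J (j := j') (W := over (pr := pr) j' V) (𝟙 _) (leg R (overHom j' V) y) =
        J.obj.map (M.v.map t').op (M.mLeg J (j := j) (W := over (pr := pr) j V) (𝟙 _) (leg R (overHom j V) y)) := by
      refine Eq.trans ?_ (M.map_mLeg J t' _ _).symm
      refine (congrArg (M.mLeg J (j := j') (W := over (pr := pr) j' V) (𝟙 _))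
        ((leg_eq R _ _ y).trans (map_leg R ((q pr Y).map t') (overHom j V) y).symm)).trans ?_
      refine (rleg_res (q pr Y) (M.vPush.obj J) _ ((q pr Y).map t') _).trans ?_
      exact M.mLeg_eq J _ _ ((Category.id_comp _).trans (Category.comp_id _).symm) _
    refine Eq.trans ?_ (congrArg (J.obj.map (pInc (Y := M.Z) (M.le_aug ((incl (topAug M.Z)).map t ≫ b))).op) e1).symm
    refine (Functor.map_comp_apply J.obj _ _ _).symm.trans (Eq.trans ?_ (Functor.map_comp_apply J.obj _ _ _))
    refine congrArg (fun e => J.obj.map e (M.mLeg J (j := j) (W := over (pr := pr) j V) (𝟙 _) (leg R (overHom j V) y))) ?_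
    exact Quiver.Hom.unop_inj (pHom_ext M.Z ((Category.comp_id _).trans (Category.id_comp _).symm))

/-- Direct images to the base compose. -/
noncomputable def ΦVal (J : DAb M.Z) (V : Opens (Y.obj (bot D₁))) :
    ((Ppush Y).obj (M.pushM.obj J)).obj.obj (op V) →+ ((Ppush M.Z).obj J).obj.obj (op V) :=
  { toFun := fun y => (M.exists_Φ J V y).choose
    map_zero' := leg_ext J _ _ fun j W b => by
      rw [(M.exists_Φ J V 0).choose_spec, map_zero, map_zero, map_zero, map_zero]
    map_add' := fun y y' => leg_ext J _ _ fun j W b => by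
      rw [(M.exists_Φ J V (y + y')).choose_spec, map_add, map_add, map_add, map_add, (M.exists_Φ J V y).choose_spec, (M.exists_Φ J V y').choose_spec] }

theorem leg_ΦVal (J : DAb M.Z) {V : Opens (Y.obj (bot D₁))} {j : D₂ᵒᵖ} {W : Opens (M.Z.obj ((toAug D₂).obj j))}
    (b : (incl (topAug M.Z)).obj (pObj M.Z j W) ⟶ (eps (topAug M.Z)).obj V)
    (y : ((Ppush Y).obj (M.pushM.obj J)).obj.obj (op V)) :
    leg J b (M.ΦVal J V y) = J.obj.map (pInc (Y := M.Z) (M.le_aug b)).op
      (M.mLeg J (j := j) (W := over (pr := pr) j V) (𝟙 _) (leg (M.pushM.obj J) (overHom j V) y)) := by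
  exact (M.exists_Φ J V y).choose_spec j W b

theorem mLeg_leg (J : DAb M.Z) {V : Opens (Y.obj (bot D₁))} {k : D₁ᵒᵖ} {U : Opens (Y.obj ((toAug D₁).obj k))}
    {j : D₂ᵒᵖ} {W : Opens (Y.obj ((toAug D₁).obj (pr.op.obj j)))}
    (c : (q pr Y).obj (rObj pr Y j W) ⟶ pObj Y k U)
    (b : (incl (topAug Y)).obj (pObj Y k U) ⟶ (eps (topAug Y)).obj V)
    (y : ((Ppush Y).obj (M.pushM.obj J)).obj.obj (op V)) :
    M.mLeg J c (leg (M.pushM.obj J) b y) =
      leg J (j := j) (W := (Opens.map (M.zπ j)).obj W) (aHom M.Z (toBot _) (M.le_under c b)) (M.ΦVal J V y) := by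
  let R := M.pushM.obj J
  have hW : W ≤ over (pr := pr) j V := fun z hz => by
    have h1 := le_of_aHom Y (((incl (topAug Y)).map c ≫ b) :
      aObj Y ((toAug D₁).obj (pr.op.obj j)) W ⟶ aObj Y (bot D₁) V) hz
    rw [toBot_unique ((incl (topAug Y)).map c ≫ b).base (toBot _)] at h1
    exact h1
  let i : rObj pr Y j W ⟶ rObj pr Y j (over (pr := pr) j V) := (ι (prF pr Y) j).map (homOfLE (X := Opens (Y.obj ((toAug D₁).obj (pr.op.obj j)))) hW)
  rw [M.leg_ΦVal]
  have e1 : M.mLeg J c (leg R b y) = M.mLeg J (j := j) (W := W) (𝟙 _) (leg R ((incl (topAug Y)).map c ≫ b) y) := by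
    refine Eq.trans ?_ (congrArg (M.mLeg J (j := j) (W := W) (𝟙 _)) (map_leg R c b y))
    refine Eq.trans ?_ (rleg_res (q pr Y) (M.vPush.obj J) (c := rObj pr Y j W) (d := (q pr Y).obj (rObj pr Y j W)) (𝟙 _) c (leg R b y)).symm
    exact congrArg (fun t => rleg (q pr Y) (M.vPush.obj J) t (leg R b y)) (Category.id_comp c).symm
  have e2 : J.obj.map (M.v.map i).op (M.mLeg J (j := j) (W := over (pr := pr) j V) (𝟙 _) (leg R (overHom j V) y)) =
      M.mLeg J (j := j) (W := W) (𝟙 _) (leg R ((incl (topAug Y)).map c ≫ b) y) := by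
    refine (M.map_mLeg J i _ _).trans ?_
    refine Eq.trans ?_ (congrArg (M.mLeg J (j := j) (W := W) (𝟙 _))
      ((map_leg R ((q pr Y).map i) (overHom j V) y).trans (leg_eq R _ _ y)))
    refine Eq.trans ?_ (rleg_res (q pr Y) (M.vPush.obj J) _ ((q pr Y).map i) _).symm
    exact M.mLeg_eq J _ _ ((Category.comp_id _).trans (Category.id_comp _).symm) _
  refine (e1.trans e2.symm).trans ?_
  exact congrArg (fun e => J.obj.map (Quiver.Hom.op e)
    (M.mLeg J (j := j) (W := over (pr := pr) j V) (𝟙 _) (leg R (overHom j V) y))) (pHom_ext M.Z rfl)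

theorem bijective_ΦVal (J : DAb M.Z) (V : Opens (Y.obj (bot D₁))) : Function.Bijective (M.ΦVal J V) := by
  constructor
  · intro y y' h
    refine leg_ext _ y y' fun k U b => ?_
    refine rleg_ext (q pr Y) (M.vPush.obj J) _ _ fun c g => ?_
    obtain ⟨j, W⟩ := c
    exact (M.mLeg_leg J (j := j) (W := W) g b y).trans
      ((congrArg (leg J _) h).trans (M.mLeg_leg J (j := j) (W := W) g b y').symm)
  · intro x
    have hin : ∀ (k : D₁ᵒᵖ) (U : Opens (Y.obj ((toAug D₁).obj k)))
        (b : (incl (topAug Y)).obj (pObj Y k U) ⟶ (eps (topAug Y)).obj V),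
        ∃ r : (M.pushM.obj J).obj.obj (op (pObj Y k U)),
          ∀ (c : ∫ᶜ (prF pr Y)) (g : (q pr Y).obj c ⟶ pObj Y k U),
            rleg (q pr Y) (M.vPush.obj J) g r =
              leg J (j := c.base) (W := (Opens.map (M.zπ c.base)).obj c.fiber)
                (aHom M.Z (toBot _) (M.le_under (j := c.base) (W := c.fiber) g b)) x := fun k U b => by
      refine exists_of_rlegs (q pr Y) (M.vPush.obj J) _ fun c c' t g => ?_
      exact (map_leg J (M.v.map t) _ x).trans (leg_eq J _ _ x)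
    choose r hr using hin
    obtain ⟨y, hy⟩ := exists_of_legs (M.pushM.obj J) (U := V) r fun k k' U U' t b => by
      refine rleg_ext (q pr Y) (M.vPush.obj J) _ _ fun c g => ?_
      exact (rleg_res (q pr Y) (M.vPush.obj J) g t _).trans
        ((hr k U b c (g ≫ t)).trans ((leg_eq J _ _ x).trans (hr k' U' _ c g).symm))
    refine ⟨y, leg_ext J _ _ fun j W b => ?_⟩
    rw [M.leg_ΦVal, hy]
    refine (congrArg (J.obj.map (pInc (Y := M.Z) (M.le_aug b)).op)
      (hr (pr.op.obj j) (over (pr := pr) j V) (overHom j V) (rObj pr Y j (over (pr := pr) j V)) (𝟙 _))).trans ?_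
    exact (map_leg J _ _ x).trans (leg_eq J _ b x)

/-- Direct images to the base compose, naturally. -/
noncomputable def ΦIso : M.pushM ⋙ Ppush Y ≅ Ppush M.Z :=
  NatIso.ofComponents
    (fun J =>
      let φ : (M.pushM ⋙ Ppush Y).obj J ⟶ (Ppush M.Z).obj J := ObjectProperty.homMk
        { app := fun V => AddCommGrpCat.ofHom (M.ΦVal J V.unop)
          naturality := fun V V' g => by
            ext y
            refine leg_ext J _ _ fun j W b => ?_
            let b₀ : (incl (topAug M.Z)).obj (pObj M.Z j W) ⟶ (eps (topAug M.Z)).obj V.unop :=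
              b ≫ (eps (topAug M.Z)).map g.unop
            let k : pObj Y (pr.op.obj j) (over (pr := pr) j V'.unop) ⟶ pObj Y (pr.op.obj j) (over (pr := pr) j V.unop) :=
              pInc (fun z hz => le_of_hom (X := Y.obj (bot D₁)) g.unop hz)
            refine (M.leg_ΦVal J b _).trans (Eq.trans ?_ ((rleg_res (incl (topAug M.Z)) J (c := pObj M.Z j W) b
              ((eps (topAug M.Z)).map g.unop) (M.ΦVal J V.unop y)).trans rfl).symm)
            refine Eq.trans ?_ (M.leg_ΦVal J b₀ y).symm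
            let R := M.pushM.obj J
            have e1 : leg R (overHom j V'.unop) (((Ppush Y).obj R).obj.map g y) =
                R.obj.map k.op (leg R (overHom j V.unop) y) := by
              refine (rleg_res (incl (topAug Y)) R (c := pObj Y (pr.op.obj j) (over (pr := pr) j V'.unop)) _
                ((eps (topAug Y)).map g.unop) y).trans ?_
              exact (leg_eq R _ _ y).trans (map_leg R k (overHom j V.unop) y).symm
            let i : rObj pr Y j (over (pr := pr) j V'.unop) ⟶ rObj pr Y j (over (pr := pr) j V.unop) :=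
              (ι (prF pr Y) j).map (homOfLE (X := Opens (Y.obj ((toAug D₁).obj (pr.op.obj j)))) (fun z hz => le_of_hom (X := Y.obj (bot D₁)) g.unop hz))
            have e2 : M.mLeg J (j := j) (W := over (pr := pr) j V'.unop) (𝟙 _)
                (leg R (overHom j V'.unop) (((Ppush Y).obj R).obj.map g y)) =
                J.obj.map (M.v.map i).op
                  (M.mLeg J (j := j) (W := over (pr := pr) j V.unop) (𝟙 _) (leg R (overHom j V.unop) y)) := by
              rw [e1, M.map_mLeg]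
              refine (rleg_res (q pr Y) (M.vPush.obj J) _ k _).trans ?_
              exact M.mLeg_eq J _ _ ((congrArg (fun t => 𝟙 _ ≫ t) (pr.op.map_id j).symm).trans
                ((Category.id_comp _).trans (Category.comp_id _).symm)) _
            refine (congrArg (J.obj.map (pInc (Y := M.Z) (M.le_aug b)).op) e2).trans ?_
            refine (Functor.map_comp_apply J.obj _ _ _).symm.trans ?_
            exact congrArg (fun e => J.obj.map (Quiver.Hom.op e)
              (M.mLeg J (j := j) (W := over (pr := pr) j V.unop) (𝟙 _) (leg R (overHom j V.unop) y)))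
              (pHom_ext M.Z (Category.id_comp _)) }
      haveI : IsIso φ := by
        haveI : ∀ V, IsIso (φ.hom.app V) := fun V =>
          (ConcreteCategory.isIso_iff_bijective _).2 (M.bijective_ΦVal J V.unop)
        haveI : IsIso φ.hom := NatIso.isIso_of_isIso_app _
        haveI : IsIso ((sheafToPresheaf _ _).map φ) := inferInstanceAs (IsIso φ.hom)
        exact isIso_of_reflects_iso _ (sheafToPresheaf _ _)
      asIso φ)
    (fun {J J'} f => by
      ext ⟨V⟩ y
      refine leg_ext J' _ _ fun j W b => ?_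
      refine (M.leg_ΦVal J' b _).trans ?_
      refine Eq.trans ?_ (app_rleg (incl (topAug M.Z)) J f b (M.ΦVal J V y))
      refine Eq.trans ?_ (congrArg (f.hom.app _) (M.leg_ΦVal J b y)).symm
      refine Eq.trans ?_ (NatTrans.naturality_apply f.hom _ _).symm
      refine congrArg (J'.obj.map (pInc (Y := M.Z) (M.le_aug b)).op) ?_
      refine Eq.trans ?_ (app_rleg (q pr Y) (M.vPush.obj J) (M.vPush.map f) (c := rObj pr Y j (over (pr := pr) j V)) (d := (q pr Y).obj (rObj pr Y j (over (pr := pr) j V))) (𝟙 _) (leg (M.pushM.obj J) (overHom j V) y)).symm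
      refine congrArg (M.mLeg J' (j := j) (W := over (pr := pr) j V) (𝟙 _)) ?_
      exact (app_rleg (incl (topAug Y)) (M.pushM.obj J) (M.pushM.map f) (overHom j V) y).symm)

/-- Inverse images from the base compose. -/
noncomputable def TIso : Tpull Y ⋙ M.pullM ≅ Tpull M.Z :=
  ((Tadj Y).comp M.adjM).leftAdjointUniq ((Tadj M.Z).ofNatIsoRight M.ΦIso.symm)

end FamMap

end GrothLib.CohDesc25
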