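import Groth.Agent.Lib.CohDesc25.RestrAbstract
import Groth.Agent.Lib.CohDesc25.RestrPush
import Mathlib.Algebra.Homology.ShortComplex.PreservesHomology
import Mathlib.CategoryTheory.Abelian.GrothendieckCategory.EnoughInjectives

/-!
# Cohomological descent is local on the base
-/

set_option autoImplicit false
set_option backward.isDefEq.respectTransparency false
set_option backward.isDefEq.respectTransparency.types false
set_option linter.unusedSectionVars false
set_option linter.style.haveILetI false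
set_option maxHeartbeats 1000000

universe u

open CategoryTheory CategoryTheory.Limits Opposite Pseudofunctor Pseudofunctor.CoGrothendieck TopologicalSpace

namespace GrothLib.CohDesc25

open FibDesc

variable {D : Type} [SmallCategory D] {Y : (WithInitial D)ᵒᵖ ⥤ TopCat.{u}}

/-- A map of sheaves on the base is an isomorphism if it is one after restriction to an open covering. -/
theorem isIso_of_res₀ {ι : Type u} {Ys : ι → (WithInitial D)ᵒᵖ ⥤ TopCat.{u}} (O : ∀ i, OpenRestr (Ys i) Y)
    (hcov : ∀ s : Y.obj (bot D), ∃ i, s ∈ (O i).V) {A B : BAb Y} (f : A ⟶ B)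
    (h : ∀ i, IsIso ((O i).res₀.map f)) : IsIso f := by
  have hs : ∀ (U : Opens (Y.obj (bot D))) (y : Y.obj (bot D)), y ∈ U →
      ∃ W : Opens (Y.obj (bot D)), W ≤ U ∧ y ∈ W ∧ Function.Bijective (f.hom.app (op W)) := fun U y hy => by
    obtain ⟨i, hi⟩ := hcov y
    haveI := h i
    let W' : Opens ((Ys i).obj (bot D)) := (O i).pre U
    refine ⟨(O i).img W', (O i).img_pre_le U, ?_, ?_⟩
    · obtain ⟨w, hw⟩ := (O i).exists_eq (x := bot D) (z := y) (by
        rw [toBot_unique (toBot (bot D)) (𝟙 _), CategoryTheory.Functor.map_id]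
        exact hi)
      exact ⟨w, show (O i).κ.app _ w ∈ U by rw [hw]; exact hy, hw⟩
    · haveI : IsIso (((O i).res₀.map f).hom.app (op W')) := inferInstance
      exact (ConcreteCategory.isIso_iff_bijective (((O i).res₀.map f).hom.app (op W'))).1 inferInstance
  have hinj : Sheaf.IsLocallyInjective f := ⟨fun {X} e e' he => by
    obtain ⟨U⟩ := X
    intro y hy
    obtain ⟨W, hW, hyW, hb⟩ := hs U y hy
    refine ⟨W, homOfLE hW, ?_, hyW⟩
    show A.obj.map (homOfLE hW).op e = A.obj.map (homOfLE hW).op e'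
    refine hb.1 ?_
    rw [NatTrans.naturality_apply, NatTrans.naturality_apply, he]⟩
  have hsurj : Sheaf.IsLocallySurjective f := ⟨fun {U} z => by
    intro y hy
    obtain ⟨W, hW, hyW, hb⟩ := hs U y hy
    exact ⟨W, homOfLE hW, hb.2 (B.obj.map (homOfLE hW).op z), hyW⟩⟩
  exact (Sheaf.isLocallyBijective_iff_isIso _).1 ⟨hinj, hsurj⟩

/-- A map of complexes on the base is a quasi-isomorphism if it is one after restriction to an open covering. -/
theorem quasiIso_of_res₀ {ι : Type u} {Ys : ι → (WithInitial D)ᵒᵖ ⥤ TopCat.{u}} (O : ∀ i, OpenRestr (Ys i) Y)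
    (hcov : ∀ s : Y.obj (bot D), ∃ i, s ∈ (O i).V) [∀ i, (O i).res₀.Additive] [∀ i, (O i).res₀.PreservesHomology]
    {K L : CochainComplex (BAb Y) ℤ} (u : K ⟶ L)
    (h : ∀ i, QuasiIso (((O i).res₀.mapHomologicalComplex (ComplexShape.up ℤ)).map u)) : QuasiIso u where
  quasiIsoAt n := by
    rw [quasiIsoAt_iff_isIso_homologyMap]
    refine isIso_of_res₀ O hcov _ fun i => ?_
    haveI h1 : IsIso (ShortComplex.homologyMap ((O i).res₀.mapShortComplex.map
        ((HomologicalComplex.shortComplexFunctor (BAb Y) (ComplexShape.up ℤ) n).map u))) :=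
      (quasiIsoAt_iff_isIso_homologyMap (((O i).res₀.mapHomologicalComplex (ComplexShape.up ℤ)).map u) n).1
        ((h i).quasiIsoAt n)
    let S₁ := (HomologicalComplex.shortComplexFunctor (BAb Y) (ComplexShape.up ℤ) n).obj K
    let S₂ := (HomologicalComplex.shortComplexFunctor (BAb Y) (ComplexShape.up ℤ) n).obj L
    show IsIso ((O i).res₀.map (ShortComplex.homologyMap
      ((HomologicalComplex.shortComplexFunctor (BAb Y) (ComplexShape.up ℤ) n).map u)))
    rw [show (O i).res₀.map (ShortComplex.homologyMap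
        ((HomologicalComplex.shortComplexFunctor (BAb Y) (ComplexShape.up ℤ) n).map u)) =
      (S₁.mapHomologyIso (O i).res₀).inv ≫ ShortComplex.homologyMap ((O i).res₀.mapShortComplex.map
        ((HomologicalComplex.shortComplexFunctor (BAb Y) (ComplexShape.up ℤ) n).map u)) ≫
        (S₂.mapHomologyIso (O i).res₀).hom by
      rw [ShortComplex.mapHomologyIso_hom_naturality, Iso.inv_hom_id_assoc]]
    infer_instance

theorem OpenRestr.exact_res₀ {Y' : (WithInitial D)ᵒᵖ ⥤ TopCat.{u}} (O : OpenRestr Y' Y) :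
    PreservesFiniteLimits O.res₀ ∧ PreservesFiniteColimits O.res₀ :=
  preservesFinite_restriction O.k₀

theorem OpenRestr.exact_res {Y' : (WithInitial D)ᵒᵖ ⥤ TopCat.{u}} (O : OpenRestr Y' Y) :
    PreservesFiniteLimits O.res ∧ PreservesFiniteColimits O.res :=
  preservesFinite_restriction O.k

set_option maxHeartbeats 4000000 in
/-- Cohomological descent is local on the base. -/
theorem isCohDescentTop_of_openRestr {ι : Type u} {Ys : ι → (WithInitial D)ᵒᵖ ⥤ TopCat.{u}}
    (O : ∀ i, OpenRestr (Ys i) Y) (hcov : ∀ s : Y.obj (bot D), ∃ i, s ∈ (O i).V)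
    (h : ∀ i, FibDesc.IsCohDescentTop (Ys i)) : FibDesc.IsCohDescentTop Y := by
  haveI := preservesFiniteLimits_Tpull (Y := Y)
  haveI hP : (eps (topAug Y)).sheafPushforwardContinuous AddCommGrpCat.{u} ((topAugTop Y) (bot D))
      (totAug (topAug Y) (topAugTop Y)) |>.IsRightAdjoint := inferInstance
  refine ⟨inferInstance, hP, inferInstance, inferInstance, fun P => inferInstance,
    preservesFiniteLimits_Tpull, fun K L => ?_⟩
  letI : ∀ Z : (WithInitial D)ᵒᵖ ⥤ TopCat.{u}, HasDerivedCategory (BAb Z) := fun Z => HasDerivedCategory.standard _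
  letI : ∀ Z : (WithInitial D)ᵒᵖ ⥤ TopCat.{u}, HasDerivedCategory (DAb Z) := fun Z => HasDerivedCategory.standard _
  haveI : ∀ Z : (WithInitial D)ᵒᵖ ⥤ TopCat.{u}, PreservesFiniteLimits (Tpull Z) := fun Z =>
    preservesFiniteLimits_Tpull (Y := Z)
  haveI : ∀ Z : (WithInitial D)ᵒᵖ ⥤ TopCat.{u}, PreservesFiniteColimits (Tpull Z) := fun Z =>
    preservesFiniteColimits_Tpull (Y := Z)
  haveI : ∀ Z : (WithInitial D)ᵒᵖ ⥤ TopCat.{u}, (Tpull Z).Additive := fun Z => additive_of_exact _
  refine bijective_of_unitQuasiIso (Tadj Y) ?_ K L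
  intro I a hIge hI J b hJge hJ φ hφ
  haveI : ∀ i, PreservesFiniteLimits (O i).res₀ := fun i => (O i).exact_res₀.1
  haveI : ∀ i, PreservesFiniteColimits (O i).res₀ := fun i => (O i).exact_res₀.2
  haveI : ∀ i, PreservesFiniteLimits (O i).res := fun i => (O i).exact_res.1
  haveI : ∀ i, PreservesFiniteColimits (O i).res := fun i => (O i).exact_res.2
  haveI : ∀ i, (O i).res₀.Additive := fun i => additive_of_exact _
  haveI : ∀ i, (O i).res.Additive := fun i => additive_of_exact _
  refine quasiIso_of_res₀ O hcov _ fun i => ?_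
  have hu : UnitQuasiIso (Tadj (Ys i)) := by
    obtain ⟨_, _, _, _, _, _, hb⟩ := h i
    exact unitQuasiIso_of_bijective (Tadj (Ys i)) hb
  exact quasiIso_restr_transpose (Tadj Y) (Tadj (Ys i)) (O i).res₀ (O i).res (O i).C
    (fun f => (O i).C_natural f) (O i).isIso_C (O i).θ (fun f => (O i).θ_natural f) (O i).isIso_θ
    (fun ψ => (O i).transpose_res ψ) (fun A hA => haveI := hA; (O i).injective_res₀ A)
    (fun J' hJ' => haveI := hJ'; (O i).injective_res J') hu I a hIge hI J b hJge hJ φ hφ

end GrothLib.CohDesc25
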