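import Groth.Agent.Lib.CohDesc25.Cols
import Groth.Agent.Lib.CohDesc25.DerivedTwo
import Groth.Agent.Lib.CohDesc25.RestrLocal

/-!
# A map of families whose columns are of cohomological descent
-/

set_option autoImplicit false
set_option backward.isDefEq.respectTransparency false
set_option backward.isDefEq.respectTransparency.types false
set_option linter.unusedSectionVars false
set_option linter.style.haveILetI false
set_option maxHeartbeats 1000000

universe u

open CategoryTheory CategoryTheory.Limits Opposite Pseudofunctor Pseudofunctor.CoGrothendieck TopologicalSpace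

namespace GrothLib.CohDesc25

open FibDesc

variable {D₁ D₂ : Type} [SmallCategory D₁] [SmallCategory D₂]
  {pr : D₂ ⥤ D₁} {Y : (WithInitial D₁)ᵒᵖ ⥤ TopCat.{u}} (M : FamMap pr Y)
  {C : Type} [SmallCategory C] (L : ColData pr C)

theorem isIso_of_restr_spaces {E E' : DAb Y} (f : E ⟶ E')
    (h : ∀ n, IsIso ((M.colRes₀ L n).map f)) : IsIso f := by
  haveI : ∀ X, IsIso (f.hom.app X) := fun X => by
    obtain ⟨⟨⟨n⟩, U⟩⟩ := X
    haveI := h n
    exact inferInstanceAs (IsIso (((M.colRes₀ L n).map f).hom.app (op (U : Opens (Y.obj ((toAug D₁).obj (op n)))))))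
  haveI : IsIso f.hom := NatIso.isIso_of_isIso_app _
  haveI : IsIso ((sheafToPresheaf _ _).map f) := inferInstanceAs (IsIso f.hom)
  exact isIso_of_reflects_iso _ (sheafToPresheaf _ _)

theorem exact_colRes₀ (n : D₁) :
    PreservesFiniteLimits (M.colRes₀ L n) ∧ PreservesFiniteColimits (M.colRes₀ L n) :=
  haveI := GrothLib.FibSite.isCocontinuous_ι (isPreFibSite_part Y) (op n)
  preservesFinite_restriction _

theorem exact_colRes (n : D₁) :
    PreservesFiniteLimits (M.colRes L n) ∧ PreservesFiniteColimits (M.colRes L n) :=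
  preservesFinite_restriction _

section

variable [HasDerivedCategory.{max (u + 1) u} (DAb Y)] [HasDerivedCategory.{max (u + 1) u} (DAb M.Z)]
  [M.pullM.Additive] [PreservesFiniteLimits M.pullM] [PreservesFiniteColimits M.pullM]

set_option maxHeartbeats 4000000 in
/-- The inverse image along a map of families with columns of descent is fully faithful. -/
theorem bijective_pullM (h : ∀ n, FibDesc.IsCohDescentTop (M.Col L n)) (K K' : DerivedCategory.Plus (DAb Y)) :
    Function.Bijective fun g : K.obj ⟶ K'.obj => M.pullM.mapDerivedCategory.map g := by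
  haveI : M.pushM.Additive := M.adjM.right_adjoint_additive
  refine bijective_of_unitQuasiIso M.adjM ?_ K K'
  intro I a hIge hI J b hJge hJ φ hφ
  haveI : ∀ n, PreservesFiniteLimits (M.colRes₀ L n) := fun n => (exact_colRes₀ M L n).1
  haveI : ∀ n, PreservesFiniteColimits (M.colRes₀ L n) := fun n => (exact_colRes₀ M L n).2
  haveI : ∀ n, PreservesFiniteLimits (M.colRes L n) := fun n => (exact_colRes M L n).1
  haveI : ∀ n, PreservesFiniteColimits (M.colRes L n) := fun n => (exact_colRes M L n).2
  haveI : ∀ n, (M.colRes₀ L n).Additive := fun n => additive_of_exact _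
  haveI : ∀ n, (M.colRes L n).Additive := fun n => additive_of_exact _
  refine quasiIso_of_family (fun n => M.colRes₀ L n) (fun f hf => isIso_of_restr_spaces M L f hf) _ fun n => ?_
  letI := HasDerivedCategory.standard (BAb (M.Col L n))
  letI := HasDerivedCategory.standard (DAb (M.Col L n))
  haveI := preservesFiniteLimits_Tpull (Y := M.Col L n)
  haveI := preservesFiniteColimits_Tpull (Y := M.Col L n)
  haveI : (Tpull (M.Col L n)).Additive := additive_of_exact _
  have hu : UnitQuasiIso (Tadj (M.Col L n)) := by
    obtain ⟨_, _, _, _, _, _, hb⟩ := h n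
    exact unitQuasiIso_of_bijective (Tadj (M.Col L n)) hb
  exact quasiIso_restr_transpose M.adjM (Tadj (M.Col L n)) (M.colRes₀ L n) (M.colRes L n) (M.colC L n)
    (fun f => M.colC_natural L n f) (M.isIso_colC L n) (M.colθ L n) (fun f => M.colθ_natural L n f)
    (M.isIso_colθ L n) (fun ψ => M.transpose_colRes L n ψ) (fun A hA => haveI := hA; M.injective_colRes₀ L n A)
    (fun J' hJ' => haveI := hJ'; M.injective_colRes L n J') hu I a hIge hI J b hJge hJ φ hφ

end

/-- A family isomorphic to one of descent is of descent. -/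
theorem isCohDescentTop_of_openRestr_single {D : Type} [SmallCategory D] {Y' Y : (WithInitial D)ᵒᵖ ⥤ TopCat.{u}}
    (O : OpenRestr Y' Y) (hO : ∀ s, s ∈ O.V) (h : FibDesc.IsCohDescentTop Y') : FibDesc.IsCohDescentTop Y :=
  isCohDescentTop_of_openRestr (ι := PUnit.{u + 1}) (Ys := fun _ => Y') (fun _ => O)
    (fun s => ⟨PUnit.unit, hO s⟩) (fun _ => h)

end GrothLib.CohDesc25
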