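import Groth.Agent.Lib.CohDesc25.LocalTop
import Groth.Prelude.Def_FibDesc
import Mathlib.CategoryTheory.Sites.LeftExact

/-!
# The functors and transformations attached to an extra degeneracy
-/

set_option autoImplicit false
set_option backward.isDefEq.respectTransparency false
set_option backward.isDefEq.respectTransparency.types false
set_option linter.unusedSectionVars false
set_option maxHeartbeats 1000000

universe u

open CategoryTheory CategoryTheory.Limits Opposite Pseudofunctor Pseudofunctor.CoGrothendieck TopologicalSpace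

namespace GrothLib.CohDesc25

open FibDesc

variable {D : Type} [SmallCategory D] {Y : (WithInitial D)ᵒᵖ ⥤ TopCat.{u}}

instance instContinuousEps :
    (eps (topAug Y)).IsContinuous ((topAugTop Y) (bot D)) (totAug (topAug Y) (topAugTop Y)) := isContinuous_eps Y

instance instFlatEps : RepresentablyFlat (eps (topAug Y)) := flat_eps Y

instance instContinuousIncl :
    (incl (topAug Y)).IsContinuous (totPart (topAug Y) (topAugTop Y)) (totAug (topAug Y) (topAugTop Y)) :=
  isContinuous_incl Y

instance instContinuousι (j : Dᵒᵖ) :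
    (ι (part (topAug Y)) j).IsContinuous (partTop (topAug Y) (topAugTop Y) j) (totPart (topAug Y) (topAugTop Y)) :=
  GrothLib.FibSite.isContinuous_ι (isPreFibSite_part Y) j

variable (R : Retraction Y)

instance instContinuousU : R.u.IsContinuous R.shTot (totPart (topAug Y) (topAugTop Y)) := R.isContinuous_u
instance instContinuousVf : R.vf.IsContinuous R.shTot (totPart (topAug Y) (topAugTop Y)) := R.isContinuous_vf
instance instFlatVf : RepresentablyFlat R.vf := R.flat_vf
instance instContinuousV₀ : R.v₀.IsContinuous R.coTot (totPart (topAug Y) (topAugTop Y)) := R.isContinuous_v₀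
instance instFlatV₀ : RepresentablyFlat R.v₀ := R.flat_v₀
instance instContinuousPf :
    R.pf.IsContinuous R.coTot (Opens.grothendieckTopology (Y.obj ((toAug D).obj (op R.i₀)))) := R.isContinuous_pf

/-- Abelian sheaves on the total site of the part. -/
abbrev DAb (Y : (WithInitial D)ᵒᵖ ⥤ TopCat.{u}) := DSh (topAug Y) (topAugTop Y) AddCommGrpCat.{u}

/-- Abelian sheaves on the base. -/
abbrev BAb (Y : (WithInitial D)ᵒᵖ ⥤ TopCat.{u}) := BaseSh (topAug Y) (topAugTop Y) AddCommGrpCat.{u}

/-- The inverse image from the base. -/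
noncomputable abbrev Tpull (Y : (WithInitial D)ᵒᵖ ⥤ TopCat.{u}) : BAb Y ⥤ DAb Y :=
  pull (topAug Y) (topAugTop Y) AddCommGrpCat.{u}

namespace Retraction

/-- Restriction to degree zero. -/
noncomputable abbrev res₀ : DAb Y ⥤ Sheaf (Opens.grothendieckTopology (Y.obj ((toAug D).obj (op R.i₀)))) AddCommGrpCat.{u} :=
  (ι (part (topAug Y)) (op R.i₀)).sheafPushforwardContinuous AddCommGrpCat.{u}
    (Opens.grothendieckTopology (Y.obj ((toAug D).obj (op R.i₀)))) (totPart (topAug Y) (topAugTop Y))

/-- Inverse image along the section. -/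
noncomputable abbrev sPull :
    Sheaf (Opens.grothendieckTopology (Y.obj ((toAug D).obj (op R.i₀)))) AddCommGrpCat.{u} ⥤ BAb Y :=
  (Opens.map R.s).sheafPullback AddCommGrpCat.{u} (Opens.grothendieckTopology (Y.obj ((toAug D).obj (op R.i₀))))
    (Opens.grothendieckTopology (Y.obj (bot D)))

/-- The retraction. -/
noncomputable abbrev rFun : DAb Y ⥤ BAb Y := R.res₀ ⋙ R.sPull

/-- The shifted functor. -/
noncomputable abbrev ΦFun : DAb Y ⥤ DAb Y :=
  R.u.sheafPushforwardContinuous AddCommGrpCat.{u} R.shTot (totPart (topAug Y) (topAugTop Y)) ⋙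
    R.vf.sheafPullback AddCommGrpCat.{u} R.shTot (totPart (topAug Y) (topAugTop Y))

/-- Inverse image of a constant family. -/
noncomputable abbrev ΛFun :
    Sheaf (Opens.grothendieckTopology (Y.obj ((toAug D).obj (op R.i₀)))) AddCommGrpCat.{u} ⥤ DAb Y :=
  R.pf.sheafPushforwardContinuous AddCommGrpCat.{u} R.coTot
      (Opens.grothendieckTopology (Y.obj ((toAug D).obj (op R.i₀)))) ⋙
    R.v₀.sheafPullback AddCommGrpCat.{u} R.coTot (totPart (topAug Y) (topAugTop Y))

/-- Restriction along the added face, on sites. -/
noncomputable def wf : ∫ᶜ (part (topAug Y)) ⥤ ∫ᶜ R.shF where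
  obj X := R.sObj X.base ((Opens.map (Y.map ((toAug D).map (R.δ.app X.base.unop).op))).obj X.fiber)
  map {A B} g := R.sHom g.base (by
    intro z hz
    have h := le_of_pHom Y (g : pObj Y A.base A.fiber ⟶ pObj Y B.base B.fiber) hz
    show (Y.map ((toAug D).map (R.ψ.op.map g.base)) ≫ Y.map ((toAug D).map (R.δ.app B.base.unop).op)) z ∈
      (show Opens (Y.obj ((toAug D).obj B.base)) from B.fiber)
    rw [← Y.map_comp, ← Functor.map_comp,
      show R.ψ.op.map g.base ≫ (R.δ.app B.base.unop).op = (R.δ.app A.base.unop).op ≫ g.base from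
        Quiver.Hom.unop_inj (R.δ.naturality g.base.unop).symm, Functor.map_comp, Y.map_comp]
    exact h)
  map_id X := hom_ext_base R.thin_sh rfl
  map_comp f g := hom_ext_base R.thin_sh rfl

/-- The added face as a transformation. -/
noncomputable def τ : R.wf ⋙ R.u ⟶ 𝟭 (∫ᶜ (part (topAug Y))) where
  app X := pHom Y (j := R.ψ.op.obj X.base) (k := X.base)
    (U := (Opens.map (Y.map ((toAug D).map (R.δ.app X.base.unop).op))).obj X.fiber)
    (V := X.fiber) (R.δ.app X.base.unop).op le_rfl
  naturality A B g := pHom_ext Y (Quiver.Hom.unop_inj (R.δ.naturality g.base.unop).symm)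

/-- The extra degeneracy undoes the added face. -/
noncomputable def ρ : 𝟭 (∫ᶜ (part (topAug Y))) ⟶ R.wf ⋙ R.vf where
  app X := pHom Y (j := X.base) (k := X.base) (U := X.fiber)
    (V := (Opens.map (R.σ X.base)).obj ((Opens.map (Y.map ((toAug D).map (R.δ.app X.base.unop).op))).obj X.fiber))
    (𝟙 X.base) (fun z hz => by
      rw [CategoryTheory.Functor.map_id, CategoryTheory.Functor.map_id]
      show (R.σ X.base ≫ Y.map ((toAug D).map (R.δ.app X.base.unop).op)) z ∈
        (show Opens (Y.obj ((toAug D).obj X.base)) from X.fiber)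
      rw [R.σ_δ]
      exact hz)
  naturality A B g := pHom_ext Y ((Category.comp_id g.base).trans (Category.id_comp g.base).symm)

/-- The comparison with the shift. -/
noncomputable def ηNat : 𝟭 (DAb Y) ⟶ R.ΦFun where
  app E := ObjectProperty.homMk
    { app := fun X => E.obj.map (R.τ.app X.unop).op ≫
        ((R.vf.sheafAdjunctionContinuous AddCommGrpCat.{u} R.shTot (totPart (topAug Y) (topAugTop Y))).unit.app
          ((R.u.sheafPushforwardContinuous AddCommGrpCat.{u} R.shTot (totPart (topAug Y) (topAugTop Y))).obj E)).hom.app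
            (op (R.wf.obj X.unop)) ≫
        (R.ΦFun.obj E).obj.map (R.ρ.app X.unop).op
      naturality := fun X X' g => by
        let unit := ((R.vf.sheafAdjunctionContinuous AddCommGrpCat.{u} R.shTot (totPart (topAug Y) (topAugTop Y))).unit.app
          ((R.u.sheafPushforwardContinuous AddCommGrpCat.{u} R.shTot (totPart (topAug Y) (topAugTop Y))).obj E)).hom
        ext e
        have h1 : E.obj.map (R.τ.app X'.unop).op (E.obj.map g e) =
            E.obj.map (R.u.map (R.wf.map g.unop)).op (E.obj.map (R.τ.app X.unop).op e) := by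
          refine (Functor.map_comp_apply E.obj _ _ e).symm.trans (Eq.trans ?_ (Functor.map_comp_apply E.obj _ _ e))
          exact congrArg (fun t => E.obj.map t e)
            (congrArg Quiver.Hom.op (R.τ.naturality g.unop)).symm
        have h3 : ∀ z, (R.ΦFun.obj E).obj.map (R.ρ.app X'.unop).op
              ((R.ΦFun.obj E).obj.map (R.vf.map (R.wf.map g.unop)).op z) =
            (R.ΦFun.obj E).obj.map g ((R.ΦFun.obj E).obj.map (R.ρ.app X.unop).op z) := fun z => by
          refine (Functor.map_comp_apply (R.ΦFun.obj E).obj _ _ z).symm.trans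
            (Eq.trans ?_ (Functor.map_comp_apply (R.ΦFun.obj E).obj _ _ z))
          exact congrArg (fun t => (R.ΦFun.obj E).obj.map t z)
            (congrArg Quiver.Hom.op (R.ρ.naturality g.unop)).symm
        refine (congrArg (fun t => (R.ΦFun.obj E).obj.map (R.ρ.app X'.unop).op (unit.app (op (R.wf.obj X'.unop)) t)) h1).trans ?_
        refine (congrArg ((R.ΦFun.obj E).obj.map (R.ρ.app X'.unop).op)
          (NatTrans.naturality_apply unit (R.wf.map g.unop).op _)).trans ?_
        exact h3 _ }
  naturality E E' φ := by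
    ext X e
    let X₀ := X
    refine (congrArg (fun t => (R.ΦFun.obj E').obj.map (R.ρ.app X₀.unop).op
      (((R.vf.sheafAdjunctionContinuous AddCommGrpCat.{u} R.shTot (totPart (topAug Y) (topAugTop Y))).unit.app
        ((R.u.sheafPushforwardContinuous AddCommGrpCat.{u} R.shTot (totPart (topAug Y) (topAugTop Y))).obj E')).hom.app
          (op (R.wf.obj X₀.unop)) t))
      (NatTrans.naturality_apply φ.hom (R.τ.app X₀.unop).op e).symm).trans ?_
    refine (congrArg ((R.ΦFun.obj E').obj.map (R.ρ.app X₀.unop).op)
      (ConcreteCategory.congr_hom (NatTrans.congr_app (congrArg (fun t => t.hom)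
        ((R.vf.sheafAdjunctionContinuous AddCommGrpCat.{u} R.shTot (totPart (topAug Y) (topAugTop Y))).unit.naturality
          ((R.u.sheafPushforwardContinuous AddCommGrpCat.{u} R.shTot (totPart (topAug Y) (topAugTop Y))).map φ)))
        (op (R.wf.obj X₀.unop))) _)).trans ?_
    exact (NatTrans.naturality_apply (R.ΦFun.map φ).hom (R.ρ.app X₀.unop).op _).symm

/-- The vertex as a transformation. -/
noncomputable def τ₀ : R.yf ⋙ R.u ⟶ R.pf ⋙ ι (part (topAug Y)) (op R.i₀) where
  app X := pHom Y (j := R.ψ.op.obj X.base) (k := op R.i₀)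
    (U := (Opens.map (Y.map ((toAug D).map (R.v X.base.unop).op))).obj (R.cFib X))
    (V := R.cFib X) (R.v X.base.unop).op le_rfl
  naturality A B g := pHom_ext Y (by
    refine Eq.trans ?_ (Category.comp_id _).symm
    exact Quiver.Hom.unop_inj (R.v_nat g.base.unop))

/-- The comparison of the constant family with the shift, before transposing. -/
noncomputable def εNat₀ :
    R.res₀ ⋙ R.pf.sheafPushforwardContinuous AddCommGrpCat.{u} R.coTot
        (Opens.grothendieckTopology (Y.obj ((toAug D).obj (op R.i₀)))) ⟶
      R.ΦFun ⋙ R.v₀.sheafPushforwardContinuous AddCommGrpCat.{u} R.coTot (totPart (topAug Y) (topAugTop Y)) where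
  app E := ObjectProperty.homMk
    (Functor.whiskerRight (NatTrans.op R.τ₀) E.obj ≫
      Functor.whiskerLeft R.yf.op
        ((R.vf.sheafAdjunctionContinuous AddCommGrpCat.{u} R.shTot (totPart (topAug Y) (topAugTop Y))).unit.app
          ((R.u.sheafPushforwardContinuous AddCommGrpCat.{u} R.shTot (totPart (topAug Y) (topAugTop Y))).obj E)).hom)
  naturality E E' φ := by
    ext X e
    let X₀ := X
    refine (congrArg (fun t => ((R.vf.sheafAdjunctionContinuous AddCommGrpCat.{u} R.shTot (totPart (topAug Y) (topAugTop Y))).unit.app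
        ((R.u.sheafPushforwardContinuous AddCommGrpCat.{u} R.shTot (totPart (topAug Y) (topAugTop Y))).obj E')).hom.app
          (op (R.yf.obj X₀.unop)) t)
      (NatTrans.naturality_apply φ.hom (R.τ₀.app X₀.unop).op e).symm).trans ?_
    exact ConcreteCategory.congr_hom (NatTrans.congr_app (congrArg (fun t => t.hom)
        ((R.vf.sheafAdjunctionContinuous AddCommGrpCat.{u} R.shTot (totPart (topAug Y) (topAugTop Y))).unit.naturality
          ((R.u.sheafPushforwardContinuous AddCommGrpCat.{u} R.shTot (totPart (topAug Y) (topAugTop Y))).map φ)))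
        (op (R.yf.obj X₀.unop))) _

/-- The comparison of the constant family with the shift. -/
noncomputable def εNat : R.res₀ ⋙ R.ΛFun ⟶ R.ΦFun where
  app E := ((R.v₀.sheafAdjunctionContinuous AddCommGrpCat.{u} R.coTot (totPart (topAug Y) (topAugTop Y))).homEquiv _ _).symm
    (R.εNat₀.app E)
  naturality E E' φ := by
    let adj := R.v₀.sheafAdjunctionContinuous AddCommGrpCat.{u} R.coTot (totPart (topAug Y) (topAugTop Y))
    refine (adj.homEquiv_naturality_left_symm _ _).symm.trans ?_
    refine Eq.trans ?_ (adj.homEquiv_naturality_right_symm _ _)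
    exact congrArg _ (R.εNat₀.naturality φ)

/-- The open of the base under a degree-zero open. -/
abbrev sPre (W : Opens (Y.obj ((toAug D).obj (op R.i₀)))) : Opens (Y.obj (bot D)) := (Opens.map R.s).obj W

/-- The comparison of the constant family with the inverse image from the base, on sites. -/
noncomputable def τ₁ : R.v₀ ⋙ incl (topAug Y) ⟶ R.pf ⋙ Opens.map R.s ⋙ eps (topAug Y) where
  app X := aHom Y (S := (toAug D).obj X.base) (T := bot D)
    (U := (Opens.map (R.σ X.base)).obj ((Opens.map (Y.map ((toAug D).map (R.v X.base.unop).op))).obj (R.cFib X)))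
    (V := R.sPre (R.cFib X)) (toBot ((toAug D).obj X.base)) (fun z hz => by
      show (Y.map (toBot ((toAug D).obj X.base)) ≫ R.s) z ∈ R.cFib X
      rw [← R.σ_v]
      exact hz)
  naturality A B g := aHom_ext Y (toBot_unique _ _)

/-- The comparison of the constant family with the inverse image from the base, before transposing. -/
noncomputable def ΘNat₀ :
    R.pf.sheafPushforwardContinuous AddCommGrpCat.{u} R.coTot
        (Opens.grothendieckTopology (Y.obj ((toAug D).obj (op R.i₀)))) ⟶
      (R.sPull ⋙ Tpull Y) ⋙ R.v₀.sheafPushforwardContinuous AddCommGrpCat.{u} R.coTot (totPart (topAug Y) (topAugTop Y)) where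
  app G := ObjectProperty.homMk
    (Functor.whiskerLeft R.pf.op
        ((((Opens.map R.s).sheafAdjunctionContinuous AddCommGrpCat.{u}
            (Opens.grothendieckTopology (Y.obj ((toAug D).obj (op R.i₀))))
            (Opens.grothendieckTopology (Y.obj (bot D)))).unit.app G).hom ≫
          Functor.whiskerLeft (Opens.map R.s).op
            (((eps (topAug Y)).sheafAdjunctionContinuous AddCommGrpCat.{u} ((topAugTop Y) (bot D))
              (totAug (topAug Y) (topAugTop Y))).unit.app (R.sPull.obj G)).hom) ≫
      Functor.whiskerRight (NatTrans.op R.τ₁)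
        ((FibSite.extend (topAug Y) (topAugTop Y) AddCommGrpCat.{u} (bot D)).obj (R.sPull.obj G)).obj)
  naturality G G' φ := by
    ext X e
    let X₀ := X
    let adjs := (Opens.map R.s).sheafAdjunctionContinuous AddCommGrpCat.{u}
            (Opens.grothendieckTopology (Y.obj ((toAug D).obj (op R.i₀))))
            (Opens.grothendieckTopology (Y.obj (bot D)))
    let adje := (eps (topAug Y)).sheafAdjunctionContinuous AddCommGrpCat.{u} ((topAugTop Y) (bot D))
              (totAug (topAug Y) (topAugTop Y))
    refine (congrArg (fun t => ((FibSite.extend (topAug Y) (topAugTop Y) AddCommGrpCat.{u} (bot D)).obj (R.sPull.obj G')).obj.map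
        (R.τ₁.app X₀.unop).op ((adje.unit.app (R.sPull.obj G')).hom.app (op (R.sPre (R.cFib X₀.unop))) t))
      (ConcreteCategory.congr_hom (NatTrans.congr_app (congrArg (fun t => t.hom) (adjs.unit.naturality φ))
        (op (R.cFib X₀.unop))) e)).trans ?_
    refine (congrArg (((FibSite.extend (topAug Y) (topAugTop Y) AddCommGrpCat.{u} (bot D)).obj (R.sPull.obj G')).obj.map
        (R.τ₁.app X₀.unop).op)
      (ConcreteCategory.congr_hom (NatTrans.congr_app (congrArg (fun t => t.hom) (adje.unit.naturality (R.sPull.map φ)))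
        (op (R.sPre (R.cFib X₀.unop)))) _)).trans ?_
    exact (NatTrans.naturality_apply ((FibSite.extend (topAug Y) (topAugTop Y) AddCommGrpCat.{u} (bot D)).map (R.sPull.map φ)).hom
      (R.τ₁.app X₀.unop).op _).symm

/-- The comparison of the constant family with the inverse image from the base. -/
noncomputable def ΘNat : R.ΛFun ⟶ R.sPull ⋙ Tpull Y where
  app G := ((R.v₀.sheafAdjunctionContinuous AddCommGrpCat.{u} R.coTot (totPart (topAug Y) (topAugTop Y))).homEquiv _ _).symm
    (R.ΘNat₀.app G)
  naturality G G' φ := by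
    let adj := R.v₀.sheafAdjunctionContinuous AddCommGrpCat.{u} R.coTot (totPart (topAug Y) (topAugTop Y))
    refine (adj.homEquiv_naturality_left_symm _ _).symm.trans ?_
    refine Eq.trans ?_ (adj.homEquiv_naturality_right_symm _ _)
    exact congrArg _ (R.ΘNat₀.naturality φ)

/-- The degree-zero open over an open of the base. -/
abbrev bPre (V : Opens (Y.obj (bot D))) : Opens (Y.obj ((toAug D).obj (op R.i₀))) :=
  (Opens.map (Y.map (toBot ((toAug D).obj (op R.i₀))))).obj V

theorem le_sPre_bPre (V : Opens (Y.obj (bot D))) : V ≤ R.sPre (R.bPre V) := fun z hz => by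
  show (R.s ≫ Y.map (toBot ((toAug D).obj (op R.i₀)))) z ∈ V
  rw [R.s_aug]
  exact hz

/-- The lift to degree zero of an open of the base. -/
noncomputable def bHom (V : Opens (Y.obj (bot D))) :
    aObj Y ((toAug D).obj (op R.i₀)) (R.bPre V) ⟶ (eps (topAug Y)).obj V :=
  aHom Y (toBot _) le_rfl

/-- The value of the comparison of a sheaf on the base with the retraction of its inverse image. -/
noncomputable def βVal (A : BAb Y) (V : Opens (Y.obj (bot D))) :
    A.obj.obj (op V) ⟶ ((Tpull Y ⋙ R.rFun).obj A).obj.obj (op V) :=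
  (((eps (topAug Y)).sheafAdjunctionContinuous AddCommGrpCat.{u} ((topAugTop Y) (bot D))
      (totAug (topAug Y) (topAugTop Y))).unit.app A).hom.app (op V) ≫
    ((FibSite.extend (topAug Y) (topAugTop Y) AddCommGrpCat.{u} (bot D)).obj A).obj.map (R.bHom V).op ≫
    (((Opens.map R.s).sheafAdjunctionContinuous AddCommGrpCat.{u}
        (Opens.grothendieckTopology (Y.obj ((toAug D).obj (op R.i₀))))
        (Opens.grothendieckTopology (Y.obj (bot D)))).unit.app (R.res₀.obj ((Tpull Y).obj A))).hom.app (op (R.bPre V)) ≫
    (R.sPull.obj (R.res₀.obj ((Tpull Y).obj A))).obj.map (homOfLE (R.le_sPre_bPre V)).op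

end Retraction

end GrothLib.CohDesc25
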