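import Mathlib.CategoryTheory.Sites.Pullback
import Mathlib.CategoryTheory.Sites.CoverLifting
import Mathlib.CategoryTheory.Preadditive.Injective.Basic
import Mathlib.Algebra.Category.Grp.FilteredColimits
import Mathlib.Algebra.Category.Grp.AB
import Mathlib.CategoryTheory.Sites.Abelian
import Mathlib.CategoryTheory.Functor.KanExtension.Adjunction

/-!
# Extension by zero along a fully faithful functor whose image is downward closed
-/

set_option autoImplicit false

universe u

open CategoryTheory CategoryTheory.Limits Opposite

namespace GrothLib.CohDesc25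

variable {C D : Type u} [Category.{u} C] [Category.{u} D] (k : C ⥤ D) [k.Full] [k.Faithful]
  (h : ∀ (X : D) (U : C) (_ : X ⟶ k.obj U), ∃ U' : C, Nonempty (k.obj U' ≅ X))

include h in
/-- Extension by zero preserves monomorphisms of presheaves. -/
theorem preservesMonomorphisms_lan :
    Functor.PreservesMonomorphisms
      (k.op.lan : (Cᵒᵖ ⥤ AddCommGrpCat.{u}) ⥤ Dᵒᵖ ⥤ AddCommGrpCat.{u}) := by
  let L : (Cᵒᵖ ⥤ AddCommGrpCat.{u}) ⥤ Dᵒᵖ ⥤ AddCommGrpCat.{u} := k.op.lan
  refine ⟨fun {P Q} φ _ => ?_⟩
  haveI : ∀ X, Mono ((L.map φ).app X) := fun X => by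
    by_cases hX : ∃ U' : C, Nonempty (k.obj U' ≅ X.unop)
    · obtain ⟨U', ⟨e⟩⟩ := hX
      haveI hm : Mono ((L.map φ).app (op (k.obj U'))) := by
        have hn : φ.app (op U') ≫ ((k.op.lanUnit).app Q).app (op U') =
            ((k.op.lanUnit).app P).app (op U') ≫ (L.map φ).app (op (k.obj U')) :=
          NatTrans.congr_app ((k.op.lanUnit).naturality φ) (op U')
        rw [show (L.map φ).app (op (k.obj U')) = inv (((k.op.lanUnit).app P).app (op U')) ≫
          φ.app (op U') ≫ ((k.op.lanUnit).app Q).app (op U') by rw [hn, IsIso.inv_hom_id_assoc]]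
        infer_instance
      let f : op (k.obj U') ⟶ X := e.inv.op
      haveI : IsIso f := inferInstanceAs (IsIso e.inv.op)
      rw [show (L.map φ).app X = inv ((L.obj P).map f) ≫ (L.map φ).app (op (k.obj U')) ≫ (L.obj Q).map f by
        rw [← (L.map φ).naturality f, IsIso.inv_hom_id_assoc]]
      infer_instance
    · haveI : IsEmpty (CostructuredArrow k.op X) :=
        ⟨fun a => hX (h X.unop a.left.unop a.hom.unop)⟩
      have hz : IsZero ((L.obj P).obj X) := (IsZero.iff_id_eq_zero _).2
        ((k.op.isPointwiseLeftKanExtensionLeftKanExtensionUnit P X).hom_ext fun j => isEmptyElim j)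
      exact hz.mono _
  exact NatTrans.mono_of_mono_app _

variable {J : GrothendieckTopology C} {K : GrothendieckTopology D} [k.IsContinuous J K]

include h in
/-- Extension by zero preserves monomorphisms of sheaves. -/
theorem preservesMonomorphisms_pullback :
    Functor.PreservesMonomorphisms (k.sheafPullback AddCommGrpCat.{u} J K) := by
  haveI := preservesMonomorphisms_lan k h
  haveI : Functor.PreservesMonomorphisms (presheafToSheaf K AddCommGrpCat.{u}) := inferInstance
  haveI : Functor.PreservesMonomorphisms (sheafToPresheaf J AddCommGrpCat.{u}) := inferInstance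
  haveI : Functor.PreservesMonomorphisms (Functor.sheafPullbackConstruction.sheafPullback k AddCommGrpCat.{u} J K) :=
    Functor.preservesMonomorphisms_comp _ _
  exact Functor.preservesMonomorphisms.of_iso
    (Functor.sheafPullbackConstruction.sheafPullbackIso k AddCommGrpCat.{u} J K).symm

include h in
/-- Restriction preserves injective sheaves. -/
theorem injective_restriction (I : Sheaf K AddCommGrpCat.{u}) [Injective I] :
    Injective ((k.sheafPushforwardContinuous AddCommGrpCat.{u} J K).obj I) :=
  haveI := preservesMonomorphisms_pullback k h (J := J) (K := K)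
  Injective.injective_of_adjoint (k.sheafAdjunctionContinuous AddCommGrpCat.{u} J K) I

end GrothLib.CohDesc25
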