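import Groth.Agent.Lib.EtSite.GermUnit
import Mathlib.CategoryTheory.Sites.Point.Comap
import Mathlib.CategoryTheory.Sites.Pullback
import Mathlib.Algebra.Category.Grp.FilteredColimits
import Mathlib.Algebra.Category.Grp.Limits

/-!
# Sections of an inverse image near a point
-/

set_option autoImplicit false
set_option backward.isDefEq.respectTransparency.types false

universe u

open CategoryTheory CategoryTheory.Limits Opposite

namespace GrothLib.CohDesc25

variable {C D : Type u} [Category.{u} C] [Category.{u} D] {J : GrothendieckTopology C}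
  {K : GrothendieckTopology D} (Φ : GrothendieckTopology.Point.{u} K) (v : C ⥤ D)
  [RepresentablyFlat v] [v.IsContinuous J K] (G : Sheaf J AddCommGrpCat.{u})

/-- The unit on sections. -/
noncomputable abbrev unitSec (U : C) :
    G.obj.obj (op U) ⟶ ((v.sheafPullback AddCommGrpCat.{u} J K).obj G).obj.obj (op (v.obj U)) :=
  ((v.sheafAdjunctionContinuous AddCommGrpCat.{u} J K).unit.app G).hom.app (op U)

theorem unitSec_res {U U' : C} (c : U' ⟶ U) (g : G.obj.obj (op U)) :
    ((v.sheafPullback AddCommGrpCat.{u} J K).obj G).obj.map (v.map c).op (unitSec v G U g) =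
      unitSec (K := K) v G U' (G.obj.map c.op g) :=
  (NatTrans.naturality_apply ((v.sheafAdjunctionContinuous AddCommGrpCat.{u} J K).unit.app G).hom c.op g).symm

theorem initiallySmall_comap : InitiallySmall.{u} (v ⋙ Φ.fiber).Elements :=
  initiallySmall_of_essentiallySmall _

theorem cover_preserving : CoverPreserving J K v := CoverPreserving.of_isContinuous v J K

/-- Every section of an inverse image comes near a point from a section. -/
theorem exists_unitSec {X : D} (t : Φ.fiber.obj X)
    (z : ((v.sheafPullback AddCommGrpCat.{u} J K).obj G).obj.obj (op X)) :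
    ∃ (U : C) (g : G.obj.obj (op U)) (Y : D) (a : Y ⟶ X) (b : Y ⟶ v.obj U) (y : Φ.fiber.obj Y),
      Φ.fiber.map a y = t ∧
        ((v.sheafPullback AddCommGrpCat.{u} J K).obj G).obj.map a.op z =
          ((v.sheafPullback AddCommGrpCat.{u} J K).obj G).obj.map b.op (unitSec v G U g) := by
  haveI := initiallySmall_comap Φ v
  let hv := cover_preserving (J := J) (K := K) v
  let e := (Φ.sheafFiberComapIso v hv AddCommGrpCat.{u}).app G
  let P := ((v.sheafPullback AddCommGrpCat.{u} J K).obj G).obj
  obtain ⟨w, hw⟩ : ∃ w, e.hom w = Φ.toPresheafFiber X t P z :=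
    ⟨e.inv (Φ.toPresheafFiber X t P z), Iso.inv_hom_id_apply e _⟩
  obtain ⟨U, s, g, rfl⟩ := (Φ.comap v hv).toPresheafFiber_jointly_surjective (P := G.obj) w
  have h1 := (ConcreteCategory.congr_hom
    (GrothLib.EtSite.toPresheafFiber_sheafFiberComapIso_hom Φ v hv (A := AddCommGrpCat.{u}) G U s) g)
  have h2 : Φ.toPresheafFiber (v.obj U) s P (unitSec v G U g) = Φ.toPresheafFiber X t P z :=
    h1.symm.trans hw
  let A : Φ.fiber.Elements := Functor.elementsMk Φ.fiber X t
  let B : Φ.fiber.Elements := Functor.elementsMk Φ.fiber (v.obj U) s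
  let Z := IsCofiltered.min A B
  let p := IsCofiltered.minToLeft A B
  let q := IsCofiltered.minToRight A B
  have h3 : Φ.toPresheafFiber Z.1 Z.2 P (P.map q.1.op (unitSec v G U g)) =
      Φ.toPresheafFiber Z.1 Z.2 P (P.map p.1.op z) := by
    refine (Φ.toPresheafFiber_w_apply q.1 Z.2 P _).trans ?_
    refine Eq.trans ?_ (Φ.toPresheafFiber_w_apply p.1 Z.2 P _).symm
    exact (congrArg (fun r => Φ.toPresheafFiber (v.obj U) r P (unitSec v G U g)) q.2).trans
      (h2.trans (congrArg (fun r => Φ.toPresheafFiber X r P z) p.2).symm)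
  obtain ⟨Y, f, y, hy, hf⟩ := (Φ.toPresheafFiber_eq_iff' Z.1 Z.2 _ _).1 h3
  refine ⟨U, g, Y, f ≫ p.1, f ≫ q.1, y, ?_, ?_⟩
  · rw [Functor.map_comp_apply, hy]
    exact p.2
  · rw [op_comp, op_comp]
    exact (Functor.map_comp_apply P _ _ z).trans
      (hf.symm.trans (Functor.map_comp_apply P _ _ _).symm)

/-- A section killed by the unit near a point is killed near the point. -/
theorem exists_res_eq_zero {U : C} (t : Φ.fiber.obj (v.obj U)) (g : G.obj.obj (op U))
    {Y : D} (b : Y ⟶ v.obj U) (y : Φ.fiber.obj Y) (hy : Φ.fiber.map b y = t)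
    (h : ((v.sheafPullback AddCommGrpCat.{u} J K).obj G).obj.map b.op (unitSec v G U g) = 0) :
    ∃ (U' : C) (c : U' ⟶ U) (t' : Φ.fiber.obj (v.obj U')),
      Φ.fiber.map (v.map c) t' = t ∧ G.obj.map c.op g = 0 := by
  haveI := initiallySmall_comap Φ v
  let hv := cover_preserving (J := J) (K := K) v
  let e := (Φ.sheafFiberComapIso v hv AddCommGrpCat.{u}).app G
  let P := ((v.sheafPullback AddCommGrpCat.{u} J K).obj G).obj
  have h0 : Φ.toPresheafFiber (v.obj U) t P (unitSec v G U g) = 0 := by
    subst hy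
    refine (Φ.toPresheafFiber_w_apply b y P _).symm.trans ?_
    exact (congrArg (Φ.toPresheafFiber Y y P) h).trans (map_zero _)
  have h1 := (ConcreteCategory.congr_hom
    (GrothLib.EtSite.toPresheafFiber_sheafFiberComapIso_hom Φ v hv (A := AddCommGrpCat.{u}) G U t) g)
  have h2 : e.hom ((Φ.comap v hv).toPresheafFiber U t G.obj g) = 0 := h1.trans h0
  have h3 : (Φ.comap v hv).toPresheafFiber U t G.obj g =
      (Φ.comap v hv).toPresheafFiber U t G.obj 0 := by
    rw [map_zero]
    have := congrArg e.inv h2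
    rw [map_zero, Iso.hom_inv_id_apply] at this
    exact this
  obtain ⟨U', c, t', ht', hc⟩ := ((Φ.comap v hv).toPresheafFiber_eq_iff' U t _ _).1 h3
  exact ⟨U', c, t', ht', hc.trans (map_zero _)⟩

end GrothLib.CohDesc25
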