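import Groth.Agent.Lib.CohDesc25.Retract
import Groth.Agent.Lib.CohDesc25.PullSec
import Mathlib.CategoryTheory.Sites.LocallyBijective
import Mathlib.Topology.Sheaves.Points

/-!
# Local description of sections of the inverse images
-/

set_option autoImplicit false
set_option backward.isDefEq.respectTransparency false
set_option backward.isDefEq.respectTransparency.types false
set_option linter.unusedSectionVars false

universe u

open CategoryTheory CategoryTheory.Limits Opposite Pseudofunctor Pseudofunctor.CoGrothendieck TopologicalSpace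

namespace GrothLib.CohDesc25

open FibDesc

/-- Instances of the generic statement. -/
noncomputable abbrev atHom {C D : Type u} [Category.{u} C] [Category.{u} D] {J : GrothendieckTopology C}
    (K : GrothendieckTopology D) (v : C ⥤ D) [v.IsContinuous J K] (G : Sheaf J AddCommGrpCat.{u})
    {U : C} {X : D} (b : X ⟶ v.obj U) :
    G.obj.obj (op U) →+ ((v.sheafPullback AddCommGrpCat.{u} J K).obj G).obj.obj (op X) :=
  (((v.sheafPullback AddCommGrpCat.{u} J K).obj G).obj.map b.op).hom.comp (unitSec (K := K) v G U).hom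

section

variable {C D : Type u} [Category.{u} C] [Category.{u} D] {J : GrothendieckTopology C}
  {K : GrothendieckTopology D} (v : C ⥤ D) [v.IsContinuous J K] (G : Sheaf J AddCommGrpCat.{u})

theorem map_atHom {U : C} {X X' : D} (a : X' ⟶ X) (b : X ⟶ v.obj U) (g : G.obj.obj (op U)) :
    ((v.sheafPullback AddCommGrpCat.{u} J K).obj G).obj.map a.op (atHom K v G b g) =
      atHom K v G (a ≫ b) g := by
  change ((v.sheafPullback AddCommGrpCat.{u} J K).obj G).obj.map a.op
    (((v.sheafPullback AddCommGrpCat.{u} J K).obj G).obj.map b.op (unitSec v G U g)) =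
      ((v.sheafPullback AddCommGrpCat.{u} J K).obj G).obj.map (a ≫ b).op (unitSec v G U g)
  rw [op_comp, Functor.map_comp_apply]

theorem atHom_res [RepresentablyFlat v] {U U' : C} {X : D} (c : U' ⟶ U) (b : X ⟶ v.obj U') (g : G.obj.obj (op U)) :
    atHom K v G b (G.obj.map c.op g) = atHom K v G (b ≫ v.map c) g := by
  rw [← map_atHom (K := K) v G b (v.map c)]
  exact congrArg (((v.sheafPullback AddCommGrpCat.{u} J K).obj G).obj.map b.op)
    (unitSec_res (K := K) v G c g).symm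

theorem app_atHom {G' : Sheaf J AddCommGrpCat.{u}} (φ : G ⟶ G') {U : C} {X : D} (b : X ⟶ v.obj U)
    (g : G.obj.obj (op U)) :
    ((v.sheafPullback AddCommGrpCat.{u} J K).map φ).hom.app (op X) (atHom K v G b g) =
      atHom K v G' b (φ.hom.app (op U) g) := by
  refine (NatTrans.naturality_apply ((v.sheafPullback AddCommGrpCat.{u} J K).map φ).hom b.op _).trans ?_
  refine congrArg (((v.sheafPullback AddCommGrpCat.{u} J K).obj G').obj.map b.op) ?_
  exact (ConcreteCategory.congr_hom (NatTrans.congr_app (congrArg (fun t => t.hom)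
    ((v.sheafAdjunctionContinuous AddCommGrpCat.{u} J K).unit.naturality φ)) (op U)) g).symm

/-- The value of an adjoint map on a section coming from a section. -/
theorem homEquiv_symm_atHom {H : Sheaf K AddCommGrpCat.{u}}
    (φ : G ⟶ (v.sheafPushforwardContinuous AddCommGrpCat.{u} J K).obj H) {U : C} {X : D}
    (b : X ⟶ v.obj U) (g : G.obj.obj (op U)) :
    (((v.sheafAdjunctionContinuous AddCommGrpCat.{u} J K).homEquiv G H).symm φ).hom.app (op X) (atHom K v G b g) =
      H.obj.map b.op (φ.hom.app (op U) g) := by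
  let adj := v.sheafAdjunctionContinuous AddCommGrpCat.{u} J K
  refine (NatTrans.naturality_apply ((adj.homEquiv G H).symm φ).hom b.op _).trans ?_
  refine congrArg (H.obj.map b.op) ?_
  have h : adj.unit.app G ≫ (v.sheafPushforwardContinuous AddCommGrpCat.{u} J K).map ((adj.homEquiv G H).symm φ) = φ :=
    (adj.homEquiv_unit _ _ _).symm.trans (Equiv.apply_symm_apply _ _)
  exact ConcreteCategory.congr_hom (NatTrans.congr_app (congrArg (fun t => t.hom) h) (op U)) g

end

variable {D : Type} [SmallCategory D] {Y : (WithInitial D)ᵒᵖ ⥤ TopCat.{u}}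

/-- Restriction in the total site of the part. -/
noncomputable def pInc {j : Dᵒᵖ} {W U : Opens (Y.obj ((toAug D).obj j))} (h : W ≤ U) : pObj Y j W ⟶ pObj Y j U :=
  (ι (part (topAug Y)) j).map (homOfLE h : W ⟶ U)

theorem pInc_base {j : Dᵒᵖ} {W U : Opens (Y.obj ((toAug D).obj j))} (h : W ≤ U) :
    (pInc h).base = 𝟙 j := rfl

/-- Restriction in the augmented total site. -/
noncomputable def aInc {S : (WithInitial D)ᵒᵖ} {W U : Opens (Y.obj S)} (h : W ≤ U) : aObj Y S W ⟶ aObj Y S U :=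
  (ι (topAug Y) S).map (homOfLE h : W ⟶ U)

theorem isIso_of_local {E E' : DSh (topAug Y) (topAugTop Y) AddCommGrpCat.{u}} (φ : E ⟶ E')
    (hs : ∀ (j : Dᵒᵖ) (U : Opens (Y.obj ((toAug D).obj j))) (z : E'.obj.obj (op (pObj Y j U))),
      ∀ x ∈ U, ∃ (W : Opens (Y.obj ((toAug D).obj j))) (h : W ≤ U) (_ : x ∈ W) (e : E.obj.obj (op (pObj Y j W))),
        φ.hom.app _ e = E'.obj.map (pInc h).op z)
    (hi : ∀ (j : Dᵒᵖ) (U : Opens (Y.obj ((toAug D).obj j))) (e : E.obj.obj (op (pObj Y j U))),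
      φ.hom.app _ e = 0 → ∀ x ∈ U, ∃ (W : Opens (Y.obj ((toAug D).obj j))) (h : W ≤ U) (_ : x ∈ W),
        E.obj.map (pInc h).op e = 0) :
    IsIso φ := by
  have hinj : Sheaf.IsLocallyInjective φ := ⟨fun {X} e e' he => by
    obtain ⟨⟨j, U⟩⟩ := X
    refine mem_totPart Y _ fun x hx => ?_
    obtain ⟨W, hW, hxW, h0⟩ := hi j U (e - e') (by rw [map_sub]; exact sub_eq_zero.2 he) x hx
    exact ⟨W, hxW, pInc hW, rfl, sub_eq_zero.1 ((map_sub _ _ _).symm.trans h0)⟩⟩
  have hsurj : Sheaf.IsLocallySurjective φ := ⟨fun {X} z => by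
    obtain ⟨j, U⟩ := X
    refine mem_totPart Y _ fun x hx => ?_
    obtain ⟨W, hW, hxW, e, he⟩ := hs j U z x hx
    exact ⟨W, hxW, pInc hW, rfl, ⟨e, he⟩⟩⟩
  exact (Sheaf.isLocallyBijective_iff_isIso φ).1 ⟨hinj, hsurj⟩

section Ext

variable (A : BaseSh (topAug Y) (topAugTop Y) AddCommGrpCat.{u})
  [(eps (topAug Y)).IsContinuous ((topAugTop Y) (bot D)) (totAug (topAug Y) (topAugTop Y))]
  [RepresentablyFlat (eps (topAug Y))]

theorem local_gen {S : (WithInitial D)ᵒᵖ} {U : Opens (Y.obj S)}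
    (z : ((FibSite.extend (topAug Y) (topAugTop Y) AddCommGrpCat.{u} (bot D)).obj A).obj.obj (op (aObj Y S U)))
    (x : Y.obj S) (hx : x ∈ U) :
    ∃ (W : Opens (Y.obj S)) (h : W ≤ U) (_ : x ∈ W) (V : Opens (Y.obj (bot D)))
      (a : A.obj.obj (op V)) (b : aObj Y S W ⟶ (eps (topAug Y)).obj V),
      ((FibSite.extend (topAug Y) (topAugTop Y) AddCommGrpCat.{u} (bot D)).obj A).obj.map (aInc h).op z =
        atHom (totAug (topAug Y) (topAugTop Y)) (eps (topAug Y)) A b a := by
  let Φ := (augPt Y S x).point (thin_aug Y) (isPreFibSite_aug Y)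
  obtain ⟨V, a, Z, c, b, y, hy, he⟩ := exists_unitSec (J := (topAugTop Y) (bot D)) Φ (eps (topAug Y)) A
    ((augPt Y S x).at (U := U) hx) z
  obtain ⟨W, hxW, κ, k, hk⟩ := (augPt Y S x).exists_refine (thin_aug Y) hx c y hy
  refine ⟨W, le_of_hom (X := Y.obj S) κ, hxW, V, a, k ≫ b, ?_⟩
  refine Eq.trans ?_ (map_atHom (K := totAug (topAug Y) (topAugTop Y)) (eps (topAug Y)) A k b a)
  refine Eq.trans ?_ (congrArg _ he)
  refine Eq.trans ?_ (Functor.map_comp_apply _ _ _ _)
  rw [← op_comp]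
  refine congrArg (fun t => ((FibSite.extend (topAug Y) (topAugTop Y) AddCommGrpCat.{u} (bot D)).obj A).obj.map (Quiver.Hom.op t) z) ?_
  exact Eq.trans (aHom_ext Y rfl) hk.symm

theorem local_gen_zero {S : (WithInitial D)ᵒᵖ} {W : Opens (Y.obj S)} {V : Opens (Y.obj (bot D))}
    (a : A.obj.obj (op V)) (b : aObj Y S W ⟶ (eps (topAug Y)).obj V) (h : atHom (totAug (topAug Y) (topAugTop Y)) (eps (topAug Y)) A b a = 0)
    (x : Y.obj S) (hx : x ∈ W) :
    ∃ (V' : Opens (Y.obj (bot D))) (hV : V' ≤ V) (_ : Y.map (toBot S) x ∈ V'),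
      A.obj.map (homOfLE hV).op a = 0 := by
  let Φ := (augPt Y S x).point (thin_aug Y) (isPreFibSite_aug Y)
  obtain ⟨V', c, t', -, h0⟩ := exists_res_eq_zero (J := (topAugTop Y) (bot D)) Φ (eps (topAug Y)) A
    (Φ.fiber.map b ((augPt Y S x).at hx)) a b ((augPt Y S x).at hx) rfl h
  obtain ⟨U', hU', g, hg⟩ := t'.down.2
  refine ⟨V', le_of_hom (X := Y.obj (bot D)) c, ?_, ?_⟩
  · have h1 := le_of_aHom Y (g : aObj Y S U' ⟶ aObj Y (bot D) V') hU'
    rw [toBot_unique g.base (toBot S)] at h1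
    exact h1
  · refine Eq.trans ?_ h0
    exact congrArg (fun t => A.obj.map (Quiver.Hom.op t) a) (Subsingleton.elim (α := V' ⟶ V) _ _)

end Ext

variable (R : Retraction Y)

section Vf

variable (G : Sheaf R.shTot AddCommGrpCat.{u}) [R.vf.IsContinuous R.shTot (totPart (topAug Y) (topAugTop Y))]
  [RepresentablyFlat R.vf]

theorem Retraction.local_vf {j : Dᵒᵖ} {U : Opens (Y.obj ((toAug D).obj j))}
    (z : ((R.vf.sheafPullback AddCommGrpCat.{u} R.shTot (totPart (topAug Y) (topAugTop Y))).obj G).obj.obj (op (pObj Y j U)))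
    (x : Y.obj ((toAug D).obj j)) (hx : x ∈ U) :
    ∃ (W : Opens (Y.obj ((toAug D).obj j))) (h : W ≤ U) (_ : x ∈ W)
      (W' : Opens (Y.obj ((toAug D).obj (R.ψ.op.obj j)))) (g : G.obj.obj (op (R.sObj j W')))
      (b : pObj Y j W ⟶ R.vf.obj (R.sObj j W')), b.base = 𝟙 j ∧
      ((R.vf.sheafPullback AddCommGrpCat.{u} R.shTot (totPart (topAug Y) (topAugTop Y))).obj G).obj.map (pInc h).op z =
        atHom (totPart (topAug Y) (topAugTop Y)) R.vf G b g := by
  let Φ := (partPt Y j x).point (thin_part Y) (isPreFibSite_part Y)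
  obtain ⟨X, g, Z, c, b, y, hy, he⟩ := exists_unitSec (J := R.shTot) Φ R.vf G ((partPt Y j x).at (U := U) hx) z
  obtain ⟨W₀, hxW, κ, k, hk⟩ := (partPt Y j x).exists_refine (thin_part Y) hx c y hy
  let W : Opens (Y.obj ((toAug D).obj j)) := W₀
  let b' : pObj Y j W ⟶ pObj Y X.base ((Opens.map (R.σ X.base)).obj (R.sFib X)) := k ≫ b
  let θ : j ⟶ X.base := b'.base
  let W' : Opens (Y.obj ((toAug D).obj (R.ψ.op.obj j))) :=
    (Opens.map (Y.map ((toAug D).map (R.ψ.op.map θ)))).obj (R.sFib X)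
  let c' : R.sObj j W' ⟶ X := R.sHom θ (fun _ h => h)
  have hW : W ≤ (Opens.map (Y.map ((toAug D).map (𝟙 j)))).obj ((Opens.map (R.σ j)).obj W') := by
    intro w hw
    rw [CategoryTheory.Functor.map_id, CategoryTheory.Functor.map_id]
    have h1 : (Y.map ((toAug D).map θ) ≫ R.σ X.base) w ∈ R.sFib X := le_of_pHom Y b' hw
    rw [R.σ_nat] at h1
    exact h1
  refine ⟨W, le_of_hom (X := Y.obj ((toAug D).obj j)) κ, hxW, W', G.obj.map c'.op g,
    pHom Y (𝟙 j) hW, rfl, ?_⟩
  refine Eq.trans ?_ (atHom_res (K := totPart (topAug Y) (topAugTop Y)) R.vf G c' _ g).symm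
  refine Eq.trans ?_ (congrArg (fun t => atHom (totPart (topAug Y) (topAugTop Y)) R.vf G t g) (pHom_ext Y (g := k ≫ b) ?_))
  · refine Eq.trans ?_ (map_atHom (K := totPart (topAug Y) (topAugTop Y)) R.vf G k b g)
    refine Eq.trans ?_ (congrArg _ he)
    refine Eq.trans ?_ (Functor.map_comp_apply _ _ _ _)
    rw [← op_comp]
    refine congrArg (fun t => ((R.vf.sheafPullback AddCommGrpCat.{u} R.shTot (totPart (topAug Y) (topAugTop Y))).obj G).obj.map (Quiver.Hom.op t) z) ?_
    exact Eq.trans (pHom_ext Y rfl) hk.symm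
  · exact (Category.id_comp θ).symm

theorem Retraction.local_vf_zero {j : Dᵒᵖ} {W : Opens (Y.obj ((toAug D).obj j))}
    {W' : Opens (Y.obj ((toAug D).obj (R.ψ.op.obj j)))} (g : G.obj.obj (op (R.sObj j W')))
    (b : pObj Y j W ⟶ R.vf.obj (R.sObj j W')) (hb : b.base = 𝟙 j) (h : atHom (totPart (topAug Y) (topAugTop Y)) R.vf G b g = 0)
    (x : Y.obj ((toAug D).obj j)) (hx : x ∈ W) :
    ∃ (W'' : Opens (Y.obj ((toAug D).obj (R.ψ.op.obj j)))) (_ : R.σ j x ∈ W'') (c : R.sObj j W'' ⟶ R.sObj j W'),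
      c.base = 𝟙 j ∧ G.obj.map c.op g = 0 := by
  let Φ := (partPt Y j x).point (thin_part Y) (isPreFibSite_part Y)
  obtain ⟨X, c, t', ht', h0⟩ := exists_res_eq_zero (J := R.shTot) Φ R.vf G
    (Φ.fiber.map b ((partPt Y j x).at hx)) g b ((partPt Y j x).at hx) rfl h
  obtain ⟨U', hU', k, hk⟩ := t'.down.2
  let θ : j ⟶ X.base := t'.down.1
  have hθ : θ ≫ c.base = 𝟙 j :=
    (congrArg (fun t => t.down.1) ht').trans ((Category.id_comp _).trans hb)
  let W'' : Opens (Y.obj ((toAug D).obj (R.ψ.op.obj j))) :=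
    (Opens.map (Y.map ((toAug D).map (R.ψ.op.map θ)))).obj (R.sFib X)
  let d : R.sObj j W'' ⟶ X := R.sHom θ (fun _ h => h)
  refine ⟨W'', ?_, d ≫ c, hθ, ?_⟩
  · have h1 := le_of_pHom Y (k : pObj Y j U' ⟶ pObj Y X.base ((Opens.map (R.σ X.base)).obj (R.sFib X))) hU'
    rw [show k.base = θ from hk] at h1
    have h2 : (Y.map ((toAug D).map θ) ≫ R.σ X.base) x ∈ R.sFib X := h1
    rw [R.σ_nat] at h2
    exact h2
  · rw [op_comp, Functor.map_comp_apply, h0, map_zero]

end Vf

end GrothLib.CohDesc25
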