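import Groth.Agent.Lib.CohDesc25.Local

/-!
# Local sections of inverse images along maps of spaces, and along the vertex functor
-/

set_option autoImplicit false
set_option backward.isDefEq.respectTransparency false
set_option backward.isDefEq.respectTransparency.types false
set_option linter.unusedSectionVars false

universe u

open CategoryTheory CategoryTheory.Limits Opposite Pseudofunctor Pseudofunctor.CoGrothendieck TopologicalSpace

namespace GrothLib.CohDesc25

section Top

variable {X X' : TopCat.{u}} (f : X ⟶ X') (G : Sheaf (Opens.grothendieckTopology X') AddCommGrpCat.{u})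

theorem local_map {U : Opens X}
    (z : (((Opens.map f).sheafPullback AddCommGrpCat.{u} (Opens.grothendieckTopology X')
      (Opens.grothendieckTopology X)).obj G).obj.obj (op U)) (x : X) (hx : x ∈ U) :
    ∃ (W : Opens X) (h : W ≤ U) (_ : x ∈ W) (V : Opens X') (g : G.obj.obj (op V))
      (b : W ⟶ (Opens.map f).obj V),
      (((Opens.map f).sheafPullback AddCommGrpCat.{u} (Opens.grothendieckTopology X')
        (Opens.grothendieckTopology X)).obj G).obj.map (homOfLE h).op z =
        atHom (Opens.grothendieckTopology X) (Opens.map f) G b g := by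
  obtain ⟨V, g, W, c, b, y, -, he⟩ := exists_unitSec (J := Opens.grothendieckTopology X')
    (K := Opens.grothendieckTopology X) (Opens.pointGrothendieckTopology x) (Opens.map f) G ⟨⟨hx⟩⟩ z
  exact ⟨W, le_of_hom c, y.down.down, V, g, b, he⟩

theorem local_map_zero {W : Opens X} {V : Opens X'} (g : G.obj.obj (op V)) (b : W ⟶ (Opens.map f).obj V)
    (h : atHom (Opens.grothendieckTopology X) (Opens.map f) G b g = 0) (x : X) (hx : x ∈ W) :
    ∃ (V' : Opens X') (hV : V' ≤ V) (_ : f x ∈ V'), G.obj.map (homOfLE hV).op g = 0 := by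
  obtain ⟨V', c, t', -, h0⟩ := exists_res_eq_zero (J := Opens.grothendieckTopology X')
    (K := Opens.grothendieckTopology X) (Opens.pointGrothendieckTopology x) (Opens.map f) G
    ((Opens.pointGrothendieckTopology x).fiber.map b ⟨⟨hx⟩⟩) g b ⟨⟨hx⟩⟩ rfl h
  exact ⟨V', le_of_hom c, t'.down.down, h0⟩

end Top

open FibDesc

variable {D : Type} [SmallCategory D] {Y : (WithInitial D)ᵒᵖ ⥤ TopCat.{u}} (R : Retraction Y)
  (G : Sheaf R.coTot AddCommGrpCat.{u}) [R.v₀.IsContinuous R.coTot (totPart (topAug Y) (topAugTop Y))]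
  [RepresentablyFlat R.v₀]

theorem Retraction.local_v₀ {j : Dᵒᵖ} {U : Opens (Y.obj ((toAug D).obj j))}
    (z : ((R.v₀.sheafPullback AddCommGrpCat.{u} R.coTot (totPart (topAug Y) (topAugTop Y))).obj G).obj.obj (op (pObj Y j U)))
    (x : Y.obj ((toAug D).obj j)) (hx : x ∈ U) :
    ∃ (W : Opens (Y.obj ((toAug D).obj j))) (h : W ≤ U) (_ : x ∈ W)
      (W' : Opens (Y.obj ((toAug D).obj (op R.i₀)))) (g : G.obj.obj (op (R.cObj j W')))
      (b : pObj Y j W ⟶ R.v₀.obj (R.cObj j W')), b.base = 𝟙 j ∧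
      ((R.v₀.sheafPullback AddCommGrpCat.{u} R.coTot (totPart (topAug Y) (topAugTop Y))).obj G).obj.map (pInc h).op z =
        atHom (totPart (topAug Y) (topAugTop Y)) R.v₀ G b g := by
  let Φ := (partPt Y j x).point (thin_part Y) (isPreFibSite_part Y)
  obtain ⟨X, g, Z, c, b, y, hy, he⟩ := exists_unitSec (J := R.coTot) Φ R.v₀ G ((partPt Y j x).at (U := U) hx) z
  obtain ⟨W₀, hxW, κ, k, hk⟩ := (partPt Y j x).exists_refine (thin_part Y) hx c y hy
  let W : Opens (Y.obj ((toAug D).obj j)) := W₀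
  let b' : pObj Y j W ⟶ pObj Y X.base
      ((Opens.map (R.σ X.base)).obj ((Opens.map (Y.map ((toAug D).map (R.v X.base.unop).op))).obj (R.cFib X))) := k ≫ b
  let θ : j ⟶ X.base := b'.base
  let c' : R.cObj j (R.cFib X) ⟶ X := R.cHom θ le_rfl
  have hW : W ≤ (Opens.map (Y.map ((toAug D).map (𝟙 j)))).obj
      ((Opens.map (R.σ j)).obj ((Opens.map (Y.map ((toAug D).map (R.v j.unop).op))).obj (R.cFib X))) := by
    intro w hw
    rw [CategoryTheory.Functor.map_id, CategoryTheory.Functor.map_id]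
    have h1 : (Y.map ((toAug D).map θ) ≫ R.σ X.base ≫ Y.map ((toAug D).map (R.v X.base.unop).op)) w ∈ R.cFib X :=
      le_of_pHom Y b' hw
    rw [← Category.assoc, R.σ_nat, Category.assoc, ← Y.map_comp, ← Functor.map_comp] at h1
    have h2 : (R.ψ.op.map θ ≫ (R.v X.base.unop).op) = (R.v j.unop).op :=
      Quiver.Hom.unop_inj (R.v_nat θ.unop)
    rw [h2] at h1
    exact h1
  refine ⟨W, le_of_hom (X := Y.obj ((toAug D).obj j)) κ, hxW, R.cFib X, G.obj.map c'.op g,
    pHom Y (𝟙 j) hW, rfl, ?_⟩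
  refine Eq.trans ?_ (atHom_res (K := totPart (topAug Y) (topAugTop Y)) R.v₀ G c' _ g).symm
  refine Eq.trans ?_ (congrArg (fun t => atHom (totPart (topAug Y) (topAugTop Y)) R.v₀ G t g) (pHom_ext Y (g := k ≫ b) ?_))
  · refine Eq.trans ?_ (map_atHom (K := totPart (topAug Y) (topAugTop Y)) R.v₀ G k b g)
    refine Eq.trans ?_ (congrArg _ he)
    refine Eq.trans ?_ (Functor.map_comp_apply _ _ _ _)
    rw [← op_comp]
    refine congrArg (fun t => ((R.v₀.sheafPullback AddCommGrpCat.{u} R.coTot (totPart (topAug Y) (topAugTop Y))).obj G).obj.map (Quiver.Hom.op t) z) ?_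
    exact Eq.trans (pHom_ext Y rfl) hk.symm
  · exact (Category.id_comp θ).symm

end GrothLib.CohDesc25
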