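import Groth.Agent.Lib.CohDesc25.Descent
import Groth.Agent.Lib.CohDesc25.LanZero
import Mathlib.Topology.Sheaves.SheafCondition.Sites

/-!
# Open restrictions of augmented families of spaces
-/

set_option autoImplicit false
set_option backward.isDefEq.respectTransparency false
set_option backward.isDefEq.respectTransparency.types false
set_option linter.unusedSectionVars false

universe u

open CategoryTheory CategoryTheory.Limits Opposite Pseudofunctor Pseudofunctor.CoGrothendieck TopologicalSpace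
open Topology

namespace GrothLib.CohDesc25

open FibDesc

variable {D : Type} [SmallCategory D] (Y' Y : (WithInitial D)ᵒᵖ ⥤ TopCat.{u})

/-- `Y'` is the restriction of the augmented family `Y` to an open subset of the base. -/
structure OpenRestr where
  κ : Y' ⟶ Y
  V : Opens (Y.obj (bot D))
  emb : ∀ x, IsOpenEmbedding (κ.app x)
  range : ∀ x, Set.range (κ.app x) = (Y.map (toBot x)) ⁻¹' (V : Set (Y.obj (bot D)))

variable {Y' Y} (O : OpenRestr Y' Y)

namespace OpenRestr

/-- The image of an open subset. -/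
def img {x : (WithInitial D)ᵒᵖ} (U : Opens (Y'.obj x)) : Opens (Y.obj x) := (O.emb x).functor.obj U

theorem κ_nat {x y : (WithInitial D)ᵒᵖ} (θ : x ⟶ y) (z : Y'.obj x) :
    O.κ.app y (Y'.map θ z) = Y.map θ (O.κ.app x z) :=
  ConcreteCategory.congr_hom (O.κ.naturality θ) z

theorem img_le_iff {x y : (WithInitial D)ᵒᵖ} (θ : x ⟶ y) (U : Opens (Y'.obj x)) (U₂ : Opens (Y'.obj y)) :
    O.img U ≤ (Opens.map (Y.map θ)).obj (O.img U₂) ↔ U ≤ (Opens.map (Y'.map θ)).obj U₂ := by
  constructor
  · intro h z hz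
    obtain ⟨w, hw, he⟩ := h ⟨z, hz, rfl⟩
    have h1 : w = Y'.map θ z := (O.emb y).injective (he.trans (O.κ_nat θ z).symm)
    show Y'.map θ z ∈ U₂
    exact h1 ▸ hw
  · rintro h _ ⟨z, hz, rfl⟩
    exact ⟨Y'.map θ z, h hz, O.κ_nat θ z⟩

theorem img_mono {x : (WithInitial D)ᵒᵖ} {U U₂ : Opens (Y'.obj x)} (h : U ≤ U₂) : O.img U ≤ O.img U₂ :=
  fun _ hz => Set.image_mono h hz

theorem mem_range_of_mem_img {x : (WithInitial D)ᵒᵖ} {U : Opens (Y'.obj x)} {z : Y.obj x} (hz : z ∈ O.img U) :
    Y.map (toBot x) z ∈ O.V := by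
  obtain ⟨w, -, rfl⟩ := hz
  have h : O.κ.app x w ∈ Set.range (O.κ.app x) := ⟨w, rfl⟩
  rw [O.range] at h
  exact h

theorem exists_eq {x : (WithInitial D)ᵒᵖ} {z : Y.obj x} (hz : Y.map (toBot x) z ∈ O.V) :
    ∃ w : Y'.obj x, O.κ.app x w = z := by
  have h : z ∈ Set.range (O.κ.app x) := by
    rw [O.range]
    exact hz
  exact h

/-- The preimage of an open subset. -/
def pre {x : (WithInitial D)ᵒᵖ} (W : Opens (Y.obj x)) : Opens (Y'.obj x) := (Opens.map (O.κ.app x)).obj W

theorem img_pre_le {x : (WithInitial D)ᵒᵖ} (W : Opens (Y.obj x)) : O.img (O.pre W) ≤ W := by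
  rintro _ ⟨z, hz, rfl⟩
  exact hz

theorem le_img_pre {x : (WithInitial D)ᵒᵖ} {W : Opens (Y.obj x)}
    (h : ∀ z ∈ W, Y.map (toBot x) z ∈ O.V) : W ≤ O.img (O.pre W) := fun z hz => by
  obtain ⟨w, rfl⟩ := O.exists_eq (h z hz)
  exact ⟨w, hz, rfl⟩

theorem pre_img {x : (WithInitial D)ᵒᵖ} (U : Opens (Y'.obj x)) : O.pre (O.img U) = U :=
  Opens.ext (Set.preimage_image_eq _ (O.emb x).injective)

/-- The functor of sites on the parts. -/
noncomputable def k : ∫ᶜ (part (topAug Y')) ⥤ ∫ᶜ (part (topAug Y)) where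
  obj X := pObj Y X.base (O.img X.fiber)
  map {A B} g := pHom Y g.base
    ((O.img_le_iff ((toAug D).map g.base) A.fiber B.fiber).2
      (le_of_pHom Y' (g : pObj Y' A.base A.fiber ⟶ pObj Y' B.base B.fiber)))
  map_id _ := pHom_ext Y rfl
  map_comp _ _ := pHom_ext Y rfl

/-- The functor of sites on the augmented families. -/
noncomputable def kA : ∫ᶜ (topAug Y') ⥤ ∫ᶜ (topAug Y) where
  obj X := aObj Y X.base (O.img X.fiber)
  map {A B} g := aHom Y g.base
    ((O.img_le_iff g.base A.fiber B.fiber).2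
      (le_of_aHom Y' (g : aObj Y' A.base A.fiber ⟶ aObj Y' B.base B.fiber)))
  map_id _ := aHom_ext Y rfl
  map_comp _ _ := aHom_ext Y rfl

/-- The functor of sites on the bases. -/
abbrev k₀ : Opens (Y'.obj (bot D)) ⥤ Opens (Y.obj (bot D)) := (O.emb (bot D)).functor

instance full_k : O.k.Full where
  map_surjective {A B} g := by
    refine ⟨pHom Y' (j := A.base) (k := B.base) (U := A.fiber) (V := B.fiber) g.base ?_, pHom_ext Y rfl⟩
    exact (O.img_le_iff ((toAug D).map g.base) A.fiber B.fiber).1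
      (le_of_pHom Y (g : pObj Y A.base (O.img A.fiber) ⟶ pObj Y B.base (O.img B.fiber)))

instance faithful_k : O.k.Faithful where
  map_injective {A B} g g' h := pHom_ext Y' (congrArg (fun t => t.base) h :)

theorem sieve_k (X : ∫ᶜ (part (topAug Y))) (U : ∫ᶜ (part (topAug Y'))) (g : X ⟶ O.k.obj U) :
    ∃ U' : ∫ᶜ (part (topAug Y')), Nonempty (O.k.obj U' ≅ X) := by
  obtain ⟨j, W₀⟩ := X
  let W : Opens (Y.obj ((toAug D).obj j)) := W₀
  let g' : pObj Y j W ⟶ pObj Y U.base (O.img U.fiber) := g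
  have hW : ∀ z ∈ W, Y.map (toBot ((toAug D).obj j)) z ∈ O.V := fun z hz => by
    have h1 := O.mem_range_of_mem_img (le_of_pHom Y g' hz)
    rw [toBot_unique (toBot ((toAug D).obj j)) ((toAug D).map g'.base ≫ toBot ((toAug D).obj U.base)), Y.map_comp]
    exact h1
  refine ⟨pObj Y' j (O.pre W), ⟨⟨pInc (O.img_pre_le W), pInc (O.le_img_pre hW), ?_, ?_⟩⟩⟩
  · exact pHom_ext Y (Category.id_comp _)
  · exact pHom_ext Y (Category.id_comp _)

theorem sieve_k₀ (X : Opens (Y.obj (bot D))) (U : Opens (Y'.obj (bot D))) (g : X ⟶ O.k₀.obj U) :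
    ∃ U' : Opens (Y'.obj (bot D)), Nonempty (O.k₀.obj U' ≅ X) :=
  ⟨O.pre X, ⟨eqToIso (le_antisymm (O.img_pre_le X)
    (fun z hz => by
      obtain ⟨w, hw, rfl⟩ := le_of_hom g hz
      exact ⟨w, hz, rfl⟩))⟩⟩

instance full_k₀ : O.k₀.Full :=
  haveI : Mono (O.κ.app (bot D)) := (TopCat.mono_iff_injective _).2 (O.emb _).injective
  IsOpenMap.functorFullOfMono _

instance continuous_k₀ :
    O.k₀.IsContinuous (Opens.grothendieckTopology (Y'.obj (bot D))) (Opens.grothendieckTopology (Y.obj (bot D))) :=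
  (O.emb _).functor_isContinuous

instance cocontinuous_k₀ :
    O.k₀.IsCocontinuous (Opens.grothendieckTopology (Y'.obj (bot D))) (Opens.grothendieckTopology (Y.obj (bot D))) where
  cover_lift {U T} hT := by
    intro z hz
    obtain ⟨W, a, ha, hzW⟩ := hT (O.κ.app (bot D) z) ⟨z, hz, rfl⟩
    have h1 : O.pre W ≤ U := fun w hw => by
      obtain ⟨w', hw', he⟩ := le_of_hom a hw
      exact (O.emb _).injective he ▸ hw'
    refine ⟨O.pre W, homOfLE h1, ?_, hzW⟩
    show T.arrows (O.k₀.map (homOfLE h1))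
    rw [show O.k₀.map (homOfLE h1) = homOfLE (O.img_pre_le W) ≫ a from Subsingleton.elim _ _]
    exact T.downward_closed ha _

theorem continuous_k : O.k.IsContinuous (totPart (topAug Y') (topAugTop Y')) (totPart (topAug Y) (topAugTop Y)) := by
  rw [GrothLib.FibSite.isContinuous_iff (isPreFibSite_part Y')]
  intro j
  haveI := GrothLib.FibSite.isContinuous_ι (isPreFibSite_part Y) j
  haveI := (O.emb ((toAug D).obj j)).functor_isContinuous
  haveI : ((O.emb ((toAug D).obj j)).functor ⋙ ι (part (topAug Y)) j).IsContinuous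
      (partTop (topAug Y') (topAugTop Y') j) (totPart (topAug Y) (topAugTop Y)) :=
    Functor.isContinuous_comp (O.emb ((toAug D).obj j)).functor (ι (part (topAug Y)) j)
      (Opens.grothendieckTopology _) (partTop (topAug Y) (topAugTop Y) j) _
  have e : (O.emb ((toAug D).obj j)).functor ⋙ ι (part (topAug Y)) j ≅ ι (part (topAug Y')) j ⋙ O.k :=
    NatIso.ofComponents (fun U => Iso.refl _) (fun {U V} g => by
      refine (Category.comp_id _).trans (Eq.trans ?_ (Category.id_comp _).symm)
      exact pHom_ext Y rfl)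
  exact Functor.isContinuous_of_iso e (partTop (topAug Y') (topAugTop Y') j) _

theorem continuous_kA : O.kA.IsContinuous (totAug (topAug Y') (topAugTop Y')) (totAug (topAug Y) (topAugTop Y)) := by
  rw [GrothLib.FibSite.isContinuous_iff (isPreFibSite_aug Y')]
  intro x
  haveI := GrothLib.FibSite.isContinuous_ι (isPreFibSite_aug Y) x
  haveI := (O.emb x).functor_isContinuous
  haveI : ((O.emb x).functor ⋙ ι (topAug Y) x).IsContinuous
      (topAugTop Y' x) (totAug (topAug Y) (topAugTop Y)) :=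
    Functor.isContinuous_comp (O.emb x).functor (ι (topAug Y) x)
      (Opens.grothendieckTopology _) (topAugTop Y x) _
  have e : (O.emb x).functor ⋙ ι (topAug Y) x ≅ ι (topAug Y') x ⋙ O.kA :=
    NatIso.ofComponents (fun U => Iso.refl _) (fun {U V} g => by
      refine (Category.comp_id _).trans (Eq.trans ?_ (Category.id_comp _).symm)
      exact aHom_ext Y rfl)
  exact Functor.isContinuous_of_iso e (topAugTop Y' x) _

theorem cocontinuous_k :
    O.k.IsCocontinuous (totPart (topAug Y') (topAugTop Y')) (totPart (topAug Y) (topAugTop Y)) where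
  cover_lift {X T} hT := by
    obtain ⟨j, U₀⟩ := X
    let U : Opens (Y'.obj ((toAug D).obj j)) := U₀
    obtain ⟨R, hR, hle⟩ := (GrothLib.FibSite.mem_totalTopology_iff (isPreFibSite_part Y) _ T).1 hT
    rw [Sieve.functor_galoisConnection] at hle
    refine mem_totPart Y' _ fun z hz => ?_
    obtain ⟨W, a, ha, hzW⟩ := hR (O.κ.app _ z) ⟨z, hz, rfl⟩
    have h1 : O.pre W ≤ U := fun w hw => by
      obtain ⟨w', hw', he⟩ := le_of_hom (X := Y.obj ((toAug D).obj j)) a hw
      exact (O.emb _).injective he ▸ hw'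
    refine ⟨O.pre W, hzW, pInc h1, rfl, ?_⟩
    show T.arrows (O.k.map (pInc h1))
    rw [pHom_ext Y (g := O.k.map (pInc h1)) (h := pInc (O.img_pre_le W) ≫ (ι (part (topAug Y)) j).map a)
      (Category.id_comp _).symm]
    exact T.downward_closed (hle _ ha) _

attribute [instance] continuous_k continuous_kA cocontinuous_k

/-- Restriction of sheaves on the total sites. -/
noncomputable abbrev res : DAb Y ⥤ DAb Y' :=
  O.k.sheafPushforwardContinuous AddCommGrpCat.{u} (totPart (topAug Y') (topAugTop Y')) (totPart (topAug Y) (topAugTop Y))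

/-- Restriction of sheaves on the bases. -/
noncomputable abbrev res₀ : BAb Y ⥤ BAb Y' :=
  O.k₀.sheafPushforwardContinuous AddCommGrpCat.{u} (Opens.grothendieckTopology (Y'.obj (bot D)))
    (Opens.grothendieckTopology (Y.obj (bot D)))

theorem injective_res (J : DAb Y) [Injective J] : Injective (O.res.obj J) :=
  injective_restriction O.k O.sieve_k J

theorem injective_res₀ (A : BAb Y) [Injective A] : Injective (O.res₀.obj A) :=
  injective_restriction O.k₀ O.sieve_k₀ A

end OpenRestr

end GrothLib.CohDesc25
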