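import Mathlib.CategoryTheory.Sites.CoverLifting
import Mathlib.CategoryTheory.Limits.ConcreteCategory.Basic
import Mathlib.Algebra.Category.Grp.Limits
import Mathlib.Algebra.Category.Grp.FilteredColimits

/-!
# Sections of a right Kan extension of abelian sheaves
-/

set_option autoImplicit false
set_option backward.isDefEq.respectTransparency false
set_option backward.isDefEq.respectTransparency.types false

universe u

open CategoryTheory CategoryTheory.Limits Opposite

namespace GrothLib.CohDesc25

variable {C D : Type u} [Category.{u} C] [Category.{u} D] {J : GrothendieckTopology C}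
  {K : GrothendieckTopology D} (m : C ⥤ D) [m.IsContinuous J K] [m.IsCocontinuous J K]

/-- A component of a section of the right Kan extension. -/
noncomputable abbrev rleg (F : Sheaf J AddCommGrpCat.{u}) {c : C} {d : D} (g : m.obj c ⟶ d) :
    ((m.sheafPushforwardCocontinuous AddCommGrpCat.{u} J K).obj F).obj.obj (op d) →+ F.obj.obj (op c) :=
  (((m.sheafAdjunctionCocontinuous AddCommGrpCat.{u} J K).counit.app F).hom.app (op c)).hom.comp
    (((m.sheafPushforwardCocontinuous AddCommGrpCat.{u} J K).obj F).obj.map g.op).hom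

variable (F : Sheaf J AddCommGrpCat.{u})

theorem rleg_res {c : C} {d d' : D} (g : m.obj c ⟶ d) (e : d ⟶ d')
    (x : ((m.sheafPushforwardCocontinuous AddCommGrpCat.{u} J K).obj F).obj.obj (op d')) :
    rleg m F g (((m.sheafPushforwardCocontinuous AddCommGrpCat.{u} J K).obj F).obj.map e.op x) =
      rleg m F (g ≫ e) x :=
  congrArg (((m.sheafAdjunctionCocontinuous AddCommGrpCat.{u} J K).counit.app F).hom.app (op c))
    (Functor.map_comp_apply _ e.op g.op x).symm

theorem map_rleg {c c' : C} {d : D} (t : c' ⟶ c) (g : m.obj c ⟶ d)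
    (x : ((m.sheafPushforwardCocontinuous AddCommGrpCat.{u} J K).obj F).obj.obj (op d)) :
    F.obj.map t.op (rleg m F g x) = rleg m F (m.map t ≫ g) x := by
  let R := (m.sheafPushforwardCocontinuous AddCommGrpCat.{u} J K).obj F
  refine (NatTrans.naturality_apply ((m.sheafAdjunctionCocontinuous AddCommGrpCat.{u} J K).counit.app F).hom t.op
    (R.obj.map g.op x)).symm.trans ?_
  refine congrArg (((m.sheafAdjunctionCocontinuous AddCommGrpCat.{u} J K).counit.app F).hom.app (op c')) ?_
  exact (Functor.map_comp_apply R.obj g.op (m.map t).op x).symm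

theorem app_rleg {F' : Sheaf J AddCommGrpCat.{u}} (φ : F ⟶ F') {c : C} {d : D} (g : m.obj c ⟶ d)
    (x : ((m.sheafPushforwardCocontinuous AddCommGrpCat.{u} J K).obj F).obj.obj (op d)) :
    φ.hom.app (op c) (rleg m F g x) =
      rleg m F' g (((m.sheafPushforwardCocontinuous AddCommGrpCat.{u} J K).map φ).hom.app (op d) x) := by
  let P := m.sheafPushforwardCocontinuous AddCommGrpCat.{u} J K
  refine (ConcreteCategory.congr_hom (NatTrans.congr_app (congrArg (fun t => t.hom)
    ((m.sheafAdjunctionCocontinuous AddCommGrpCat.{u} J K).counit.naturality φ)) (op c))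
      ((P.obj F).obj.map g.op x)).symm.trans ?_
  refine congrArg (((m.sheafAdjunctionCocontinuous AddCommGrpCat.{u} J K).counit.app F').hom.app (op c)) ?_
  exact NatTrans.naturality_apply (P.map φ).hom g.op x

/-- The components of an adjunct. -/
theorem rleg_homEquiv {G : Sheaf K AddCommGrpCat.{u}}
    (φ : (m.sheafPushforwardContinuous AddCommGrpCat.{u} J K).obj G ⟶ F) {c : C} {d : D} (g : m.obj c ⟶ d)
    (x : G.obj.obj (op d)) :
    rleg m F g (((m.sheafAdjunctionCocontinuous AddCommGrpCat.{u} J K).homEquiv G F φ).hom.app (op d) x) =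
      φ.hom.app (op c) (G.obj.map g.op x) := by
  let adj := m.sheafAdjunctionCocontinuous AddCommGrpCat.{u} J K
  let ψ := adj.homEquiv G F φ
  have h : (m.sheafPushforwardContinuous AddCommGrpCat.{u} J K).map ψ ≫ adj.counit.app F = φ :=
    (adj.homEquiv_counit _ _ _).symm.trans (Equiv.symm_apply_apply _ _)
  refine Eq.trans ?_ (ConcreteCategory.congr_hom (NatTrans.congr_app (congrArg (fun t => t.hom) h) (op c)) _)
  exact congrArg ((adj.counit.app F).hom.app (op c)) (NatTrans.naturality_apply ψ.hom g.op x).symm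

/-- The cone of components. -/
noncomputable abbrev rCone (d : D) :=
  (Functor.RightExtension.mk _ (m.op.ranCounit.app F.obj)).coneAt (op d)

theorem rCone_π {c : C} {d : D} (g : m.obj c ⟶ d)
    (x : ((m.sheafPushforwardCocontinuous AddCommGrpCat.{u} J K).obj F).obj.obj (op d)) :
    (rCone m F d).π.app (StructuredArrow.mk (Y := op c) g.op) x = rleg m F g x := by
  show _ = (((m.sheafAdjunctionCocontinuous AddCommGrpCat.{u} J K).counit.app F).hom.app (op c)) _
  rw [Functor.sheafAdjunctionCocontinuous_counit_app_hom, Functor.ranAdjunction_counit]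
  rfl

theorem rleg_ext {d : D} (x y : ((m.sheafPushforwardCocontinuous AddCommGrpCat.{u} J K).obj F).obj.obj (op d))
    (h : ∀ (c : C) (g : m.obj c ⟶ d), rleg m F g x = rleg m F g y) : x = y := by
  refine Concrete.isLimit_ext _ (m.op.isPointwiseRightKanExtensionRanCounit F.obj (op d)) x y fun g => ?_
  obtain ⟨⟨⟨⟩⟩, ⟨c⟩, f⟩ := g
  exact (rCone_π m F (c := c) f.unop x).trans ((h c f.unop).trans (rCone_π m F (c := c) f.unop y).symm)

theorem exists_of_rlegs {d : D} (v : ∀ (c : C), (m.obj c ⟶ d) → F.obj.obj (op c))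
    (hv : ∀ (c c' : C) (t : c' ⟶ c) (g : m.obj c ⟶ d), F.obj.map t.op (v c g) = v c' (m.map t ≫ g)) :
    ∃ x : ((m.sheafPushforwardCocontinuous AddCommGrpCat.{u} J K).obj F).obj.obj (op d),
      ∀ (c : C) (g : m.obj c ⟶ d), rleg m F g x = v c g := by
  let t := isLimitOfPreserves (forget AddCommGrpCat.{u}) (m.op.isPointwiseRightKanExtensionRanCounit F.obj (op d))
  let s : (StructuredArrow.proj (op d) m.op ⋙ F.obj ⋙ forget AddCommGrpCat.{u}).sections :=
    ⟨fun g => v g.right.unop g.hom.unop, fun {g g'} φ => by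
      refine (hv g.right.unop g'.right.unop φ.right.unop g.hom.unop).trans ?_
      exact congrArg (fun e => v g'.right.unop e) (congrArg Quiver.Hom.unop (StructuredArrow.w φ))⟩
  let x := (Types.isLimitEquivSections t).symm s
  refine ⟨x, fun c g => (rCone_π m F g x).symm.trans ?_⟩
  exact Types.isLimitEquivSections_symm_apply t s (StructuredArrow.mk (Y := op c) g.op)

end GrothLib.CohDesc25
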