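import Groth.Agent.Lib.CohDesc25.Criterion

/-!
# Restricting the descent criterion
-/

set_option autoImplicit false
set_option backward.isDefEq.respectTransparency false
set_option linter.unusedSectionVars false
set_option linter.style.haveILetI false

universe v₁ v₂ v₃ v₄ u₁ u₂ u₃ u₄

open CategoryTheory CategoryTheory.Category CategoryTheory.Limits

namespace GrothLib.CohDesc25

variable {B : Type u₁} [Category.{v₁} B] [Abelian B] {E : Type u₂} [Category.{v₂} E] [Abelian E]
  {B' : Type u₃} [Category.{v₃} B'] [Abelian B'] {E' : Type u₄} [Category.{v₄} E'] [Abelian E']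
  {T : B ⥤ E} {P : E ⥤ B} {T' : B' ⥤ E'} {P' : E' ⥤ B'}
  (adj : T ⊣ P) (adj' : T' ⊣ P') (r₀ : B ⥤ B') (r : E ⥤ E')
  [T.Additive] [P.Additive] [T'.Additive] [P'.Additive] [r₀.Additive] [r.Additive]
  [PreservesFiniteLimits r] [PreservesFiniteColimits r]

theorem quasiIso_restr_transpose
    (C : ∀ A, T'.obj (r₀.obj A) ⟶ r.obj (T.obj A))
    (C_nat : ∀ {A A' : B} (f : A ⟶ A'), T'.map (r₀.map f) ≫ C A' = C A ≫ r.map (T.map f))
    (C_iso : ∀ A, IsIso (C A))
    (θ : ∀ J, r₀.obj (P.obj J) ⟶ P'.obj (r.obj J))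
    (θ_nat : ∀ {J J' : E} (f : J ⟶ J'), r₀.map (P.map f) ≫ θ J' = θ J ≫ P'.map (r.map f))
    (θ_iso : ∀ J, IsIso (θ J))
    (compat : ∀ {A : B} {J : E} (φ : T.obj A ⟶ J),
      r₀.map (adj.homEquiv A J φ) ≫ θ J = adj'.homEquiv _ _ (C A ≫ r.map φ))
    (hr₀ : ∀ A : B, Injective A → Injective (r₀.obj A)) (hr : ∀ J : E, Injective J → Injective (r.obj J))
    (hu : UnitQuasiIso adj')
    (I : CochainComplex B ℤ) (a : ℤ) (hIge : I.IsStrictlyGE a) (hI : ∀ n, Injective (I.X n))
    (J : CochainComplex E ℤ) (b : ℤ) (hJge : J.IsStrictlyGE b) (hJ : ∀ n, Injective (J.X n))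
    (φ : (T.mapHomologicalComplex (ComplexShape.up ℤ)).obj I ⟶ J) (hφ : QuasiIso φ) :
    QuasiIso ((r₀.mapHomologicalComplex (ComplexShape.up ℤ)).map (transpose adj φ)) := by
  let I' := (r₀.mapHomologicalComplex (ComplexShape.up ℤ)).obj I
  let J' := (r.mapHomologicalComplex (ComplexShape.up ℤ)).obj J
  let cC : (T'.mapHomologicalComplex (ComplexShape.up ℤ)).obj I' ⟶
      (r.mapHomologicalComplex (ComplexShape.up ℤ)).obj ((T.mapHomologicalComplex (ComplexShape.up ℤ)).obj I) :=
    { f := fun n => C (I.X n)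
      comm' := fun m n _ => (C_nat (I.d m n)).symm }
  haveI : ∀ n, IsIso (cC.f n) := fun n => C_iso (I.X n)
  haveI : IsIso cC := HomologicalComplex.Hom.isIso_of_components _
  let φ' : (T'.mapHomologicalComplex (ComplexShape.up ℤ)).obj I' ⟶ J' :=
    cC ≫ (r.mapHomologicalComplex (ComplexShape.up ℤ)).map φ
  haveI hφ' : QuasiIso φ' := inferInstance
  haveI : QuasiIso (transpose adj' φ') := hu I' a inferInstance
    (fun n => hr₀ _ (hI n)) J' b inferInstance (fun n => hr _ (hJ n)) φ' hφ'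
  let cθ : (r₀.mapHomologicalComplex (ComplexShape.up ℤ)).obj ((P.mapHomologicalComplex (ComplexShape.up ℤ)).obj J) ⟶
      (P'.mapHomologicalComplex (ComplexShape.up ℤ)).obj J' :=
    { f := fun n => θ (J.X n)
      comm' := fun m n _ => (θ_nat (J.d m n)).symm }
  haveI : ∀ n, IsIso (cθ.f n) := fun n => θ_iso (J.X n)
  haveI : IsIso cθ := HomologicalComplex.Hom.isIso_of_components _
  have e : (r₀.mapHomologicalComplex (ComplexShape.up ℤ)).map (transpose adj φ) ≫ cθ = transpose adj' φ' := by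
    ext n : 1
    exact compat (φ.f n)
  have e' : (r₀.mapHomologicalComplex (ComplexShape.up ℤ)).map (transpose adj φ) = transpose adj' φ' ≫ inv cθ := by
    rw [← e, Category.assoc, IsIso.hom_inv_id, Category.comp_id]
  rw [e']
  infer_instance

end GrothLib.CohDesc25
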