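import Groth.Agent.Lib.CohDesc25.OpenRestr

/-!
# Inverse images commute with open restriction
-/

set_option autoImplicit false
set_option backward.isDefEq.respectTransparency false
set_option backward.isDefEq.respectTransparency.types false
set_option linter.unusedSectionVars false
set_option maxHeartbeats 1000000

universe u

open CategoryTheory CategoryTheory.Limits Opposite Pseudofunctor Pseudofunctor.CoGrothendieck TopologicalSpace

namespace GrothLib.CohDesc25

open FibDesc

variable {D : Type} [SmallCategory D] {Y' Y : (WithInitial D)ᵒᵖ ⥤ TopCat.{u}} (O : OpenRestr Y' Y)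

namespace OpenRestr

/-- Extension from the base. -/
noncomputable abbrev ext (Y : (WithInitial D)ᵒᵖ ⥤ TopCat.{u}) :
    BAb Y ⥤ Sheaf (totAug (topAug Y) (topAugTop Y)) AddCommGrpCat.{u} :=
  FibSite.extend (topAug Y) (topAugTop Y) AddCommGrpCat.{u} (bot D)

/-- Restriction on the augmented total sites. -/
noncomputable abbrev resA :
    Sheaf (totAug (topAug Y) (topAugTop Y)) AddCommGrpCat.{u} ⥤ Sheaf (totAug (topAug Y') (topAugTop Y')) AddCommGrpCat.{u} :=
  O.kA.sheafPushforwardContinuous AddCommGrpCat.{u} (totAug (topAug Y') (topAugTop Y')) (totAug (topAug Y) (topAugTop Y))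

/-- The unit, restricted. -/
noncomputable def C₀ (A : BAb Y) :
    O.res₀.obj A ⟶ ((eps (topAug Y')).sheafPushforwardContinuous AddCommGrpCat.{u} ((topAugTop Y') (bot D))
      (totAug (topAug Y') (topAugTop Y'))).obj (O.resA.obj ((ext Y).obj A)) :=
  O.res₀.map (((eps (topAug Y)).sheafAdjunctionContinuous AddCommGrpCat.{u} ((topAugTop Y) (bot D))
      (totAug (topAug Y) (topAugTop Y))).unit.app A) ≫
    ObjectProperty.homMk
      { app := fun U => ((ext Y).obj A).obj.map (aHom Y (S := bot D) (T := bot D) (𝟙 (bot D)) (by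
          intro z hz
          rw [CategoryTheory.Functor.map_id]
          exact hz) : O.kA.obj ((eps (topAug Y')).obj U.unop) ⟶ (eps (topAug Y)).obj (O.k₀.obj U.unop)).op
        naturality := fun U U' g => by
          refine (((ext Y).obj A).obj.map_comp _ _).symm.trans (Eq.trans ?_ (((ext Y).obj A).obj.map_comp _ _))
          exact congrArg (fun t => ((ext Y).obj A).obj.map t) (Quiver.Hom.unop_inj (aHom_ext Y (toBot_unique _ _))) }

/-- The comparison of extensions. -/
noncomputable def CA (A : BAb Y) : (ext Y').obj (O.res₀.obj A) ⟶ O.resA.obj ((ext Y).obj A) :=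
  (((eps (topAug Y')).sheafAdjunctionContinuous AddCommGrpCat.{u} ((topAugTop Y') (bot D))
      (totAug (topAug Y') (topAugTop Y'))).homEquiv _ _).symm (O.C₀ A)

/-- The two ways of viewing an object of the part inside the augmented family of `Y`. -/
noncomputable def kInclHom (X : ∫ᶜ (part (topAug Y'))) :
    (incl (topAug Y)).obj (O.k.obj X) ⟶ O.kA.obj ((incl (topAug Y')).obj X) :=
  aHom Y (S := (toAug D).obj X.base) (T := (toAug D).obj X.base) (𝟙 _) (by
    intro z hz
    rw [CategoryTheory.Functor.map_id]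
    exact hz)

/-- The comparison. -/
noncomputable def C (A : BAb Y) : (Tpull Y').obj (O.res₀.obj A) ⟶ O.res.obj ((Tpull Y).obj A) :=
  ((incl (topAug Y')).sheafPushforwardContinuous AddCommGrpCat.{u} (totPart (topAug Y') (topAugTop Y'))
      (totAug (topAug Y') (topAugTop Y'))).map (O.CA A) ≫
    ObjectProperty.homMk
      { app := fun X => ((ext Y).obj A).obj.map (O.kInclHom X.unop).op
        naturality := fun X X' g => by
          refine (((ext Y).obj A).obj.map_comp _ _).symm.trans (Eq.trans ?_ (((ext Y).obj A).obj.map_comp _ _))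
          exact congrArg (fun t => ((ext Y).obj A).obj.map t)
            (Quiver.Hom.unop_inj (aHom_ext Y ((Category.id_comp _).trans (Category.comp_id _).symm))) }

theorem CA_natural {A B : BAb Y} (φ : A ⟶ B) :
    (ext Y').map (O.res₀.map φ) ≫ O.CA B = O.CA A ≫ O.resA.map ((ext Y).map φ) := by
  refine (Adjunction.homEquiv_naturality_left_symm _ _ _).symm.trans ?_
  refine Eq.trans (congrArg _ ?_) (Adjunction.homEquiv_naturality_right_symm _ _ _)
  ext ⟨U⟩ a
  let e : O.kA.obj ((eps (topAug Y')).obj U) ⟶ (eps (topAug Y)).obj (O.k₀.obj U) :=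
    aHom Y (S := bot D) (T := bot D) (𝟙 (bot D)) (by
      intro z hz
      rw [CategoryTheory.Functor.map_id]
      exact hz)
  let adj := (eps (topAug Y)).sheafAdjunctionContinuous AddCommGrpCat.{u} ((topAugTop Y) (bot D))
      (totAug (topAug Y) (topAugTop Y))
  show ((ext Y).obj B).obj.map e.op ((adj.unit.app B).hom.app (op (O.k₀.obj U)) (φ.hom.app _ a)) =
    ((ext Y).map φ).hom.app _ (((ext Y).obj A).obj.map e.op ((adj.unit.app A).hom.app (op (O.k₀.obj U)) a))
  refine Eq.trans ?_ (NatTrans.naturality_apply ((ext Y).map φ).hom e.op _).symm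
  refine congrArg (((ext Y).obj B).obj.map e.op) ?_
  exact ConcreteCategory.congr_hom (NatTrans.congr_app (congrArg (fun t => t.hom) (adj.unit.naturality φ))
    (op (O.k₀.obj U))) a

theorem C_natural {A B : BAb Y} (φ : A ⟶ B) :
    (Tpull Y').map (O.res₀.map φ) ≫ O.C B = O.C A ≫ O.res.map ((Tpull Y).map φ) := by
  ext ⟨X⟩ z
  have h := ConcreteCategory.congr_hom
    (NatTrans.congr_app (congrArg (fun t => t.hom) (O.CA_natural φ)) (op ((incl (topAug Y')).obj X))) z
  refine (congrArg (((ext Y).obj B).obj.map (O.kInclHom X).op) h).trans ?_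
  exact (NatTrans.naturality_apply ((ext Y).map φ).hom (O.kInclHom X).op _).symm

/-- The image of an arrow to the base. -/
noncomputable def kb {j : Dᵒᵖ} {W : Opens (Y'.obj ((toAug D).obj j))} {U : Opens (Y'.obj (bot D))}
    (b : (incl (topAug Y')).obj (pObj Y' j W) ⟶ (eps (topAug Y')).obj U) :
    (incl (topAug Y)).obj (pObj Y j (O.img W)) ⟶ (eps (topAug Y)).obj (O.img U) :=
  O.kInclHom (pObj Y' j W) ≫ O.kA.map b ≫
    aHom Y (S := bot D) (T := bot D) (𝟙 (bot D)) (U := O.img U) (V := O.img U) (by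
      intro z hz
      rw [CategoryTheory.Functor.map_id]
      exact hz)

theorem C_gA (A : BAb Y) {j : Dᵒᵖ} {W : Opens (Y'.obj ((toAug D).obj j))} {U : Opens (Y'.obj (bot D))}
    (b : (incl (topAug Y')).obj (pObj Y' j W) ⟶ (eps (topAug Y')).obj U) (a : (O.res₀.obj A).obj.obj (op U)) :
    (O.C A).hom.app (op (pObj Y' j W)) (gA (O.res₀.obj A) b a) = gA A (O.kb b) a := by
  let e : O.kA.obj ((eps (topAug Y')).obj U) ⟶ (eps (topAug Y)).obj (O.k₀.obj U) :=
    aHom Y (S := bot D) (T := bot D) (𝟙 (bot D)) (by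
      intro z hz
      rw [CategoryTheory.Functor.map_id]
      exact hz)
  refine (congrArg (((ext Y).obj A).obj.map (O.kInclHom (pObj Y' j W)).op)
    (homEquiv_symm_atHom (K := totAug (topAug Y') (topAugTop Y')) (eps (topAug Y')) _ (O.C₀ A) b a)).trans ?_
  refine (congrArg (((ext Y).obj A).obj.map (O.kInclHom (pObj Y' j W)).op)
    (map_atHom (K := totAug (topAug Y) (topAugTop Y)) (eps (topAug Y)) A (O.kA.map b) e a)).trans ?_
  exact map_atHom (K := totAug (topAug Y) (topAugTop Y)) (eps (topAug Y)) A (O.kInclHom (pObj Y' j W)) _ a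

theorem isIso_C (A : BAb Y) : IsIso (O.C A) := by
  refine isIso_of_local _ (fun j U z x hx => ?_) (fun j U e he x hx => ?_)
  · obtain ⟨W, hW, hxW, V, a, b, hz⟩ := local_gA A (j := j) (U := O.img U) z (O.κ.app _ x) ⟨x, hx, rfl⟩
    have hW' : O.pre W ≤ U := (O.pre_img U) ▸ fun w hw => hW hw
    have hU : O.pre W ≤ (Opens.map (Y'.map (toBot ((toAug D).obj j)))).obj (O.pre V) := fun w hw => by
      show O.κ.app (bot D) (Y'.map (toBot _) w) ∈ V
      rw [O.κ_nat]
      have h1 := le_of_aHom Y (b : aObj Y ((toAug D).obj j) W ⟶ aObj Y (bot D) V) hw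
      rw [toBot_unique b.base (toBot _)] at h1
      exact h1
    let b' : (incl (topAug Y')).obj (pObj Y' j (O.pre W)) ⟶ (eps (topAug Y')).obj (O.pre V) := aHom Y' (toBot _) hU
    let a' : (O.res₀.obj A).obj.obj (op (O.pre V)) := A.obj.map (homOfLE (O.img_pre_le V)).op a
    refine ⟨O.pre W, hW', hxW, gA (O.res₀.obj A) b' a', ?_⟩
    refine (O.C_gA A b' a').trans ?_
    refine (atHom_res (K := totAug (topAug Y) (topAugTop Y)) (eps (topAug Y)) A
      (homOfLE (X := Opens (Y.obj (bot D))) (O.img_pre_le V)) (O.kb b') a).trans ?_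
    refine (gA_eq A _ ((incl (topAug Y)).map (pInc (O.img_pre_le W)) ≫ b) a).trans ?_
    refine (map_gA A (pInc (O.img_pre_le W)) b a).symm.trans ?_
    rw [← hz]
    refine (Functor.map_comp_apply ((Tpull Y).obj A).obj _ _ z).symm.trans ?_
    exact congrArg (fun t => ((Tpull Y).obj A).obj.map (Quiver.Hom.op t) z) (pHom_ext Y (Category.comp_id _))
  · obtain ⟨W, hW, hxW, V, a, b, hz⟩ := local_gA (O.res₀.obj A) (j := j) (U := U) e x hx
    have h0 : gA A (O.kb b) a = 0 := by
      refine (O.C_gA A b a).symm.trans ?_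
      rw [← hz]
      refine (NatTrans.naturality_apply (O.C A).hom (pInc hW).op e).trans ?_
      exact (congrArg _ he).trans (map_zero _)
    obtain ⟨V', hV', hfx, ha⟩ := local_gen_zero A (S := (toAug D).obj j) (W := O.img W) (V := O.img V) a
      (O.kb b) h0 (O.κ.app _ x) ⟨x, hxW, rfl⟩
    let W₁ : Opens (Y'.obj ((toAug D).obj j)) := W ⊓ (Opens.map (Y'.map (toBot _))).obj (O.pre V')
    have hxW₁ : x ∈ W₁ := ⟨hxW, by
      show O.κ.app (bot D) (Y'.map (toBot _) x) ∈ V'
      rw [O.κ_nat]
      exact hfx⟩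
    refine ⟨W₁, le_trans inf_le_left hW, hxW₁, ?_⟩
    have hle : O.pre V' ≤ V := fun w hw => (O.pre_img V) ▸ hV' hw
    have ha' : (O.res₀.obj A).obj.map (homOfLE hle).op a = 0 := by
      have h1 : (O.res₀.obj A).obj.map (homOfLE hle).op a =
          A.obj.map (homOfLE (O.img_pre_le V')).op (A.obj.map (homOfLE hV').op a) := by
        refine Eq.trans ?_ (Functor.map_comp_apply A.obj _ _ a)
        exact congrArg (fun t => A.obj.map (Quiver.Hom.op t) a)
          (Subsingleton.elim (α := O.img (O.pre V') ⟶ O.img V) _ _)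
      rw [h1, ha, map_zero]
    let b' : (incl (topAug Y')).obj (pObj Y' j W₁) ⟶ (eps (topAug Y')).obj (O.pre V') :=
      aHom Y' (toBot _) (inf_le_right : W₁ ≤ _)
    have h2 : ((Tpull Y').obj (O.res₀.obj A)).obj.map (pInc (le_trans (inf_le_left : W₁ ≤ W) hW)).op e =
        ((Tpull Y').obj (O.res₀.obj A)).obj.map (pInc (inf_le_left : W₁ ≤ W)).op (gA (O.res₀.obj A) b a) := by
      rw [← hz]
      refine Eq.trans ?_ (Functor.map_comp_apply _ _ _ e)
      exact congrArg (fun t => ((Tpull Y').obj (O.res₀.obj A)).obj.map (Quiver.Hom.op t) e)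
        (pHom_ext Y' (Category.comp_id _).symm)
    refine h2.trans ((map_gA _ _ b a).trans ?_)
    refine (gA_eq _ _ (b' ≫ (eps (topAug Y')).map (homOfLE (X := Opens (Y'.obj (bot D))) hle)) a).trans ?_
    refine (atHom_res (K := totAug (topAug Y') (topAugTop Y')) (eps (topAug Y')) (O.res₀.obj A) (homOfLE (X := Opens (Y'.obj (bot D))) hle) b' a).symm.trans ?_
    exact (congrArg (fun t => gA (O.res₀.obj A) b' t) ha').trans (map_zero _)

/-- The comparison as an isomorphism of functors. -/
noncomputable def CIso : O.res₀ ⋙ Tpull Y' ≅ Tpull Y ⋙ O.res :=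
  NatIso.ofComponents (fun A => @asIso _ _ _ _ (O.C A) (O.isIso_C A)) (fun φ => O.C_natural φ)

end OpenRestr

end GrothLib.CohDesc25
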