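import Groth.Agent.Lib.CohDesc25.Site

/-!
# Augmented families of spaces with an extra degeneracy, and the functors of sites they give
-/

set_option autoImplicit false
set_option backward.isDefEq.respectTransparency false
set_option backward.isDefEq.respectTransparency.types false
set_option linter.unusedSectionVars false

universe u

open CategoryTheory CategoryTheory.Limits Opposite Pseudofunctor Pseudofunctor.CoGrothendieck TopologicalSpace

namespace GrothLib.CohDesc25

open FibDesc

variable {D : Type} [SmallCategory D] (Y : (WithInitial D)ᵒᵖ ⥤ TopCat.{u})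

/-- The arrow to the base point. -/
abbrev toBot (S : (WithInitial D)ᵒᵖ) : S ⟶ bot D := (WithInitial.starInitial.to S.unop).op

theorem toBot_unique {S : (WithInitial D)ᵒᵖ} (a b : S ⟶ bot D) : a = b :=
  Quiver.Hom.unop_inj (WithInitial.starInitial.hom_ext _ _)

/-- An extra degeneracy of an augmented family of spaces. -/
structure Retraction where
  ψ : D ⥤ D
  δ : 𝟭 D ⟶ ψ
  i₀ : D
  v : ∀ j : D, i₀ ⟶ ψ.obj j
  v_nat : ∀ {j k : D} (a : j ⟶ k), v j ≫ ψ.map a = v k
  σ : ∀ j : Dᵒᵖ, Y.obj ((toAug D).obj j) ⟶ Y.obj ((toAug D).obj (ψ.op.obj j))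
  σ_nat : ∀ {j k : Dᵒᵖ} (a : j ⟶ k),
    Y.map ((toAug D).map a) ≫ σ k = σ j ≫ Y.map ((toAug D).map (ψ.op.map a))
  σ_δ : ∀ j : Dᵒᵖ, σ j ≫ Y.map ((toAug D).map (δ.app j.unop).op) = 𝟙 _
  s : Y.obj (bot D) ⟶ Y.obj ((toAug D).obj (op i₀))
  s_aug : s ≫ Y.map (toBot ((toAug D).obj (op i₀))) = 𝟙 _
  σ_v : ∀ j : Dᵒᵖ, σ j ≫ Y.map ((toAug D).map (v j.unop).op) = Y.map (toBot ((toAug D).obj j)) ≫ s

variable {Y} (R : Retraction Y)

namespace Retraction

/-- The shifted family. -/
noncomputable abbrev shF : Pseudofunctor (LocallyDiscrete (Dᵒᵖ)ᵒᵖ) Cat.{u, u} :=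
  FibSite.baseChange (part (topAug Y)) R.ψ.op

/-- Its topologies. -/
noncomputable abbrev shTop : FibSite.Topologies R.shF := FibSite.baseChangeTop (partTop (topAug Y) (topAugTop Y)) R.ψ.op

/-- Its total topology. -/
noncomputable abbrev shTot : GrothendieckTopology (∫ᶜ R.shF) := FibSite.totalTopology R.shF R.shTop

/-- Objects of the shifted family. -/
noncomputable abbrev sObj (j : Dᵒᵖ) (W : Opens (Y.obj ((toAug D).obj (R.ψ.op.obj j)))) : ∫ᶜ R.shF := ⟨j, W⟩

/-- The constant family on the degree-zero space. -/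
noncomputable abbrev coF : Pseudofunctor (LocallyDiscrete (Dᵒᵖ)ᵒᵖ) Cat.{u, u} :=
  FibSite.baseChange (part (topAug Y)) ((Functor.const Dᵒᵖ).obj (op R.i₀))

/-- Its topologies. -/
noncomputable abbrev coTop : FibSite.Topologies R.coF :=
  FibSite.baseChangeTop (partTop (topAug Y) (topAugTop Y)) ((Functor.const Dᵒᵖ).obj (op R.i₀))

/-- Its total topology. -/
noncomputable abbrev coTot : GrothendieckTopology (∫ᶜ R.coF) := FibSite.totalTopology R.coF R.coTop

/-- Objects of the constant family. -/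
noncomputable abbrev cObj (j : Dᵒᵖ) (W : Opens (Y.obj ((toAug D).obj (op R.i₀)))) : ∫ᶜ R.coF := ⟨j, W⟩

/-- The open set of an object of the shifted family. -/
noncomputable abbrev sFib (X : ∫ᶜ R.shF) : Opens (Y.obj ((toAug D).obj (R.ψ.op.obj X.base))) := X.fiber

/-- The open set of an object of the constant family. -/
noncomputable abbrev cFib (X : ∫ᶜ R.coF) : Opens (Y.obj ((toAug D).obj (op R.i₀))) := X.fiber

theorem thin_sh : Thin R.shF := fun S U V => thin_part Y (R.ψ.op.obj S) U V

theorem thin_co : Thin R.coF := fun S U V => thin_part Y (op R.i₀) U V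

theorem isPreFibSite_sh : FibSite.IsPreFibSite R.shF R.shTop := fun _ _ f =>
  isPreFibSite_part Y (R.ψ.op.map f)

theorem isPreFibSite_co : FibSite.IsPreFibSite R.coF R.coTop := fun _ _ _ =>
  isPreFibSite_part Y (𝟙 (op R.i₀))

theorem le_of_sHom {j k : Dᵒᵖ} {U : Opens (Y.obj ((toAug D).obj (R.ψ.op.obj j)))}
    {V : Opens (Y.obj ((toAug D).obj (R.ψ.op.obj k)))}
    (g : R.sObj j U ⟶ R.sObj k V) : U ≤ (Opens.map (Y.map ((toAug D).map (R.ψ.op.map g.base)))).obj V :=
  leOfHom (g.fiber : U ⟶ (Opens.map (Y.map ((toAug D).map (R.ψ.op.map g.base)))).obj V)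

/-- A morphism of the shifted family from an inclusion. -/
noncomputable def sHom {j k : Dᵒᵖ} {U : Opens (Y.obj ((toAug D).obj (R.ψ.op.obj j)))}
    {V : Opens (Y.obj ((toAug D).obj (R.ψ.op.obj k)))} (θ : j ⟶ k)
    (h : U ≤ (Opens.map (Y.map ((toAug D).map (R.ψ.op.map θ)))).obj V) : R.sObj j U ⟶ R.sObj k V :=
  ⟨θ, (homOfLE h : U ⟶ (Opens.map (Y.map ((toAug D).map (R.ψ.op.map θ)))).obj V)⟩

theorem le_of_cHom {j k : Dᵒᵖ} {U V : Opens (Y.obj ((toAug D).obj (op R.i₀)))}
    (g : R.cObj j U ⟶ R.cObj k V) : U ≤ V := fun z hz => by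
  have h : Y.map ((toAug D).map (𝟙 (op R.i₀))) z ∈ V :=
    le_of_hom (X := Y.obj ((toAug D).obj (op R.i₀))) (g.fiber) hz
  rw [CategoryTheory.Functor.map_id, CategoryTheory.Functor.map_id] at h
  exact h

/-- A morphism of the constant family from an inclusion. -/
noncomputable def cHom {j k : Dᵒᵖ} {U V : Opens (Y.obj ((toAug D).obj (op R.i₀)))} (θ : j ⟶ k) (h : U ≤ V) :
    R.cObj j U ⟶ R.cObj k V :=
  ⟨θ, (homOfLE (fun z hz => by
    show z ∈ (Opens.map (Y.map ((toAug D).map (𝟙 (op R.i₀))))).obj V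
    rw [CategoryTheory.Functor.map_id, CategoryTheory.Functor.map_id]
    exact h hz) : U ⟶ (Opens.map (Y.map ((toAug D).map (𝟙 (op R.i₀))))).obj V)⟩

/-- Forgetting the degree shift. -/
noncomputable abbrev u : ∫ᶜ R.shF ⥤ ∫ᶜ (part (topAug Y)) := FibSite.baseChangeFunctor (part (topAug Y)) R.ψ.op

/-- Inverse image along the extra degeneracy. -/
noncomputable def vf : ∫ᶜ R.shF ⥤ ∫ᶜ (part (topAug Y)) where
  obj X := pObj Y X.base ((Opens.map (R.σ X.base)).obj X.fiber)
  map {A B} g := pHom Y g.base (by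
    intro z hz
    have h := R.le_of_sHom (g : R.sObj A.base A.fiber ⟶ R.sObj B.base B.fiber) hz
    show (Y.map ((toAug D).map g.base) ≫ R.σ B.base) z ∈ R.sFib B
    rw [R.σ_nat]
    exact h)
  map_id X := pHom_ext Y rfl
  map_comp f g := pHom_ext Y rfl

/-- The vertex map on sites. -/
noncomputable def yf : ∫ᶜ R.coF ⥤ ∫ᶜ R.shF where
  obj X := R.sObj X.base ((Opens.map (Y.map ((toAug D).map (R.v X.base.unop).op))).obj X.fiber)
  map {A B} g := R.sHom g.base (by
    intro z hz
    have h := R.le_of_cHom (g : R.cObj A.base A.fiber ⟶ R.cObj B.base B.fiber) hz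
    show (Y.map ((toAug D).map (R.ψ.op.map g.base)) ≫ Y.map ((toAug D).map (R.v B.base.unop).op)) z ∈
      R.cFib B
    rw [← Y.map_comp, ← Functor.map_comp]
    show Y.map ((toAug D).map ((R.v B.base.unop ≫ R.ψ.map g.base.unop).op)) z ∈ _
    rw [R.v_nat]
    exact h)
  map_id X := hom_ext_base R.thin_sh rfl
  map_comp f g := hom_ext_base R.thin_sh rfl

/-- The composite functor. -/
noncomputable abbrev v₀ : ∫ᶜ R.coF ⥤ ∫ᶜ (part (topAug Y)) := R.yf ⋙ R.vf

/-- The projection of the constant family. -/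
noncomputable def pf : ∫ᶜ R.coF ⥤ Opens (Y.obj ((toAug D).obj (op R.i₀))) where
  obj X := X.fiber
  map {A B} g := homOfLE (R.le_of_cHom (g : R.cObj A.base A.fiber ⟶ R.cObj B.base B.fiber))
  map_id _ := Subsingleton.elim _ _
  map_comp _ _ := Subsingleton.elim _ _

theorem isContinuous_u : R.u.IsContinuous R.shTot (totPart (topAug Y) (topAugTop Y)) := by
  rw [GrothLib.FibSite.isContinuous_iff R.isPreFibSite_sh]
  intro j
  haveI := GrothLib.FibSite.isContinuous_ι (isPreFibSite_part Y) (R.ψ.op.obj j)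
  have e : ι (part (topAug Y)) (R.ψ.op.obj j) ≅ ι R.shF j ⋙ R.u :=
    NatIso.ofComponents (fun U => Iso.refl _) (fun {U V} g => by
      refine (Category.comp_id _).trans (Eq.trans ?_ (Category.id_comp _).symm)
      exact pHom_ext Y (R.ψ.op.map_id j).symm)
  exact Functor.isContinuous_of_iso e (R.shTop j) (totPart (topAug Y) (topAugTop Y))

theorem isContinuous_vf : R.vf.IsContinuous R.shTot (totPart (topAug Y) (topAugTop Y)) := by
  rw [GrothLib.FibSite.isContinuous_iff R.isPreFibSite_sh]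
  intro j
  haveI := GrothLib.FibSite.isContinuous_ι (isPreFibSite_part Y) j
  haveI : (Opens.map (R.σ j) ⋙ ι (part (topAug Y)) j).IsContinuous (R.shTop j) (totPart (topAug Y) (topAugTop Y)) :=
    Functor.isContinuous_comp (Opens.map (R.σ j)) (ι (part (topAug Y)) j) (Opens.grothendieckTopology _)
      (partTop (topAug Y) (topAugTop Y) j) _
  have e : Opens.map (R.σ j) ⋙ ι (part (topAug Y)) j ≅ ι R.shF j ⋙ R.vf :=
    NatIso.ofComponents (fun U => Iso.refl _) (fun {U V} g => by
      refine (Category.comp_id _).trans (Eq.trans ?_ (Category.id_comp _).symm)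
      exact pHom_ext Y rfl)
  exact Functor.isContinuous_of_iso e (R.shTop j) (totPart (topAug Y) (topAugTop Y))

theorem isContinuous_v₀ : R.v₀.IsContinuous R.coTot (totPart (topAug Y) (topAugTop Y)) := by
  rw [GrothLib.FibSite.isContinuous_iff R.isPreFibSite_co]
  intro j
  haveI := GrothLib.FibSite.isContinuous_ι (isPreFibSite_part Y) j
  haveI : (Opens.map (R.σ j ≫ Y.map ((toAug D).map (R.v j.unop).op)) ⋙ ι (part (topAug Y)) j).IsContinuous
      (R.coTop j) (totPart (topAug Y) (topAugTop Y)) :=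
    Functor.isContinuous_comp (Opens.map (R.σ j ≫ Y.map ((toAug D).map (R.v j.unop).op)))
      (ι (part (topAug Y)) j) (Opens.grothendieckTopology _) (partTop (topAug Y) (topAugTop Y) j) _
  have e : Opens.map (R.σ j ≫ Y.map ((toAug D).map (R.v j.unop).op)) ⋙ ι (part (topAug Y)) j ≅
      ι R.coF j ⋙ R.v₀ :=
    NatIso.ofComponents (fun U => Iso.refl _) (fun {U V} g => by
      refine (Category.comp_id _).trans (Eq.trans ?_ (Category.id_comp _).symm)
      exact pHom_ext Y rfl)
  exact Functor.isContinuous_of_iso e (R.coTop j) (totPart (topAug Y) (topAugTop Y))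

theorem isContinuous_pf :
    R.pf.IsContinuous R.coTot (Opens.grothendieckTopology (Y.obj ((toAug D).obj (op R.i₀)))) := by
  rw [GrothLib.FibSite.isContinuous_iff R.isPreFibSite_co]
  intro j
  have e : 𝟭 (Opens (Y.obj ((toAug D).obj (op R.i₀)))) ≅ ι R.coF j ⋙ R.pf :=
    NatIso.ofComponents (fun U => Iso.refl _) (fun {U V} g => Subsingleton.elim _ _)
  haveI : (𝟭 (Opens (Y.obj ((toAug D).obj (op R.i₀))))).IsContinuous (R.coTop j)
      (Opens.grothendieckTopology (Y.obj ((toAug D).obj (op R.i₀)))) :=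
    Functor.isContinuous_id (Opens.grothendieckTopology _)
  exact Functor.isContinuous_of_iso e (R.coTop j) _

theorem flat_vf : RepresentablyFlat R.vf := by
  refine ⟨fun X => ?_⟩
  obtain ⟨j, U₀⟩ := X
  let U : Opens (Y.obj ((toAug D).obj j)) := U₀
  change IsCofiltered (StructuredArrow (pObj Y j U) R.vf)
  have sq : ∀ {k : Dᵒᵖ} (θ : j ⟶ k) (z : Y.obj ((toAug D).obj j)),
      Y.map ((toAug D).map (R.ψ.op.map θ)) (R.σ j z) = R.σ k (Y.map ((toAug D).map θ) z) := fun θ z =>
    (ConcreteCategory.congr_hom (R.σ_nat θ) z).symm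
  have hc : IsCofilteredOrEmpty (StructuredArrow (pObj Y j U) R.vf) := by
    constructor
    · intro A B
      let a : j ⟶ A.right.base := A.hom.base
      let b : j ⟶ B.right.base := B.hom.base
      let W : Opens (Y.obj ((toAug D).obj (R.ψ.op.obj j))) :=
        (Opens.map (Y.map ((toAug D).map (R.ψ.op.map a)))).obj A.right.fiber ⊓
          (Opens.map (Y.map ((toAug D).map (R.ψ.op.map b)))).obj B.right.fiber
      have hU : U ≤ (Opens.map (Y.map ((toAug D).map (𝟙 j)))).obj ((Opens.map (R.σ j)).obj W) := by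
        intro z hz
        rw [CategoryTheory.Functor.map_id, CategoryTheory.Functor.map_id]
        constructor
        · show Y.map ((toAug D).map (R.ψ.op.map a)) (R.σ j z) ∈ R.sFib A.right
          rw [sq]
          exact le_of_pHom Y (A.hom : pObj Y j U ⟶ pObj Y A.right.base _) hz
        · show Y.map ((toAug D).map (R.ψ.op.map b)) (R.σ j z) ∈ R.sFib B.right
          rw [sq]
          exact le_of_pHom Y (B.hom : pObj Y j U ⟶ pObj Y B.right.base _) hz
      exact ⟨StructuredArrow.mk (S := pObj Y j U) (Y := R.sObj j W) (pHom Y (𝟙 j) hU),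
        StructuredArrow.homMk (R.sHom a (fun z hz => hz.1)) (pHom_ext Y (Category.id_comp _)),
        StructuredArrow.homMk (R.sHom b (fun z hz => hz.2)) (pHom_ext Y (Category.id_comp _)), trivial⟩
    · intro A B a b
      let θ : j ⟶ A.right.base := A.hom.base
      let W : Opens (Y.obj ((toAug D).obj (R.ψ.op.obj j))) :=
        (Opens.map (Y.map ((toAug D).map (R.ψ.op.map θ)))).obj A.right.fiber
      have hU : U ≤ (Opens.map (Y.map ((toAug D).map (𝟙 j)))).obj ((Opens.map (R.σ j)).obj W) := by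
        intro z hz
        rw [CategoryTheory.Functor.map_id, CategoryTheory.Functor.map_id]
        show Y.map ((toAug D).map (R.ψ.op.map θ)) (R.σ j z) ∈ R.sFib A.right
        rw [sq]
        exact le_of_pHom Y (A.hom : pObj Y j U ⟶ pObj Y A.right.base _) hz
      refine ⟨StructuredArrow.mk (S := pObj Y j U) (Y := R.sObj j W) (pHom Y (𝟙 j) hU),
        StructuredArrow.homMk (R.sHom θ (fun z hz => hz)) (pHom_ext Y (Category.id_comp _)), ?_⟩
      refine StructuredArrow.ext _ _ (hom_ext_base R.thin_sh ?_)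
      show θ ≫ a.right.base = θ ≫ b.right.base
      exact (congrArg (fun g => g.base) (StructuredArrow.w a) :).trans
        (congrArg (fun g => g.base) (StructuredArrow.w b) :).symm
  exact { hc with
    nonempty := ⟨StructuredArrow.mk (S := pObj Y j U) (Y := R.sObj j ⊤) (pHom Y (𝟙 j) (fun _ _ => trivial))⟩ }

theorem flat_v₀ : RepresentablyFlat R.v₀ := by
  refine ⟨fun X => ?_⟩
  obtain ⟨j, U₀⟩ := X
  let U : Opens (Y.obj ((toAug D).obj j)) := U₀
  change IsCofiltered (StructuredArrow (pObj Y j U) R.v₀)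
  have sq : ∀ {k : Dᵒᵖ} (θ : j ⟶ k) (z : Y.obj ((toAug D).obj j)),
      Y.map ((toAug D).map (R.v k.unop).op) (R.σ k (Y.map ((toAug D).map θ) z)) =
        Y.map ((toAug D).map (R.v j.unop).op) (R.σ j z) := fun {k} θ z => by
    refine (congrArg (Y.map ((toAug D).map (R.v k.unop).op)) (ConcreteCategory.congr_hom (R.σ_nat θ) z)).trans ?_
    show (Y.map ((toAug D).map (R.ψ.op.map θ)) ≫ Y.map ((toAug D).map (R.v k.unop).op)) (R.σ j z) = _
    rw [← Y.map_comp, ← Functor.map_comp]
    show Y.map ((toAug D).map (R.v k.unop ≫ R.ψ.map θ.unop).op) _ = _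
    rw [R.v_nat]
  have mkU : ∀ (A : StructuredArrow (pObj Y j U) R.v₀) (z : Y.obj ((toAug D).obj j)), z ∈ U →
      Y.map ((toAug D).map (R.v j.unop).op) (R.σ j z) ∈ R.cFib A.right :=
    fun A z hz => (sq (A.hom.base : j ⟶ A.right.base) z) ▸
      le_of_pHom Y (A.hom : pObj Y j U ⟶ pObj Y A.right.base _) hz
  have hc : IsCofilteredOrEmpty (StructuredArrow (pObj Y j U) R.v₀) := by
    constructor
    · intro A B
      let W : Opens (Y.obj ((toAug D).obj (op R.i₀))) :=
        R.cFib A.right ⊓ B.right.fiber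
      have hU : U ≤ (Opens.map (Y.map ((toAug D).map (𝟙 j)))).obj
          ((Opens.map (R.σ j)).obj ((Opens.map (Y.map ((toAug D).map (R.v j.unop).op))).obj W)) := by
        intro z hz
        rw [CategoryTheory.Functor.map_id, CategoryTheory.Functor.map_id]
        exact ⟨mkU A z hz, mkU B z hz⟩
      exact ⟨StructuredArrow.mk (S := pObj Y j U) (Y := R.cObj j W) (pHom Y (𝟙 j) hU),
        StructuredArrow.homMk (R.cHom (A.hom.base : j ⟶ A.right.base) (fun z hz => hz.1)) (pHom_ext Y (Category.id_comp _)),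
        StructuredArrow.homMk (R.cHom (B.hom.base : j ⟶ B.right.base) (fun z hz => hz.2)) (pHom_ext Y (Category.id_comp _)), trivial⟩
    · intro A B a b
      let θ : j ⟶ A.right.base := A.hom.base
      let W : Opens (Y.obj ((toAug D).obj (op R.i₀))) := A.right.fiber
      have hU : U ≤ (Opens.map (Y.map ((toAug D).map (𝟙 j)))).obj
          ((Opens.map (R.σ j)).obj ((Opens.map (Y.map ((toAug D).map (R.v j.unop).op))).obj W)) := by
        intro z hz
        rw [CategoryTheory.Functor.map_id, CategoryTheory.Functor.map_id]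
        exact mkU A z hz
      refine ⟨StructuredArrow.mk (S := pObj Y j U) (Y := R.cObj j W) (pHom Y (𝟙 j) hU),
        StructuredArrow.homMk (R.cHom θ (fun z hz => hz)) (pHom_ext Y (Category.id_comp _)), ?_⟩
      refine StructuredArrow.ext _ _ (hom_ext_base R.thin_co ?_)
      show θ ≫ a.right.base = θ ≫ b.right.base
      exact (congrArg (fun g => g.base) (StructuredArrow.w a) :).trans
        (congrArg (fun g => g.base) (StructuredArrow.w b) :).symm
  exact { hc with
    nonempty := ⟨StructuredArrow.mk (S := pObj Y j U) (Y := R.cObj j ⊤) (pHom Y (𝟙 j) (fun _ _ => trivial))⟩ }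

end Retraction

end GrothLib.CohDesc25
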