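import Groth.Agent.Lib.FibSite.Topology
import Mathlib.CategoryTheory.Sites.Point.Basic

/-!
# Points of the total site of a fibred site with thin fibres
-/

set_option autoImplicit false
set_option backward.isDefEq.respectTransparency false
set_option backward.isDefEq.respectTransparency.types false

universe u

open CategoryTheory CategoryTheory.Limits Opposite Pseudofunctor Pseudofunctor.CoGrothendieck

namespace GrothLib.CohDesc25

variable {𝒮 : Type} [SmallCategory 𝒮] {F : Pseudofunctor (LocallyDiscrete 𝒮ᵒᵖ) Cat.{u, u}}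

/-- All fibres are thin. -/
abbrev Thin (F : Pseudofunctor (LocallyDiscrete 𝒮ᵒᵖ) Cat.{u, u}) : Prop :=
  ∀ (S : 𝒮) (U V : F.obj ⟨op S⟩), Subsingleton (U ⟶ V)

/-- With thin fibres a morphism of the total category is determined by its base. -/
theorem hom_ext_base (hF : Thin F) {X Y : ∫ᶜ F} {g h : X ⟶ Y} (e : g.base = h.base) : g = h :=
  CoGrothendieck.Hom.ext _ _ e (@Subsingleton.elim _ (hF _ _ _) _ _)

/-- A point of the fibre over `i`, given by the predicate "contains the point". -/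
structure FPt (J : _root_.FibSite.Topologies F) (i : 𝒮) where
  mem : F.obj ⟨op i⟩ → Prop
  mono : ∀ {V U : F.obj ⟨op i⟩}, (V ⟶ U) → mem V → mem U
  nonempty : ∃ U, mem U
  directed : ∀ U U', mem U → mem U' → ∃ W, mem W ∧ Nonempty (W ⟶ U) ∧ Nonempty (W ⟶ U')
  cover : ∀ (U : F.obj ⟨op i⟩) (R : Sieve U), R ∈ J i U → mem U →
    ∃ (V : F.obj ⟨op i⟩) (r : V ⟶ U), R r ∧ mem V

variable {J : _root_.FibSite.Topologies F}

/-- A base arrow out of `i` carries the point into `X`. -/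
def FPt.Carries {i : 𝒮} (p : FPt J i) (X : ∫ᶜ F) (θ : i ⟶ X.base) : Prop :=
  ∃ U, p.mem U ∧ ∃ g : (ι F i).obj U ⟶ X, g.base = θ

/-- The fibre functor of the induced point of the total site. -/
abbrev FPt.fiber {i : 𝒮} (p : FPt J i) : ∫ᶜ F ⥤ Type u where
  obj X := ULift.{u} {θ : i ⟶ X.base // p.Carries X θ}
  map {X Y} h := TypeCat.ofHom fun t => ⟨⟨t.down.1 ≫ h.base, by
    obtain ⟨U, hU, g, hg⟩ := t.down.2
    exact ⟨U, hU, g ≫ h, (congrArg (fun e => e ≫ h.base) hg :)⟩⟩⟩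
  map_id X := by
    ext t
    exact Category.comp_id _
  map_comp f g := by
    ext t
    exact (Category.assoc _ _ _).symm

theorem FPt.isCofiltered (hF : Thin F) {i : 𝒮} (p : FPt J i) : IsCofiltered p.fiber.Elements := by
  have dom : ∀ A : p.fiber.Elements, ∃ (U : F.obj ⟨op i⟩) (hU : p.mem U)
      (g : (ι F i).obj U ⟶ A.1), g.base = A.2.down.1 := fun A => by
    obtain ⟨U, hU, g, hg⟩ := A.2.down.2
    exact ⟨U, hU, g, hg⟩
  let pt : ∀ U, p.mem U → p.fiber.obj ((ι F i).obj U) := fun U hU => ⟨⟨𝟙 i, U, hU, 𝟙 _, rfl⟩⟩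
  let el : ∀ U, p.mem U → p.fiber.Elements := fun U hU => ⟨(ι F i).obj U, pt U hU⟩
  let ev : ∀ {U : F.obj ⟨op i⟩} (hU : p.mem U) (A : p.fiber.Elements) (g : (ι F i).obj U ⟶ A.1),
      g.base = A.2.down.1 → (el U hU ⟶ A) := fun hU A g hg =>
    ⟨g, ULift.ext _ _ (Subtype.ext ((Category.id_comp _).trans hg))⟩
  haveI : IsCofilteredOrEmpty p.fiber.Elements := by
    constructor
    · intro A B
      obtain ⟨U, hU, g, hg⟩ := dom A
      obtain ⟨U', hU', g', hg'⟩ := dom B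
      obtain ⟨W, hW, ⟨a⟩, ⟨b⟩⟩ := p.directed U U' hU hU'
      exact ⟨el W hW,
        ev hW A ((ι F i).map a ≫ g) ((GrothLib.FibSite.ι_map_comp_base a g).trans hg),
        ev hW B ((ι F i).map b ≫ g') ((GrothLib.FibSite.ι_map_comp_base b g').trans hg'), trivial⟩
    · intro A B a b
      obtain ⟨U, hU, g, hg⟩ := dom A
      refine ⟨el U hU, ev hU A g hg, Subtype.ext (hom_ext_base hF ?_)⟩
      show g.base ≫ a.1.base = g.base ≫ b.1.base
      rw [hg]
      exact (congrArg (fun t => t.down.1) a.2).trans (congrArg (fun t => t.down.1) b.2).symm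
  obtain ⟨U, hU⟩ := p.nonempty
  exact { nonempty := ⟨el U hU⟩ }

theorem FPt.jointly_surjective (hJ : _root_.FibSite.IsPreFibSite F J) {i : 𝒮} (p : FPt J i)
    {X : ∫ᶜ F} (R : Sieve X) (hR : R ∈ _root_.FibSite.totalTopology F J X) (x : p.fiber.obj X) :
    ∃ (Y : ∫ᶜ F) (f : Y ⟶ X) (_ : R f) (y : p.fiber.obj Y), p.fiber.map f y = x := by
  obtain ⟨U, hU, g, hg⟩ := x.down.2
  obtain ⟨R', hR', hle⟩ := (GrothLib.FibSite.mem_totalTopology_iff hJ _ _).1
    ((_root_.FibSite.totalTopology F J).pullback_stable g hR)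
  obtain ⟨V, r, hr, hV⟩ := p.cover U R' hR' hU
  refine ⟨(ι F i).obj V, (ι F i).map r ≫ g, hle _ (Sieve.image_mem_functorPushforward _ _ hr),
    ⟨⟨𝟙 i, V, hV, 𝟙 _, rfl⟩⟩, ULift.ext _ _ (Subtype.ext ?_)⟩
  exact ((Category.id_comp _).trans (GrothLib.FibSite.ι_map_comp_base r g)).trans hg

/-- The point of the total site. -/
noncomputable def FPt.point (hF : Thin F) (hJ : _root_.FibSite.IsPreFibSite F J) {i : 𝒮}
    (p : FPt J i) : GrothendieckTopology.Point.{u} (_root_.FibSite.totalTopology F J) where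
  fiber := p.fiber
  isCofiltered := p.isCofiltered hF
  initiallySmall := initiallySmall_of_essentiallySmall _
  jointly_surjective R hR x := p.jointly_surjective hJ R hR x

/-- The element of the fibre at an object over `i`. -/
def FPt.at {i : 𝒮} (p : FPt J i) {U : F.obj ⟨op i⟩} (hU : p.mem U) :
    p.fiber.obj ((ι F i).obj U) :=
  ⟨⟨𝟙 i, U, hU, 𝟙 _, rfl⟩⟩

/-- Every element of the fibre comes from an object over `i` inside any given neighbourhood. -/
theorem FPt.exists_refine (hF : Thin F) {i : 𝒮} (p : FPt J i) {U : F.obj ⟨op i⟩} (hU : p.mem U)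
    {Y : ∫ᶜ F} (g : Y ⟶ (ι F i).obj U) (y : p.fiber.obj Y) (hy : p.fiber.map g y = p.at hU) :
    ∃ (W : F.obj ⟨op i⟩) (_ : p.mem W) (a : W ⟶ U) (k : (ι F i).obj W ⟶ Y),
      k ≫ g = (ι F i).map a := by
  obtain ⟨V, hV, k, hk⟩ := y.down.2
  obtain ⟨W, hW, ⟨b⟩, ⟨a⟩⟩ := p.directed V U hV hU
  refine ⟨W, hW, a, (ι F i).map b ≫ k, hom_ext_base hF ?_⟩
  show ((ι F i).map b ≫ k).base ≫ g.base = 𝟙 i
  rw [GrothLib.FibSite.ι_map_comp_base b k, hk]
  exact congrArg (fun t => t.down.1) hy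

end GrothLib.CohDesc25
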