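import Groth.Prelude.Def_FibDesc
import Groth.Agent.Lib.CohDesc25.ThinPoint

/-!
# The sites of an augmented family of spaces
-/

set_option autoImplicit false
set_option backward.isDefEq.respectTransparency false
set_option backward.isDefEq.respectTransparency.types false
set_option linter.unusedSectionVars false

universe u

open CategoryTheory CategoryTheory.Limits Opposite Pseudofunctor Pseudofunctor.CoGrothendieck TopologicalSpace

namespace GrothLib.CohDesc25

open FibDesc

variable {D : Type} [SmallCategory D] (Y : (WithInitial D)ᵒᵖ ⥤ TopCat.{u})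

/-- Objects of the augmented total site. -/
abbrev aObj (S : (WithInitial D)ᵒᵖ) (U : Opens (Y.obj S)) : ∫ᶜ (topAug Y) := ⟨S, U⟩

/-- Objects of the total site of the part. -/
abbrev pObj (j : Dᵒᵖ) (U : Opens (Y.obj ((toAug D).obj j))) : ∫ᶜ (part (topAug Y)) := ⟨j, U⟩

theorem thin_aug : Thin (topAug Y) := fun S U V =>
  inferInstanceAs (Subsingleton ((U : Opens (Y.obj S)) ⟶ (V : Opens (Y.obj S))))

theorem thin_part : Thin (part (topAug Y)) := fun S U V =>
  inferInstanceAs (Subsingleton ((U : Opens (Y.obj ((toAug D).obj S))) ⟶ (V : Opens (Y.obj ((toAug D).obj S)))))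

theorem isPreFibSite_aug : FibSite.IsPreFibSite (topAug Y) (topAugTop Y) := fun _ _ f =>
  inferInstanceAs ((Opens.map (Y.map f)).IsContinuous (Opens.grothendieckTopology _) (Opens.grothendieckTopology _))

theorem isPreFibSite_part :
    FibSite.IsPreFibSite (part (topAug Y)) (partTop (topAug Y) (topAugTop Y)) := fun _ _ f =>
  inferInstanceAs ((Opens.map (Y.map ((toAug D).map f))).IsContinuous (Opens.grothendieckTopology _) (Opens.grothendieckTopology _))

/-- A morphism of the augmented total site from an inclusion. -/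
def aHom {S T : (WithInitial D)ᵒᵖ} {U : Opens (Y.obj S)} {V : Opens (Y.obj T)} (θ : S ⟶ T)
    (h : U ≤ (Opens.map (Y.map θ)).obj V) : aObj Y S U ⟶ aObj Y T V :=
  ⟨θ, (homOfLE h : U ⟶ (Opens.map (Y.map θ)).obj V)⟩

/-- A morphism of the total site of the part from an inclusion. -/
def pHom {j k : Dᵒᵖ} {U : Opens (Y.obj ((toAug D).obj j))} {V : Opens (Y.obj ((toAug D).obj k))} (θ : j ⟶ k)
    (h : U ≤ (Opens.map (Y.map ((toAug D).map θ))).obj V) : pObj Y j U ⟶ pObj Y k V :=
  ⟨θ, (homOfLE h : U ⟶ (Opens.map (Y.map ((toAug D).map θ))).obj V)⟩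

theorem le_of_aHom {S T : (WithInitial D)ᵒᵖ} {U : Opens (Y.obj S)} {V : Opens (Y.obj T)}
    (g : aObj Y S U ⟶ aObj Y T V) : U ≤ (Opens.map (Y.map g.base)).obj V :=
  leOfHom (g.fiber : U ⟶ (Opens.map (Y.map g.base)).obj V)

theorem le_of_pHom {j k : Dᵒᵖ} {U : Opens (Y.obj ((toAug D).obj j))} {V : Opens (Y.obj ((toAug D).obj k))}
    (g : pObj Y j U ⟶ pObj Y k V) : U ≤ (Opens.map (Y.map ((toAug D).map g.base))).obj V :=
  leOfHom (g.fiber : U ⟶ (Opens.map (Y.map ((toAug D).map g.base))).obj V)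

theorem aHom_ext {A B : ∫ᶜ (topAug Y)} {g h : A ⟶ B} (e : g.base = h.base) : g = h :=
  hom_ext_base (thin_aug Y) e

theorem pHom_ext {A B : ∫ᶜ (part (topAug Y))} {g h : A ⟶ B} (e : g.base = h.base) : g = h :=
  hom_ext_base (thin_part Y) e

theorem le_of_hom {X : TopCat.{u}} {V U : Opens X} (h : V ⟶ U) : V ≤ U := leOfHom h

/-- The point predicate of a point of a space. -/
def spacePt {X : TopCat.{u}} (x : X) (U : Opens X) : Prop := x ∈ U

/-- A point of a space of the family, as a point of the augmented site. -/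
def augPt (S : (WithInitial D)ᵒᵖ) (x : Y.obj S) : FPt (topAugTop Y) S where
  mem (U : Opens (Y.obj S)) := x ∈ U
  mono {V U} h hx := le_of_hom (X := Y.obj S) h hx
  nonempty := ⟨(⊤ : Opens (Y.obj S)), trivial⟩
  directed (U U' : Opens (Y.obj S)) h h' := ⟨(U ⊓ U' : Opens (Y.obj S)), ⟨h, h'⟩,
    ⟨(homOfLE inf_le_left : (U ⊓ U' : Opens (Y.obj S)) ⟶ U)⟩, ⟨(homOfLE inf_le_right : (U ⊓ U' : Opens (Y.obj S)) ⟶ U')⟩⟩
  cover (U : Opens (Y.obj S)) (R : Sieve U) hR hx := by
    obtain ⟨V, r, hr, hV⟩ := hR x hx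
    exact ⟨V, r, hr, hV⟩

/-- A point of a space of the part, as a point of its total site. -/
def partPt (j : Dᵒᵖ) (x : Y.obj ((toAug D).obj j)) : FPt (partTop (topAug Y) (topAugTop Y)) j where
  mem (U : Opens (Y.obj ((toAug D).obj j))) := x ∈ U
  mono {V U} h hx := le_of_hom (X := Y.obj ((toAug D).obj j)) h hx
  nonempty := ⟨(⊤ : Opens (Y.obj ((toAug D).obj j))), trivial⟩
  directed (U U' : Opens (Y.obj ((toAug D).obj j))) h h' := ⟨(U ⊓ U' : Opens (Y.obj ((toAug D).obj j))), ⟨h, h'⟩,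
    ⟨(homOfLE inf_le_left : (U ⊓ U' : Opens (Y.obj ((toAug D).obj j))) ⟶ U)⟩,
    ⟨(homOfLE inf_le_right : (U ⊓ U' : Opens (Y.obj ((toAug D).obj j))) ⟶ U')⟩⟩
  cover (U : Opens (Y.obj ((toAug D).obj j))) (R : Sieve U) hR hx := by
    obtain ⟨V, r, hr, hV⟩ := hR x hx
    exact ⟨V, r, hr, hV⟩

/-- A sieve of the total site of the part covers if it contains a neighbourhood of every point. -/
theorem mem_totPart {j : Dᵒᵖ} {U : Opens (Y.obj ((toAug D).obj j))} (S : Sieve (pObj Y j U))
    (h : ∀ x ∈ U, ∃ (W : Opens (Y.obj ((toAug D).obj j))) (_ : x ∈ W) (g : pObj Y j W ⟶ pObj Y j U),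
      g.base = 𝟙 j ∧ S g) : S ∈ totPart (topAug Y) (topAugTop Y) (pObj Y j U) := by
  rw [GrothLib.FibSite.mem_totalTopology_iff (isPreFibSite_part Y)]
  refine ⟨S.functorPullback (ι (part (topAug Y)) j), fun x hx => ?_, ?_⟩
  · obtain ⟨W, hxW, g, hg, hS⟩ := h x hx
    obtain ⟨κ, rfl⟩ := GrothLib.FibSite.exists_eq_ι_map (F := part (topAug Y)) g hg
    exact ⟨W, κ, hS, hxW⟩
  · exact (Sieve.functor_galoisConnection (ι (part (topAug Y)) j) (U : (part (topAug Y)).obj ⟨op j⟩)).l_u_le S

theorem isContinuous_eps : (eps (topAug Y)).IsContinuous ((topAugTop Y) (bot D)) (totAug (topAug Y) (topAugTop Y)) :=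
  GrothLib.FibSite.isContinuous_ι (isPreFibSite_aug Y) _

theorem isCocontinuous_incl :
    (incl (topAug Y)).IsCocontinuous (totPart (topAug Y) (topAugTop Y)) (totAug (topAug Y) (topAugTop Y)) where
  cover_lift {X T} hT := by
    obtain ⟨R, hR, hle⟩ := (GrothLib.FibSite.mem_totalTopology_iff (isPreFibSite_aug Y) _ T).1 hT
    rw [GrothLib.FibSite.mem_totalTopology_iff (isPreFibSite_part Y)]
    refine ⟨R, hR, ?_⟩
    rw [Sieve.functor_galoisConnection] at hle ⊢
    intro V r hr
    have h2 := hle _ hr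
    show T.arrows _
    refine Eq.mp (congrArg (fun g => T.arrows g) (aHom_ext Y ?_)) h2
    exact ((toAug D).map_id X.base).symm

theorem isContinuous_incl :
    (incl (topAug Y)).IsContinuous (totPart (topAug Y) (topAugTop Y)) (totAug (topAug Y) (topAugTop Y)) := by
  refine ⟨fun G => (GrothLib.FibSite.isSheaf_iff_types (isPreFibSite_part Y) _).2 fun j => ?_⟩
  have h := (GrothLib.FibSite.isSheaf_iff_types (isPreFibSite_aug Y) _).1
    ((isSheaf_iff_isSheaf_of_type _ _).1 G.property) ((toAug D).obj j)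
  refine Presieve.isSheaf_iso _ ?_ h
  exact NatIso.ofComponents (fun U => Iso.refl _) (fun {U V} g => by
    simp only [Functor.comp_map, Iso.refl_hom]
    refine (Category.comp_id _).trans (Eq.trans ?_ (Category.id_comp _).symm)
    refine congrArg (G.obj.map) (Quiver.Hom.unop_inj (aHom_ext Y ?_))
    exact ((toAug D).map_id j).symm)

theorem flat_eps : RepresentablyFlat (eps (topAug Y)) := by
  refine ⟨fun X => ?_⟩
  obtain ⟨S, U₀⟩ := X
  let U : Opens (Y.obj S) := U₀
  change IsCofiltered (StructuredArrow (aObj Y S U) (eps (topAug Y)))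
  let hbot : ∀ T : (WithInitial D)ᵒᵖ, ∀ a b : T ⟶ bot D, a = b := fun T a b =>
    Quiver.Hom.unop_inj (WithInitial.starInitial.hom_ext _ _)
  have hc : IsCofilteredOrEmpty (StructuredArrow (aObj Y S U) (eps (topAug Y))) := by
    constructor
    · intro A B
      let θ : S ⟶ bot D := A.hom.base
      let V : Opens (Y.obj (bot D)) := (A.right : Opens (Y.obj (bot D))) ⊓ B.right
      have hU : U ≤ (Opens.map (Y.map θ)).obj V := fun z hz =>
        ⟨le_of_aHom Y (A.hom : aObj Y S U ⟶ aObj Y (bot D) A.right) hz, by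
          have := le_of_aHom Y (B.hom : aObj Y S U ⟶ aObj Y (bot D) B.right) hz
          rwa [hbot _ θ B.hom.base]⟩
      exact ⟨StructuredArrow.mk (S := aObj Y S U) (Y := V) (aHom Y θ hU),
        StructuredArrow.homMk (homOfLE inf_le_left : V ⟶ A.right) (aHom_ext Y (hbot _ _ _)),
        StructuredArrow.homMk (homOfLE inf_le_right : V ⟶ B.right) (aHom_ext Y (hbot _ _ _)), trivial⟩
    · intro A B a b
      refine ⟨A, 𝟙 A, ?_⟩
      rw [Category.id_comp, Category.id_comp]
      exact StructuredArrow.ext _ _ (@Subsingleton.elim _ (thin_aug Y _ _ _) _ _)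
  exact { hc with
    nonempty := ⟨StructuredArrow.mk (S := aObj Y S U) (Y := (⊤ : Opens (Y.obj (bot D))))
      (aHom Y (Quiver.Hom.op (WithInitial.starInitial.to S.unop)) (fun _ _ => trivial))⟩ }

end GrothLib.CohDesc25
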