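import Groth.Agent.Lib.CohDesc25.DoubleCech

/-!
# Maps universally of cohomological descent
-/

set_option autoImplicit false
set_option backward.isDefEq.respectTransparency false
set_option backward.isDefEq.respectTransparency.types false

universe u

open CategoryTheory CategoryTheory.Limits Opposite TopologicalSpace

namespace GrothLib.CohDesc25

open FibDesc

variable {X Y S S' T : TopCat.{u}}

theorem isCohDescentMap_congr {f : X ⟶ S} {i : S' ⟶ S} {X₁ X₂ : TopCat.{u}} {a : X₁ ⟶ X} {f₁ : X₁ ⟶ S'}
    {b : X₂ ⟶ X} {f₂ : X₂ ⟶ S'} (h₁ : IsPullback a f₁ f i) (h₂ : IsPullback b f₂ f i)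
    (h : FibDesc.IsCohDescentMap f₁) : FibDesc.IsCohDescentMap f₂ :=
  isCohDescentTop_of_openRestr_single
    (openRestrOfSquare (IsPullback.of_right' (h₂₁ := 𝟙 S') (h₂₂ := i) (by rw [Category.id_comp]; exact h₁) h₂)
      (TopCat.homeoOfIso (Iso.refl S')).isOpenEmbedding)
    (fun s => ⟨s, rfl⟩) h

theorem isCohDescentMap_of_isPullback {f : X ⟶ S} {i : S' ⟶ S} {X' : TopCat.{u}} {a : X' ⟶ X} {f' : X' ⟶ S'}
    (sq : IsPullback a f' f i) (hf : FibDesc.IsUnivCohDescentMap f) : FibDesc.IsCohDescentMap f' :=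
  isCohDescentMap_congr (IsPullback.of_hasPullback f i) sq (hf S' i)

/-- Being universally of cohomological descent is stable under base change. -/
theorem isUnivCohDescentMap_of_isPullback {f : X ⟶ S} {i : S' ⟶ S} {X' : TopCat.{u}} {a : X' ⟶ X} {f' : X' ⟶ S'}
    (sq : IsPullback a f' f i) (hf : FibDesc.IsUnivCohDescentMap f) : FibDesc.IsUnivCohDescentMap f' :=
  fun _ z => isCohDescentMap_of_isPullback ((IsPullback.of_hasPullback f' z).paste_horiz sq) hf

/-- Descent can be tested after a base change universally of descent. -/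
theorem isCohDescentMap_snd_of_factor {f : X ⟶ S} (t : T ⟶ S) {V : TopCat.{u}} (v : V ⟶ T)
    (hv : FibDesc.IsUnivCohDescentMap v)
    (h : ∀ n : SimplexCategory, FibDesc.IsCohDescentMap (pullback.snd f (cBase v n ≫ t))) :
    FibDesc.IsCohDescentMap (pullback.snd f t) :=
  isCohDescentMap_of_baseChange_cech _ v hv fun n =>
    isCohDescentMap_congr (IsPullback.of_hasPullback f (cBase v n ≫ t))
      ((IsPullback.of_hasPullback (pullback.snd f t) (cBase v n)).paste_horiz (IsPullback.of_hasPullback f t)) (h n)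

/-- If a composite is universally of cohomological descent, so is the second map. -/
theorem isUnivCohDescentMap_of_comp (f : X ⟶ Y) (g : Y ⟶ S) (h : FibDesc.IsUnivCohDescentMap (f ≫ g)) :
    FibDesc.IsUnivCohDescentMap g := fun T t => by
  refine isCohDescentMap_snd_of_factor t (pullback.snd (f ≫ g) t)
    (isUnivCohDescentMap_of_isPullback (IsPullback.of_hasPullback _ _) h) fun n => ?_
  let w := cπ (pullback.snd (f ≫ g) t) n 0 ≫ pullback.fst (f ≫ g) t ≫ f
  have e : cBase (pullback.snd (f ≫ g) t) n ≫ t = w ≫ g := by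
    refine (congrArg (fun z => z ≫ t) (WidePullback.π_arrow (fun _ : Fin (n.len + 1) => pullback.snd (f ≫ g) t) 0).symm).trans ?_
    refine (Category.assoc _ _ _).trans ?_
    refine (congrArg (fun z => cπ (pullback.snd (f ≫ g) t) n 0 ≫ z) pullback.condition.symm).trans ?_
    simp [w]
  exact isCohDescentMap_of_section _ (pullback.lift w (𝟙 _) (by rw [Category.id_comp]; exact e.symm))
    (pullback.lift_snd _ _ _)

/-- Being universally of cohomological descent is local for maps universally of descent. -/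
theorem isUnivCohDescentMap_of_baseChange (f : X ⟶ S) (g : Y ⟶ S) (hg : FibDesc.IsUnivCohDescentMap g)
    (h : FibDesc.IsUnivCohDescentMap (pullback.snd f g)) : FibDesc.IsUnivCohDescentMap f := fun T t => by
  refine isCohDescentMap_snd_of_factor t (pullback.snd g t)
    (isUnivCohDescentMap_of_isPullback (IsPullback.of_hasPullback _ _) hg) fun n => ?_
  let w := cπ (pullback.snd g t) n 0 ≫ pullback.fst g t
  have e : cBase (pullback.snd g t) n ≫ t = w ≫ g := by
    refine (congrArg (fun z => z ≫ t) (WidePullback.π_arrow (fun _ : Fin (n.len + 1) => pullback.snd g t) 0).symm).trans ?_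
    refine (Category.assoc _ _ _).trans ?_
    refine (congrArg (fun z => cπ (pullback.snd g t) n 0 ≫ z) pullback.condition.symm).trans ?_
    exact (Category.assoc _ _ _).symm
  exact isCohDescentMap_congr
    (e ▸ (IsPullback.of_hasPullback (pullback.snd f g) w).paste_horiz (IsPullback.of_hasPullback f g))
    (IsPullback.of_hasPullback f _) (h _ w)

/-- A composite of maps universally of cohomological descent is one. -/
theorem isUnivCohDescentMap_comp (f : X ⟶ Y) (g : Y ⟶ S) (hf : FibDesc.IsUnivCohDescentMap f)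
    (hg : FibDesc.IsUnivCohDescentMap g) : FibDesc.IsUnivCohDescentMap (f ≫ g) := by
  refine isUnivCohDescentMap_of_baseChange _ g hg ?_
  let k : pullback f (𝟙 Y) ⟶ pullback (f ≫ g) g :=
    pullback.lift (pullback.fst _ _) (pullback.snd _ _) (by rw [← Category.assoc, pullback.condition, Category.comp_id])
  refine isUnivCohDescentMap_of_comp k _ ?_
  rw [show k ≫ pullback.snd (f ≫ g) g = pullback.snd f (𝟙 Y) from pullback.lift_snd _ _ _]
  exact isUnivCohDescentMap_of_isPullback (IsPullback.of_hasPullback _ _) hf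

theorem isUnivCohDescentMap_pullback_map {X X' Y Y' S : TopCat.{u}} (pX : X' ⟶ S) (pY : Y' ⟶ S)
    (f : X ⟶ X') (g : Y ⟶ Y') (hf : FibDesc.IsUnivCohDescentMap f) (hg : FibDesc.IsUnivCohDescentMap g) :
    FibDesc.IsUnivCohDescentMap
      (pullback.map (f ≫ pX) (g ≫ pY) pX pY f g (𝟙 S) (Category.comp_id _) (Category.comp_id _)) := by
  let m₁ : pullback (f ≫ pX) (g ≫ pY) ⟶ pullback pX (g ≫ pY) :=
    pullback.lift (pullback.fst _ _ ≫ f) (pullback.snd _ _) (by rw [Category.assoc, pullback.condition])
  let m₂ : pullback pX (g ≫ pY) ⟶ pullback pX pY :=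
    pullback.lift (pullback.fst _ _) (pullback.snd _ _ ≫ g) (by rw [Category.assoc, pullback.condition])
  have h₁ : IsPullback (pullback.fst (f ≫ pX) (g ≫ pY)) m₁ f (pullback.fst pX (g ≫ pY)) :=
    IsPullback.of_bot (h₂₁ := pullback.fst pX (g ≫ pY)) (v₂₂ := pX)
      (by rw [pullback.lift_snd]; exact IsPullback.of_hasPullback (f ≫ pX) (g ≫ pY))
      (pullback.lift_fst _ _ _).symm (IsPullback.of_hasPullback pX (g ≫ pY))
  have h₂ : IsPullback (pullback.snd pX (g ≫ pY)) m₂ g (pullback.snd pX pY) :=
    IsPullback.of_bot (h₂₁ := pullback.snd pX pY) (v₂₂ := pY)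
      (by rw [pullback.lift_fst]; exact (IsPullback.of_hasPullback pX (g ≫ pY)).flip)
      (pullback.lift_snd _ _ _).symm (IsPullback.of_hasPullback pX pY).flip
  have e : pullback.map (f ≫ pX) (g ≫ pY) pX pY f g (𝟙 S) (Category.comp_id _) (Category.comp_id _) = m₁ ≫ m₂ := by
    refine pullback.hom_ext ?_ ?_ <;> simp [m₁, m₂]
  rw [e]
  exact isUnivCohDescentMap_comp m₁ m₂ (isUnivCohDescentMap_of_isPullback h₁ hf)
    (isUnivCohDescentMap_of_isPullback h₂ hg)

end GrothLib.CohDesc25
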